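import Cfsg.Agent.Lib.InvTwoS6.Four

/-!
# Translations of `t` by `⟨a₁, a, z⟩`
-/

set_option autoImplicit false

namespace CfsgLib.InvTwoS6

/-- The label of an element of `⟨a₁, a, z⟩`. -/
def lH (j : Bool) (w : W2) : V3 × W2 := (((false, j), false), w)

theorem lH_mul : ∀ (j j' : Bool) (w w' : W2),
    mul3 (lH j w) (lH j' w') = lH (xor j j') (W2.add w w') := by decide

namespace Fr

variable {G : Type*} [Group G] {L : Type*} [Group L] (F : Fr G L)

/-- The element of `⟨a₁, a, z⟩` with given coordinates. -/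
def hv (j : Bool) (w : W2) : G := F.el (lH j w)

theorem hv_eq (j : Bool) (w : W2) : F.hv j w = pw F.A j * wv F.a F.z w := by
  simp [hv, lH, SRel.el3]

theorem hv_mul (j j' : Bool) (w w' : W2) :
    F.hv j w * F.hv j' w' = F.hv (xor j j') (W2.add w w') := by
  rw [hv, hv, hv, el_mul, lH_mul]

theorem hv_one : F.hv false (false, false) = 1 := by simp [hv_eq]

theorem hv_self (j : Bool) (w : W2) : F.hv j w * F.hv j w = 1 := by
  rw [hv_mul, ← hv_one F]
  obtain ⟨l, m⟩ := w
  cases j <;> cases l <;> cases m <;> rfl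

theorem hv_inj {j j' : Bool} {w w' : W2} (h : F.hv j w = F.hv j' w') : j = j' ∧ w = w' := by
  have := F.el_injective h
  simp only [lH, Prod.mk.injEq, true_and, and_true] at this
  exact this

theorem b_hv : F.b = F.hv false (true, true) := by simp [hv_eq, wv, b_eq]

theorem hv_b (j : Bool) (w : W2) : F.hv j w * F.b = F.hv j (W2.add w (true, true)) := by
  rw [b_hv, hv_mul, Bool.xor_false]

variable [Finite G]

/-- The subgroup `⟨a₁, a, z⟩`. -/
def H1 : Subgroup G :=
  ofClosed {x | ∃ j w, F.hv j w = x} ⟨false, (false, false), F.hv_one⟩ (by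
    rintro _ ⟨j, w, rfl⟩ _ ⟨j', w', rfl⟩
    exact ⟨_, _, (F.hv_mul j j' w w').symm⟩)

theorem hv_mem (j : Bool) (w : W2) : F.hv j w ∈ F.H1 := ⟨j, w, rfl⟩

theorem card_H1 : Nat.card F.H1 = 8 := by
  rw [← Nat.card_congr (Equiv.ofBijective (fun x : Bool × W2 => (⟨F.hv x.1 x.2, F.hv_mem _ _⟩ : F.H1))
    ⟨fun x y e => by
      obtain ⟨h1, h2⟩ := F.hv_inj (Subtype.ext_iff.1 e)
      exact Prod.ext h1 h2,
    fun ⟨g, j, w, e⟩ => ⟨(j, w), Subtype.ext e⟩⟩), Nat.card_eq_fintype_card]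
  rfl

theorem H1_le_S : F.H1 ≤ F.S := by
  rintro _ ⟨j, w, rfl⟩
  exact ⟨_, rfl⟩

theorem H1_comm {x y : G} (hx : x ∈ F.H1) (hy : y ∈ F.H1) : x * y = y * x := by
  obtain ⟨j, w, rfl⟩ := hx
  obtain ⟨j', w', rfl⟩ := hy
  rw [hv_mul, hv_mul, Bool.xor_comm]
  congr 1
  obtain ⟨l, m⟩ := w
  obtain ⟨l', m'⟩ := w'
  cases l <;> cases m <;> cases l' <;> cases m' <;> rfl

theorem t_hv (j : Bool) (w : W2) : F.t * F.hv j w = F.el (((true, j), false), w) := by
  rw [hv, ← el_t, el_mul]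
  obtain ⟨l, m⟩ := w
  congr 1
  cases j <;> cases l <;> cases m <;> rfl

theorem t_hv_mem_cls (hg : F.g.Both) (hd : F.lab = labTwo) (j : Bool) (w : W2) :
    F.t * F.hv j w ∈ cls F.t := by
  rw [t_hv, F.mem_cls_el hg, hd, inS_two]
  cases j <;> simp

/-- The translations. -/
def AG : Subgroup G :=
  ofClosed {g | cj g F.b = F.b ∧ (∃ h ∈ F.H1, cj g F.t = F.t * h) ∧
      ∀ h ∈ F.H1, cj g h = h ∨ cj g h = h * F.b}
    ⟨by simp [cj], ⟨1, one_mem _, by simp [cj]⟩, fun h _ => Or.inl (by simp [cj])⟩ (by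
    rintro x ⟨hxb, ⟨h, hh, hxt⟩, hx⟩ y ⟨hyb, ⟨h', hh', hyt⟩, hy⟩
    have hb : F.b ∈ F.H1 := by rw [b_hv]; exact F.hv_mem _ _
    have hmem : ∀ k ∈ F.H1, cj x k ∈ F.H1 := fun k hk => by
      rcases hx k hk with e | e <;> rw [e]
      · exact hk
      · exact mul_mem hk hb
    refine ⟨by rw [← cj_cj, hyb, hxb], ⟨h * cj x h', mul_mem hh (hmem _ hh'), ?_⟩, fun k hk => ?_⟩
    · rw [← cj_cj, hyt, cj_mul, hxt, mul_assoc]
    · rcases hy k hk with e | e <;> rcases hx k hk with e' | e' <;> rw [← cj_cj, e]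
      · exact Or.inl e'
      · exact Or.inr e'
      · exact Or.inr (by rw [cj_mul, e', hxb])
      · refine Or.inl ?_
        rw [cj_mul, e', hxb, mul_assoc, show F.b * F.b = 1 by rw [b_hv]; exact F.hv_self _ _,
          mul_one])

theorem mem_AG {g : G} : g ∈ F.AG ↔ cj g F.b = F.b ∧ (∃ h ∈ F.H1, cj g F.t = F.t * h) ∧
    ∀ h ∈ F.H1, cj g h = h ∨ cj g h = h * F.b := Iff.rfl

theorem cj_AG_H1 {g : G} (hgA : g ∈ F.AG) {h : G} (hh : h ∈ F.H1) : cj g h ∈ F.H1 := by
  rcases hgA.2.2 h hh with e | e <;> rw [e]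
  · exact hh
  · exact mul_mem hh (by rw [b_hv]; exact F.hv_mem _ _)

/-- The translation of an element. -/
def tau (g : G) : G := F.t * cj g F.t

theorem cj_t_tau (g : G) : cj g F.t = F.t * F.tau g := by
  rw [tau, ← mul_assoc, F.sq, one_mul]

theorem tau_mem {g : G} (hgA : g ∈ F.AG) : F.tau g ∈ F.H1 := by
  obtain ⟨h, hh, e⟩ := hgA.2.1
  rw [tau, e, ← mul_assoc, F.sq, one_mul]
  exact hh

theorem tau_mul (g g' : G) : F.tau (g * g') = F.tau g * cj g (F.tau g') := by
  rw [tau, ← cj_cj, cj_t_tau, cj_mul, ← mul_assoc]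
  rfl

theorem classA (hg : F.g.Both) :
    IsConj F.g.a (F.g.uf ((true, false), (false, false))) ∧
      IsConj F.g.z (F.g.uf ((true, false), (true, true))) :=
  ⟨hg.codes true false (false, false) rfl, hg.codes true false (true, true) rfl⟩

/-- Conjugation by elements of the centralizer on `⟨a₁, a, z⟩`. -/
theorem cj_pw_rho (i : Bool) (l x : L) :
    cj (pw F.t i * F.ρ l) (F.ρ x) = F.ρ (l * x * l⁻¹) := by
  cases i
  · simp [cj, map_mul, map_inv]
  · rw [pw_true, ← cj_cj, cj_of_comm (x := cj (F.ρ l) (F.ρ x)) (g := F.t)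
      (by simp only [cj, ← map_inv, ← map_mul]; exact F.comm _)]
    simp [cj, map_mul, map_inv]

theorem fix_of_AG (hg : F.g.Both) {g : G} (hgA : g ∈ F.AG) (ht : cj g F.t = F.t) :
    ∃ (i j : Bool) (w : W2), g = F.el (((i, j), false), w) := by
  obtain ⟨i, l, rfl⟩ := F.cent g (comm_of_cj ht)
  have key : ∀ x y : L, ¬ IsConj x y → F.ρ x ∈ F.H1 → F.ρ x * F.b = F.ρ y → l * x = x * l := by
    intro x y hne hx hxy
    rcases hgA.2.2 _ hx with e | e
    · rw [cj_pw_rho] at e
      exact (mul_inv_eq_iff_eq_mul.1 (F.inj e))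
    · rw [cj_pw_rho, hxy] at e
      exact absurd (isConj_iff.2 ⟨l, F.inj e⟩) hne
  have ha : F.a = F.hv false (true, false) := by simp [hv_eq, wv]
  have hz : F.z = F.hv false (false, true) := by simp [hv_eq, wv]
  have hA : F.A = F.hv true (false, false) := by simp [hv_eq]
  have c1 := key F.g.a F.g.z F.side.ncaz (show F.a ∈ F.H1 by rw [ha]; exact F.hv_mem _ _) (by
    show F.a * F.b = F.z
    rw [ha, hv_b, hz]; rfl)
  have c2 := key F.g.z F.g.a (fun e => F.side.ncaz e.symm)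
    (show F.z ∈ F.H1 by rw [hz]; exact F.hv_mem _ _) (by
    show F.z * F.b = F.a
    rw [hz, hv_b, ha]; rfl)
  have c3 := key F.g.a1 (F.g.uf ((true, false), (true, true))) (fun e => F.side.ncaz (by
      obtain ⟨h1, h2⟩ := F.classA hg
      rw [show F.g.uf ((true, false), (false, false)) = F.g.a1 by simp [Gens.uf, wv]] at h1
      exact (h1.trans e).trans h2.symm))
    (show F.A ∈ F.H1 by rw [hA]; exact F.hv_mem _ _) (by
    show F.A * F.b = F.ρ (F.g.uf ((true, false), (true, true)))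
    rw [map_uf, show F.A * F.b = F.hv true (true, true) by rw [hA, hv_b]; rfl, hv_eq]
    simp)
  obtain ⟨j, w, hw⟩ := F.side.centH l c1 c2 c3
  exact ⟨i, j, w, by rw [F.el_eq, ← hw]⟩

theorem el_E_mem_AG (i j : Bool) (w : W2) : F.el (((i, j), false), w) ∈ F.AG := by
  have hc : ∀ (j' : Bool) (w' : W2),
      cj (F.el (((i, j), false), w)) (F.hv j' w') = F.hv j' w' := fun j' w' => by
    apply cj_of_comm
    rw [hv, el_mul, el_mul]
    congr 1
    obtain ⟨l, m⟩ := w
    obtain ⟨l', m'⟩ := w'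
    cases i <;> cases j <;> cases l <;> cases m <;> cases j' <;> cases l' <;> cases m' <;> rfl
  refine ⟨by rw [b_hv]; exact hc _ _, ⟨1, one_mem _, ?_⟩, ?_⟩
  · rw [mul_one]
    exact cj_of_comm (F.commute_t_of_mem ⟨_, rfl⟩)
  · rintro _ ⟨j', w', rfl⟩
    exact Or.inl (hc _ _)

/-- `⟨t, a₁, a, z⟩`. -/
def E1 : Subgroup G :=
  ofClosed {x | ∃ (i j : Bool) (w : W2), F.el (((i, j), false), w) = x}
    ⟨false, false, (false, false), F.el_one⟩ (by
    rintro _ ⟨i, j, w, rfl⟩ _ ⟨i', j', w', rfl⟩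
    refine ⟨xor i i', xor j j', W2.add w w', ?_⟩
    rw [el_mul]
    congr 1
    obtain ⟨l, m⟩ := w
    obtain ⟨l', m'⟩ := w'
    cases i <;> cases j <;> cases l <;> cases m <;> cases i' <;> cases j' <;> cases l' <;>
      cases m' <;> rfl)

theorem card_E1 : Nat.card F.E1 = 16 := by
  rw [← Nat.card_congr (Equiv.ofBijective
    (fun x : (Bool × Bool) × W2 => (⟨F.el ((x.1, false), x.2), x.1.1, x.1.2, x.2, rfl⟩ : F.E1))
    ⟨fun x y e => by
      have h := F.el_injective (Subtype.ext_iff.1 e)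
      simp only [Prod.mk.injEq, and_true] at h
      exact Prod.ext h.1 h.2,
    fun ⟨g, i, j, w, e⟩ => ⟨((i, j), w), Subtype.ext e⟩⟩), Nat.card_eq_fintype_card]
  rfl

theorem mem_E1_iff (hg : F.g.Both) {g : G} : g ∈ F.E1 ↔ g ∈ F.AG ∧ g * F.t = F.t * g := by
  constructor
  · rintro ⟨i, j, w, rfl⟩
    exact ⟨F.el_E_mem_AG i j w, F.commute_t_of_mem ⟨_, rfl⟩⟩
  · rintro ⟨hgA, hc⟩
    obtain ⟨i, j, w, e⟩ := F.fix_of_AG hg hgA (cj_of_comm hc)
    exact ⟨i, j, w, e.symm⟩

/-- The order of the group of translations. -/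
theorem card_AG (hg : F.g.Both) :
    Nat.card F.AG = Nat.card {h : G // ∃ k ∈ F.AG, F.tau k = h} * 16 := by
  have h := card_orbit_mul F.AG F.E1 F.t {u | ∃ k ∈ F.AG, k⁻¹ * F.t * k = u}
    (fun u => Iff.rfl) (fun x => F.mem_E1_iff hg)
  rw [F.card_E1] at h
  rw [← h]
  congr 1
  refine Nat.card_congr ((Equiv.mulLeft F.t).subtypeEquiv fun u => ?_)
  constructor
  · rintro ⟨k, hk, rfl⟩
    refine ⟨k⁻¹, inv_mem hk, ?_⟩
    rw [tau, cj, inv_inv]
    rfl
  · rintro ⟨k, hk, e⟩
    refine ⟨k⁻¹, inv_mem hk, ?_⟩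
    rw [tau, show (Equiv.mulLeft F.t) u = F.t * u from rfl, mul_left_cancel_iff] at e
    rw [inv_inv]
    exact e

theorem cj_conj_AG {s g : G} (hst : cj s F.t = F.t) (hsb : cj s F.b = F.b)
    (hsH : ∀ h ∈ F.H1, cj s h ∈ F.H1) (hgA : g ∈ F.AG) :
    cj s g ∈ F.AG ∧ F.tau (cj s g) = cj s (F.tau g) := by
  have hconj : ∀ x, cj (cj s g) (cj s x) = cj s (cj g x) := fun x => by simp only [cj]; group
  have ht : cj (cj s g) F.t = F.t * cj s (F.tau g) := by
    conv_lhs => arg 2; rw [← hst]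
    rw [hconj, cj_t_tau, cj_mul, hst]
  refine ⟨⟨?_, ⟨_, hsH _ (F.tau_mem hgA), ht⟩, fun h hh => ?_⟩, ?_⟩
  · conv_lhs => arg 2; rw [← hsb]
    rw [hconj, hgA.1, hsb]
  · obtain ⟨u, rfl⟩ : ∃ u : F.H1, cj s u.1 = h := by
      have hinj : Function.Injective (fun u : F.H1 => (⟨cj s u.1, hsH _ u.2⟩ : F.H1)) := fun u v e =>
        Subtype.ext (cj_inj (Subtype.ext_iff.1 e))
      obtain ⟨u, hu⟩ := Finite.injective_iff_surjective.1 hinj ⟨h, hh⟩
      exact ⟨u, congrArg Subtype.val hu⟩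
    rw [hconj]
    rcases hgA.2.2 u.1 u.2 with e | e <;> rw [e]
    · exact Or.inl rfl
    · exact Or.inr (by rw [cj_mul, hsb])
  · rw [tau, ht, ← mul_assoc, F.sq, one_mul]

/-- An element of order three permuting the involutions of `⟨a₁, a, z⟩`. -/
theorem exists_sigma : ∃ s : G, cj s F.t = F.t ∧ cj s F.b = F.b ∧
    (∀ h ∈ F.H1, cj s h ∈ F.H1) ∧
      cj s (F.hv false (true, false)) = F.hv true (false, false) ∧
      cj s (F.hv true (false, false)) = F.hv true (false, true) ∧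
      cj s (F.hv false (false, true)) = F.hv true (true, true) ∧
      cj s (F.hv true (true, true)) = F.hv true (true, false) := by
  obtain ⟨σ, -, s1, s2, s3⟩ := F.side.sigma
  have ha : F.a = F.hv false (true, false) := by simp [hv_eq, wv]
  have hA : F.A = F.hv true (false, false) := by simp [hv_eq]
  have hAz : F.ρ (F.g.a1 * F.g.z) = F.hv true (false, true) := by
    rw [map_mul]; simp [hv_eq, wv]; rfl
  set s := F.ρ σ
  have st : cj s F.t = F.t := cj_of_comm (F.comm σ).symm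
  have e1 : cj s (F.hv false (true, false)) = F.hv true (false, false) := by
    rw [← ha, ← hA]
    simp only [s, a, A, cj, ← map_mul, ← map_inv, s3]
  have e2 : cj s (F.hv true (false, false)) = F.hv true (false, true) := by
    rw [← hA, ← hAz]
    simp only [s, A, cj, ← map_mul, ← map_inv, s1]
  have e3 : cj s (F.hv true (false, true)) = F.hv false (true, false) := by
    rw [← hAz, ← ha]
    simp only [s, a, cj]
    rw [← map_inv, ← map_mul, ← map_mul, s2]
  have ez : cj s (F.hv false (false, true)) = F.hv true (true, true) := by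
    rw [show F.hv false (false, true) = F.hv true (false, false) * F.hv true (false, true) by
      rw [hv_mul]; rfl, cj_mul, e2, e3, hv_mul]
    rfl
  have eb : cj s F.b = F.b := by
    rw [b_hv, show F.hv false (true, true) = F.hv false (true, false) * F.hv false (false, true) by
      rw [hv_mul]; rfl, cj_mul, e1, ez, hv_mul, hv_mul]
    rfl
  refine ⟨s, st, eb, ?_, e1, e2, ez, ?_⟩
  · rintro _ ⟨j, ⟨l, m⟩, rfl⟩
    rw [hv_eq, wv, cj_mul, cj_mul, cj_pw, cj_pw, cj_pw,
      show F.z = F.hv false (false, true) by simp [hv_eq, wv], hA, ha, e1, e2, ez]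
    refine mul_mem ?_ (mul_mem ?_ ?_)
    · cases j
      · exact one_mem _
      · exact F.hv_mem _ _
    · cases l
      · exact one_mem _
      · exact F.hv_mem _ _
    · cases m
      · exact one_mem _
      · exact F.hv_mem _ _
  · rw [show F.hv true (true, true) = F.hv true (false, false) * F.b by
      rw [hv_b]; rfl, cj_mul, eb, e2, hv_b]
    rfl

/-- `c₁` acting on the translations. -/
theorem C_data : cj F.C F.t = F.t ∧ cj F.C F.b = F.b ∧
    ∀ (j : Bool) (w : W2), cj F.C (F.hv j w) = F.hv j (W2.add w (false, j)) := by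
  have h : ∀ (j : Bool) (w : W2), cj F.C (F.hv j w) = F.hv j (W2.add w (false, j)) := fun j w => by
    rw [C_el, hv, hv, cj_el_el]
    congr 1
    obtain ⟨l, m⟩ := w
    cases j <;> cases l <;> cases m <;> rfl
  exact ⟨cj_of_comm F.rel.Ct, by rw [b_hv]; exact h _ _, h⟩

theorem C_conj_AG {g : G} (hgA : g ∈ F.AG) :
    cj F.C g ∈ F.AG ∧ F.tau (cj F.C g) = cj F.C (F.tau g) := by
  obtain ⟨h1, h2, h3⟩ := F.C_data
  refine F.cj_conj_AG h1 h2 ?_ hgA
  rintro _ ⟨j, w, rfl⟩
  rw [h3]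
  exact F.hv_mem _ _

theorem C_notMem_AG (hg : F.g.Both) : F.C ∉ F.AG := fun h => by
  obtain ⟨i, j, w, e⟩ := F.fix_of_AG hg h F.C_data.1
  rw [C_el] at e
  have := congrArg (fun v : V3 × W2 => v.1.2) (F.el_injective e)
  simp at this

/-- The translations extended by `c₁`. -/
def PG : Subgroup G :=
  ofClosed {g | g ∈ F.AG ∨ F.C * g ∈ F.AG} (Or.inl (one_mem _)) (by
    have hC : F.C * F.C = 1 := F.rel.hC
    have hi : F.C⁻¹ = F.C := inv_eq_of_mul_eq_one_right hC
    have hn : ∀ g ∈ F.AG, F.C * g * F.C ∈ F.AG := fun g h => by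
      have := (F.C_conj_AG h).1
      rwa [cj, hi] at this
    rintro x (hx | hx) y (hy | hy)
    · exact Or.inl (mul_mem hx hy)
    · refine Or.inr ?_
      have := mul_mem (hn x hx) hy
      rwa [show F.C * x * F.C * (F.C * y) = F.C * (x * y) by
        rw [mul_assoc (F.C * x), ← mul_assoc F.C F.C, hC, one_mul, mul_assoc]] at this
    · refine Or.inr ?_
      have := mul_mem hx hy
      rwa [mul_assoc] at this
    · refine Or.inl ?_
      have := mul_mem (hn _ hx) hy
      rwa [show F.C * (F.C * x) * F.C * (F.C * y) = x * y by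
        rw [← mul_assoc F.C F.C x, hC, one_mul, mul_assoc x, ← mul_assoc F.C F.C, hC,
          one_mul]] at this)

theorem card_PG (hg : F.g.Both) : Nat.card F.PG = 2 * Nat.card F.AG := by
  have hC : F.C * F.C = 1 := F.rel.hC
  let f : Bool × F.AG → F.PG := fun x => ⟨pw F.C x.1 * x.2.1, by
    cases x.1
    · exact Or.inl (by rw [pw_false, one_mul]; exact x.2.2)
    · exact Or.inr (by rw [pw_true, ← mul_assoc, hC, one_mul]; exact x.2.2)⟩
  rw [← Nat.card_congr (Equiv.ofBijective f ⟨?_, ?_⟩), Nat.card_prod, Nat.card_eq_fintype_card,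
    Fintype.card_bool]
  · rintro ⟨i, x, hx⟩ ⟨i', y, hy⟩ e
    have e' : pw F.C i * x = pw F.C i' * y := Subtype.ext_iff.1 e
    cases i <;> cases i' <;> simp only [pw_true, pw_false, one_mul, mul_right_inj] at e'
    · subst e'; rfl
    · exfalso
      apply F.C_notMem_AG hg
      have := mul_mem hx (inv_mem hy)
      rwa [e', mul_inv_cancel_right] at this
    · exfalso
      apply F.C_notMem_AG hg
      have := mul_mem hy (inv_mem hx)
      rwa [← e', mul_inv_cancel_right] at this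
    · subst e'; rfl
  · rintro ⟨g, hgA | hgA⟩
    · exact ⟨(false, ⟨g, hgA⟩), Subtype.ext (one_mul g)⟩
    · refine ⟨(true, ⟨F.C * g, hgA⟩), Subtype.ext ?_⟩
      show F.C * (F.C * g) = g
      rw [← mul_assoc, hC, one_mul]

/-- Conjugates of `t` outside the translations move `t` inside `t ⟨a, z⟩`. -/
theorem cj_t_of_cls {u : G} (hu : u ∈ cls F.t) (hCu : F.C * u ∈ F.AG) :
    ∃ w, cj u F.t = F.ce (true, w) := by
  obtain ⟨h1, h2, h3⟩ := F.C_data
  obtain ⟨j, w, hw⟩ := F.tau_mem hCu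
  have hu2 : u * u = 1 := sq_of_mem_cls F.sq hu
  have hsplit : ∀ x, cj u x = cj F.C (cj (F.C * u) x) := fun x => by
    rw [cj_cj, ← mul_assoc, F.rel.hC, one_mul]
  have e1 : cj u F.t = F.t * F.hv j (W2.add w (false, j)) := by
    rw [hsplit, cj_t_tau, cj_mul, h1, ← hw, h3]
  set x := F.hv j (W2.add w (false, j)) with hx
  have e2 : cj u x = x := by
    have h := congrArg (cj u) e1
    rw [cj_cj, hu2, show cj 1 F.t = F.t by simp [cj], cj_mul, e1, mul_assoc] at h
    have h' : x * cj u x = 1 :=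
      mul_left_cancel (a := F.t) (h.symm.trans (mul_one _).symm)
    exact (inv_eq_of_mul_eq_one_right h').symm.trans (inv_eq_of_mul_eq_one_right (F.hv_self _ _))
  rw [hsplit] at e2
  have hj : j = false := by
    rcases hCu.2.2 x (F.hv_mem _ _) with e | e <;> rw [e, hx] at e2
    · rw [h3] at e2
      have := (F.hv_inj e2).2
      obtain ⟨l, m⟩ := w
      revert this
      cases j <;> cases l <;> cases m <;> decide
    · rw [hv_b, h3] at e2
      have := (F.hv_inj e2).2
      obtain ⟨l, m⟩ := w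
      revert this
      cases j <;> cases l <;> cases m <;> decide
  subst hj
  refine ⟨W2.add w (false, false), ?_⟩
  rw [e1, hx, t_hv]
  rfl

/-- An element of `PG` moving `t` as an element of the normalizer does lies in the normalizer. -/
theorem mem_NS_of_PG (hg : F.g.Both) {u n : G} (hu : u ∈ F.PG) (hn : n ∈ F.PG) (hnS : n ∈ F.NS)
    (e : cj u F.t = cj n F.t) : u ∈ F.NS := by
  have hx : cj (n⁻¹ * u) F.t = F.t := by
    rw [← cj_cj, e, cj_cj, inv_mul_cancel]; simp [cj]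
  have hS : n⁻¹ * u ∈ F.S := by
    rcases (mul_mem (inv_mem hn) hu : n⁻¹ * u ∈ F.PG) with h | h
    · obtain ⟨i, j, w, e⟩ := F.fix_of_AG hg h hx
      exact e ▸ ⟨_, rfl⟩
    · have hC : cj F.C F.t = F.t := F.C_data.1
      obtain ⟨i, j, w, e⟩ := F.fix_of_AG hg h (by rw [← cj_cj, hx, hC])
      have : n⁻¹ * u = F.C * F.el (((i, j), false), w) := by
        rw [← e, ← mul_assoc, F.rel.hC, one_mul]
      rw [this]
      exact mul_mem ⟨_, F.C_el.symm⟩ ⟨_, rfl⟩
  have := mul_mem hnS ((Subgroup.le_normalizer : F.S ≤ F.NS) hS)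
  rwa [mul_inv_cancel_left] at this

/-- The number of conjugates of `t` with a given translation. -/
noncomputable def nTau (h : G) : ℕ :=
  Nat.card {u : G // u ∈ cls F.t ∧ u ∈ F.AG ∧ F.tau u = h}

theorem nTau_le {s : G} (hst : cj s F.t = F.t) (hsb : cj s F.b = F.b)
    (hsH : ∀ h ∈ F.H1, cj s h ∈ F.H1) (h : G) : F.nTau h ≤ F.nTau (cj s h) :=
  Nat.card_le_card_of_injective
    (fun u => ⟨cj s u.1, cj_mem_cls u.2.1, (F.cj_conj_AG hst hsb hsH u.2.2.1).1, by
      rw [(F.cj_conj_AG hst hsb hsH u.2.2.1).2, u.2.2.2]⟩)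
    fun u v e => Subtype.ext (cj_inj (Subtype.ext_iff.1 e))

end Fr

end CfsgLib.InvTwoS6
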