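import Cfsg.Agent.Lib.InvTwoS6.AGroup
import Mathlib.Data.Finset.Card
import Mathlib.Data.Fintype.Powerset
import Mathlib.Data.Fintype.Sigma

/-!
# Cosets of `⟨a₁, a, z⟩` permuted by the normalizer of the translations
-/

set_option autoImplicit false

namespace CfsgLib.InvTwoS6

/-- The permutation of the translations induced by the element of order three. -/
def sgm : Bool × W2 → Bool × W2
  | (j, (l, m)) => (xor (xor j l) m, (m, xor j m))

set_option synthInstance.maxSize 2048 in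
theorem sgm_orbits : ∀ S : Finset (Bool × W2), (∀ x ∈ S, sgm x ∈ S) → (false, (false, false)) ∈ S →
    ((false, (true, false)) ∈ S ∨ (false, (false, true)) ∈ S) →
    S.card = 4 ∨ S.card = 5 ∨ S.card = 7 ∨ S.card = 8 := by
  decide +kernel

namespace Fr

variable {G : Type*} [Group G] {L : Type*} [Group L] (F : Fr G L) [Finite G]

/-- The coset of an element. -/
def blk (u : G) : Set G := {y | u⁻¹ * y ∈ F.H1}

theorem blk_eq_iff {u v : G} : F.blk u = F.blk v ↔ u⁻¹ * v ∈ F.H1 := by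
  constructor
  · intro h
    have : v ∈ F.blk v := by simp [blk, one_mem]
    rw [← h] at this
    exact this
  · intro h
    ext y
    simp only [blk, Set.mem_ofPred_eq]
    constructor
    · intro hy
      have := mul_mem (inv_mem h) hy
      rwa [mul_inv_rev, inv_inv, mul_assoc, mul_inv_cancel_left] at this
    · intro hy
      have := mul_mem h hy
      rwa [mul_assoc, mul_inv_cancel_left] at this

theorem blk_cj {g u v : G} (hg : ∀ k ∈ F.H1, cj g k ∈ F.H1) (h : u⁻¹ * v ∈ F.H1) :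
    (cj g u)⁻¹ * cj g v ∈ F.H1 := by
  have := hg _ h
  rwa [cj_mul, show cj g u⁻¹ = (cj g u)⁻¹ by simp only [cj]; group] at this

/-- The normalizer of the translations and of `⟨a₁, a, z⟩`. -/
def LG : Subgroup G :=
  Subgroup.normalizer (F.AG : Set G) ⊓ Subgroup.normalizer (F.H1 : Set G)

theorem LG_H1 {g : G} (hg : g ∈ F.LG) {k : G} (hk : k ∈ F.H1) : cj g k ∈ F.H1 :=
  (Subgroup.mem_normalizer_iff.1 hg.2 k).1 hk

theorem LG_AG {g : G} (hg : g ∈ F.LG) {k : G} (hk : k ∈ F.AG) : cj g k ∈ F.AG :=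
  (Subgroup.mem_normalizer_iff.1 hg.1 k).1 hk

theorem mem_LG {g : G} (h1 : ∀ k ∈ F.AG, cj g k ∈ F.AG) (h2 : ∀ k ∈ F.H1, cj g k ∈ F.H1) :
    g ∈ F.LG :=
  ⟨mem_normalizer_of_maps h1, mem_normalizer_of_maps h2⟩

theorem t_mem_AG : F.t ∈ F.AG := by
  have := F.el_E_mem_AG true false (false, false)
  rwa [F.el_t] at this

theorem AG_le_LG : F.AG ≤ F.LG := fun g hgA =>
  F.mem_LG (fun k hk => mul_mem (mul_mem hgA hk) (inv_mem hgA)) fun _ hk => F.cj_AG_H1 hgA hk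

theorem C_mem_LG : F.C ∈ F.LG :=
  F.mem_LG (fun _ hk => (F.C_conj_AG hk).1) (by
    rintro _ ⟨j, w, rfl⟩
    rw [F.C_data.2.2]
    exact F.hv_mem _ _)

/-- The stabilizer of the coset of `t`. -/
def StT : Subgroup G :=
  ofClosed {g | g ∈ F.LG ∧ F.t⁻¹ * cj g F.t ∈ F.H1} ⟨one_mem _, by simp [cj, one_mem]⟩ (by
    rintro x ⟨hx, hx'⟩ y ⟨hy, hy'⟩
    refine ⟨mul_mem hx hy, ?_⟩
    have := mul_mem hx' (F.blk_cj (g := x) (fun k hk => F.LG_H1 hx hk) hy')
    rwa [cj_cj, mul_assoc, mul_inv_cancel_left] at this)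

theorem StT_le_LG : F.StT ≤ F.LG := fun _ h => h.1

theorem PG_le_StT : F.PG ≤ F.StT := by
  have hA : F.AG ≤ F.StT := fun g hgA => ⟨F.AG_le_LG hgA, by
    rw [cj_t_tau, inv_mul_cancel_left]; exact F.tau_mem hgA⟩
  have hC : F.C ∈ F.StT := ⟨F.C_mem_LG, by rw [F.C_data.1, inv_mul_cancel]; exact one_mem _⟩
  rintro g (hgA | hgA)
  · exact hA hgA
  · have := mul_mem hC (hA hgA)
    rwa [← mul_assoc, F.rel.hC, one_mul] at this

/-- The cosets in the orbit of the coset of `t`. -/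
def orbT : Set (Set G) := {B | ∃ g ∈ F.LG, F.blk (cj g F.t) = B}

theorem card_orbT : Nat.card F.orbT * Nat.card F.StT = Nat.card F.LG := by
  classical
  let f : F.LG → F.orbT := fun g => ⟨F.blk (cj g F.t), g, g.2, rfl⟩
  have e : ∀ B : F.orbT, Nonempty ({g // f g = B} ≃ F.StT) := fun B => by
    obtain ⟨g₀, hg₀, hB⟩ := B.2
    have hmaps : ∀ k ∈ F.H1, cj g₀ k ∈ F.H1 := fun k hk => F.LG_H1 hg₀ hk
    have hmaps' : ∀ k ∈ F.H1, cj g₀⁻¹ k ∈ F.H1 := fun k hk => F.LG_H1 (inv_mem hg₀) hk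
    refine ⟨{
      toFun := fun g => ⟨g₀⁻¹ * g.1.1, mul_mem (inv_mem hg₀) g.1.2, ?_⟩
      invFun := fun c => ⟨⟨g₀ * c.1, mul_mem hg₀ c.2.1⟩, ?_⟩
      left_inv := fun g => Subtype.ext (Subtype.ext (mul_inv_cancel_left g₀ g.1.1))
      right_inv := fun c => Subtype.ext (inv_mul_cancel_left g₀ c.1) }⟩
    · have h : F.blk (cj g₀ F.t) = F.blk (cj g.1.1 F.t) :=
        hB.trans (congrArg Subtype.val g.2).symm
      have := F.blk_cj hmaps' ((F.blk_eq_iff).1 h)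
      rwa [cj_cj, cj_cj, inv_mul_cancel, show cj 1 F.t = F.t by simp [cj]] at this
    · apply Subtype.ext
      show F.blk (cj (g₀ * c.1) F.t) = B.1
      rw [← hB, eq_comm, blk_eq_iff, ← cj_cj]
      exact F.blk_cj hmaps c.2.2
  rw [← Nat.card_prod]
  exact Nat.card_congr ((Equiv.sigmaEquivProd _ _).symm.trans
    ((Equiv.sigmaCongrRight fun u => (e u).some.symm).trans (Equiv.sigmaFiberEquiv f)))

/-- At most one coset of conjugates of `t` above each translation. -/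
def OneBlock : Prop :=
  ∀ u v, u ∈ cls F.t → u ∈ F.AG → v ∈ cls F.t → v ∈ F.AG → F.tau u = F.tau v → u⁻¹ * v ∈ F.H1

theorem tau_mul_H1 (u : G) {k : G} (hk : k ∈ F.H1) : F.tau (u * k) = F.tau u := by
  rw [tau, tau, ← cj_cj]
  congr 2
  exact cj_of_comm (F.commute_t_of_mem (F.H1_le_S hk))

open scoped Classical in
/-- The translations of the cosets in the orbit. -/
noncomputable def tauOrb : Finset (Bool × W2) :=
  Finset.univ.filter fun x => ∃ g ∈ F.LG, F.tau (cj g F.t) = F.hv x.1 x.2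

theorem card_tauOrb (h1 : F.OneBlock) : F.tauOrb.card = Nat.card F.orbT := by
  classical
  rw [← Nat.card_eq_finsetCard]
  refine Nat.card_congr (Equiv.ofBijective (fun x : F.tauOrb =>
    (⟨F.blk (cj ((Finset.mem_filter.1 x.2).2.choose) F.t), _,
      (Finset.mem_filter.1 x.2).2.choose_spec.1, rfl⟩ : F.orbT)) ⟨?_, ?_⟩)
  · intro x y e
    have h := (F.blk_eq_iff).1 (congrArg Subtype.val e)
    have hx := (Finset.mem_filter.1 x.2).2.choose_spec.2
    have hy := (Finset.mem_filter.1 y.2).2.choose_spec.2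
    have := F.tau_mul_H1 (cj ((Finset.mem_filter.1 x.2).2.choose) F.t) h
    rw [mul_inv_cancel_left, hx, hy] at this
    obtain ⟨e1, e2⟩ := F.hv_inj this
    exact (Subtype.ext (Prod.ext e1 e2)).symm
  · rintro ⟨_, g, hgL, rfl⟩
    obtain ⟨j, w, e⟩ := F.tau_mem (F.LG_AG hgL F.t_mem_AG)
    have hm : (j, w) ∈ F.tauOrb := Finset.mem_filter.2 ⟨Finset.mem_univ _, g, hgL, e.symm⟩
    refine ⟨⟨(j, w), hm⟩, Subtype.ext ((F.blk_eq_iff).2 ?_)⟩
    have hs := (Finset.mem_filter.1 hm).2.choose_spec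
    exact h1 _ _ (cj_mem_cls (self_mem_cls _)) (F.LG_AG hs.1 F.t_mem_AG)
      (cj_mem_cls (self_mem_cls _)) (F.LG_AG hgL F.t_mem_AG) (hs.2.trans e)

theorem tauOrb_closed : ∀ x ∈ F.tauOrb, sgm x ∈ F.tauOrb := by
  classical
  obtain ⟨s, st, sb, sH, s1, s2, s3, -⟩ := F.exists_sigma
  intro x hx
  obtain ⟨g, hgL, e⟩ := (Finset.mem_filter.1 hx).2
  have hsL : s ∈ F.LG := F.mem_LG (fun k hk => (F.cj_conj_AG st sb sH hk).1) sH
  refine Finset.mem_filter.2 ⟨Finset.mem_univ _, s * g, mul_mem hsL hgL, ?_⟩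
  rw [← cj_cj, (F.cj_conj_AG st sb sH (F.LG_AG hgL F.t_mem_AG)).2, e]
  obtain ⟨j, l, m⟩ := x
  have hdec : F.hv j (l, m) = pw (F.hv true (false, false)) j *
      (pw (F.hv false (true, false)) l * pw (F.hv false (false, true)) m) := by
    cases j <;> cases l <;> cases m <;> simp [hv_mul, W2.add, hv_one]
  rw [hdec, cj_mul, cj_mul, cj_pw, cj_pw, cj_pw, s1, s2, s3]
  cases j <;> cases l <;> cases m <;> simp [hv_mul, W2.add, hv_one, sgm]

/-- Every translation centralizes `⟨a₁, a, z⟩` and squares into it. -/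
def Elem : Prop := ∀ g ∈ F.AG, (∀ k ∈ F.H1, cj g k = k) ∧ g * g ∈ F.H1

variable {F}

theorem Elem.blk (hE : F.Elem) {g v : G} (hgA : g ∈ F.AG) (hv : v ∈ F.AG) :
    v⁻¹ * cj g v ∈ F.H1 := by
  have h1 : g * v * (g * v) ∈ F.H1 := (hE _ (mul_mem hgA hv)).2
  have h2 := inv_mem (hE g hgA).2
  have h3 := inv_mem (hE v hv).2
  have key : g * v * g⁻¹ * v⁻¹ ∈ F.H1 := by
    have e2 : g * v * g⁻¹ * v⁻¹ =
        g * v * (g * v) * cj v⁻¹ (g * g)⁻¹ * (v * v)⁻¹ := by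
      simp only [cj]; group
    rw [e2, (hE _ (inv_mem hv)).1 _ h2]
    exact mul_mem (mul_mem h1 h2) h3
  have := (hE _ (inv_mem hv)).1 _ key
  rw [cj, inv_inv] at this
  rw [← this] at key
  simp only [cj]
  convert key using 1
  group

theorem Elem.mem_LG (hE : F.Elem) {h x : G} (hx : x ∈ F.AG) (hH : ∀ k ∈ F.H1, cj h k ∈ F.H1)
    (hht : x⁻¹ * cj h F.t ∈ F.H1) (hhx : F.t⁻¹ * cj h x ∈ F.H1) : h ∈ F.LG := by
  refine F.mem_LG (fun g hgA => ?_) hH
  have hH' : ∀ k ∈ F.H1, cj h⁻¹ k ∈ F.H1 := fun k hk =>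
    (Subgroup.mem_normalizer_iff.1 (inv_mem (mem_normalizer_of_maps hH)) k).1 hk
  have hfix : ∀ k ∈ F.H1, cj (cj h g) k = k := fun k hk => by
    rw [show cj (cj h g) k = cj h (cj g (cj h⁻¹ k)) by simp only [cj]; group,
      (hE g hgA).1 _ (hH' k hk), cj_cj, mul_inv_cancel]
    simp [cj]
  refine ⟨hfix _ (by rw [b_hv]; exact F.hv_mem _ _), ⟨F.t⁻¹ * cj (cj h g) F.t, ?_,
    (mul_inv_cancel_left _ _).symm⟩, fun k hk => Or.inl (hfix k hk)⟩
  -- the image of `t`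
  set k1 := F.t⁻¹ * cj h x with hk1
  have e1 : cj h⁻¹ F.t = x * cj h⁻¹ k1⁻¹ := by
    rw [show x = cj h⁻¹ (cj h x) by rw [cj_cj, inv_mul_cancel]; simp [cj], ← cj_mul]
    congr 1
    rw [hk1]; group
  have hk2 : cj h⁻¹ k1⁻¹ ∈ F.H1 := hH' _ (inv_mem hhx)
  have e2 : cj (cj h g) F.t = cj h (cj g (cj h⁻¹ F.t)) := by simp only [cj]; group
  rw [e2, e1, cj_mul, (hE g hgA).1 _ hk2, cj_mul, cj_cj h h⁻¹, mul_inv_cancel,
    show cj 1 k1⁻¹ = k1⁻¹ by simp [cj]]
  set k3 := x⁻¹ * cj g x with hk3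
  have hk3m : k3 ∈ F.H1 := hE.blk hgA hx
  rw [show cj g x = x * k3 by rw [hk3]; group, cj_mul]
  have : F.t⁻¹ * (cj h x * cj h k3 * k1⁻¹) = k1 * cj h k3 * k1⁻¹ := by rw [hk1]; group
  rw [this]
  exact mul_mem (mul_mem hhx (hH _ hk3m)) (inv_mem hhx)

end Fr

end CfsgLib.InvTwoS6
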