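import Mathlib.GroupTheory.Perm.Support
import Mathlib.Data.List.FinRange
import Mathlib.Data.Finset.Card
import Mathlib.Data.Fintype.Perm
import Mathlib.Data.List.Nodup
import Mathlib.SetTheory.Cardinal.Finite

/-!
# Permutations as lists of natural numbers, for cheap exhaustive checks
-/

set_option autoImplicit false

namespace CfsgLib.InvTwoS6.PermLists

open Equiv

variable {n : ℕ}

/-- The list of images. -/
def img (x : Perm (Fin n)) : List ℕ := (List.finRange n).map fun i => (x i).val

/-- Composition of image lists. -/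
def comp (l m : List ℕ) : List ℕ := m.map fun i => l.getD i 0

/-- Repetition-free lists of length `k` with entries below `n`. -/
def arr (n : ℕ) : ℕ → List (List ℕ)
  | 0 => [[]]
  | k + 1 => (arr n k).flatMap fun l =>
      ((List.range n).filter fun i => !l.contains i).map fun i => i :: l

theorem img_length (x : Perm (Fin n)) : (img x).length = n := by simp [img]

theorem img_getD (x : Perm (Fin n)) (i : Fin n) : (img x).getD i.val 0 = (x i).val := by
  rw [List.getD_eq_getElem?_getD, List.getElem?_eq_getElem (by rw [img_length]; exact i.isLt)]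
  simp [img]

theorem img_mul (x y : Perm (Fin n)) : img (x * y) = comp (img x) (img y) := by
  simp only [comp, img, List.map_map]
  refine List.map_congr_left fun i _ => ?_
  exact (img_getD x (y i)).symm

theorem img_injective : Function.Injective (img : Perm (Fin n) → List ℕ) := fun x y h => by
  refine Equiv.ext fun i => Fin.ext ?_
  rw [← img_getD x i, h, img_getD y i]

theorem mem_arr : ∀ (k : ℕ) (l : List ℕ), l.length = k → l.Nodup → (∀ i ∈ l, i < n) →
    l ∈ arr n k
  | 0, l, hl, _, _ => by simp [arr, List.eq_nil_of_length_eq_zero hl]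
  | k + 1, [], hl, _, _ => by simp at hl
  | k + 1, i :: l, hl, hnd, hlt => by
    rw [List.nodup_cons] at hnd
    simp only [arr, List.mem_flatMap, List.mem_map, List.mem_filter, List.mem_range]
    exact ⟨l, mem_arr k l (by simpa using hl) hnd.2 fun j hj => hlt j (List.mem_cons_of_mem _ hj),
      i, ⟨hlt i List.mem_cons_self, by simpa using hnd.1⟩, rfl⟩

theorem img_mem (x : Perm (Fin n)) : img x ∈ arr n n := by
  refine mem_arr n _ (img_length x) ?_ ?_
  · exact (List.nodup_finRange n).map (Fin.val_injective.comp x.injective)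
  · intro i hi
    simp only [img, List.mem_map] at hi
    obtain ⟨j, _, rfl⟩ := hi
    exact (x j).isLt

theorem forall_of_all {P : Perm (Fin n) → Prop} (chk : List ℕ → Bool)
    (hchk : ∀ x, chk (img x) = true → P x) (h : (arr n n).all chk = true) (x : Perm (Fin n)) :
    P x :=
  hchk x (List.all_eq_true.1 h _ (img_mem x))

theorem arr_nodup : ∀ k, (arr n k).Nodup
  | 0 => by simp [arr]
  | k + 1 => by
    rw [arr, List.nodup_flatMap]
    refine ⟨fun l _ => (List.nodup_range.filter _).map fun a b h => by simpa using h, ?_⟩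
    refine (arr_nodup k).imp fun {l m} hne x hx hy => hne ?_
    simp only [List.mem_map] at hx hy
    obtain ⟨i, _, rfl⟩ := hx
    obtain ⟨j, _, e⟩ := hy
    exact (List.cons.inj e).2.symm

theorem length_eq {k : ℕ} : ∀ {l : List ℕ}, l ∈ arr n k → l.length = k ∧ l.Nodup ∧ ∀ i ∈ l, i < n := by
  induction k with
  | zero => simp [arr]
  | succ k ih =>
    intro l hl
    simp only [arr, List.mem_flatMap, List.mem_map, List.mem_filter, List.mem_range] at hl
    obtain ⟨m, hm, i, ⟨hi, hnot⟩, rfl⟩ := hl
    obtain ⟨h1, h2, h3⟩ := ih hm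
    refine ⟨by simp [h1], List.nodup_cons.2 ⟨by simpa using hnot, h2⟩, fun j hj => ?_⟩
    rcases List.mem_cons.1 hj with rfl | hj
    · exact hi
    · exact h3 j hj

theorem exists_img {l : List ℕ} (hl : l ∈ arr n n) : ∃ x : Perm (Fin n), img x = l := by
  obtain ⟨h1, h2, h3⟩ := length_eq hl
  let f : Fin n → Fin n := fun i => ⟨l[i.val]'(h1.symm ▸ i.isLt),
    h3 _ (List.getElem_mem _)⟩
  have hinj : Function.Injective f := fun i j h =>
    Fin.ext ((h2.getElem_inj_iff).1 (congrArg Fin.val h))
  refine ⟨Equiv.ofBijective f (Finite.injective_iff_bijective.1 hinj), ?_⟩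
  refine List.ext_getElem (by rw [img_length, h1]) fun i hi _ => ?_
  simp [img, f]

theorem card_eq {P : Perm (Fin n) → Prop} (chk : List ℕ → Bool)
    (hchk : ∀ x, P x ↔ chk (img x) = true) :
    Nat.card {x : Perm (Fin n) // P x} = (arr n n).countP chk := by
  classical
  rw [Nat.card_eq_fintype_card, Fintype.card_subtype, List.countP_eq_length_filter,
    ← List.toFinset_card_of_nodup ((arr_nodup n).filter chk),
    ← Finset.card_image_of_injective _ img_injective]
  congr 1
  ext l
  simp only [Finset.mem_image, Finset.mem_filter, Finset.mem_univ, true_and, List.mem_toFinset,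
    List.mem_filter]
  constructor
  · rintro ⟨x, hx, rfl⟩
    exact ⟨img_mem x, (hchk x).1 hx⟩
  · rintro ⟨hl, hc⟩
    obtain ⟨x, rfl⟩ := exists_img hl
    exact ⟨x, (hchk x).2 hc, rfl⟩

end CfsgLib.InvTwoS6.PermLists
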