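import Cfsg.Agent.Lib.InvTwoS6.Data
import Cfsg.Agent.Lib.InvTwoS6.PermLists
import Mathlib.Data.Fintype.Perm

/-!
# Verifying the properties for concrete generators by checks on image lists
-/

set_option autoImplicit false

namespace CfsgLib.InvTwoS6

open Equiv PermLists

variable {n : ℕ}

/-- The four pairs of Booleans. -/
def allW : List W2 := [(false, false), (true, false), (false, true), (true, true)]

/-- All sixteen labels. -/
def allV : List (W2 × W2) := allW.flatMap fun x => allW.map fun y => (x, y)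

theorem mem_allW (v : W2) : v ∈ allW := by obtain ⟨x, y⟩ := v; cases x <;> cases y <;> decide

theorem mem_allV (v : W2 × W2) : v ∈ allV := by
  obtain ⟨x, y⟩ := v
  exact List.mem_flatMap.2 ⟨x, mem_allW x, List.mem_map.2 ⟨y, mem_allW y, rfl⟩⟩

/-- The image lists of the generators and of the subgroups. -/
structure Lists where
  la : List ℕ
  la1 : List ℕ
  lc1 : List ℕ
  lz : List ℕ
  one : List ℕ
  U : List (List ℕ)
  H : List (List ℕ)
  sq4 : List (List ℕ)

/-- Whether a list of images moves exactly `k` points. -/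
def moves (l : List ℕ) (k : ℕ) : Bool := ((List.range l.length).countP fun i => l.getD i 0 != i) == k

/-- Whether conjugation by `x` sends `u` into `S`. -/
def conjIn (S : List (List ℕ)) (x u : List ℕ) : Bool :=
  let xu := comp x u
  S.any fun s => comp s x == xu

/-- The pointwise check. -/
def Lists.point (d : Lists) (x : List ℕ) : Bool :=
  (!(comp x d.la == comp d.la x) ||
      ((!d.U.contains (comp x x) || d.sq4.contains (comp x x)) &&
        (!(comp x d.lz == comp d.lz x) || !(comp x d.la1 == comp d.la1 x) || d.H.contains x))) &&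
    (!conjIn d.U x d.la || !conjIn d.U x d.la1 || !conjIn d.U x d.lc1 || d.U.contains x)

/-- The normalizer check. -/
def Lists.normH (d : Lists) (x : List ℕ) : Bool :=
  conjIn d.H x d.la && conjIn d.H x d.lz && conjIn d.H x d.la1

/-- The class check. -/
def Lists.inZ (d : Lists) (x : List ℕ) : Bool := comp x x == d.one && moves x 4

theorem moves_img (x : Perm (Fin n)) (k : ℕ) : moves (img x) k = true ↔ x.support.card = k := by
  have h : ((List.range (img x).length).countP fun i => (img x).getD i 0 != i) = x.support.card := by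
    rw [img_length, ← List.map_coe_finRange_eq_range, List.countP_map, List.countP_eq_length_filter,
      ← List.toFinset_card_of_nodup ((List.nodup_finRange n).filter _)]
    congr 1
    ext i
    simp only [List.mem_toFinset, List.mem_filter, List.mem_finRange, true_and, Function.comp_apply,
      img_getD, Perm.mem_support, bne_iff_ne, ne_eq, Fin.val_inj]
  rw [moves, h, beq_iff_eq]

variable {g : Gens (Perm (Fin n))} {d : Lists}

/-- The lists describe the generators. -/
def Lists.Describes (d : Lists) (g : Gens (Perm (Fin n))) : Prop :=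
  d.la = img g.a ∧ d.la1 = img g.a1 ∧ d.lc1 = img g.c1 ∧ d.lz = img g.z ∧ d.one = img (1 : Perm (Fin n)) ∧
    d.U = allV.map (fun v => img (g.uf v)) ∧
    d.H = allW.flatMap (fun k => [false, true].map fun i => img (g.uf ((i, false), k))) ∧
    d.sq4 = [img (1 : Perm (Fin n)), img g.z, img g.c1, img (g.c1 * g.z)]

theorem mem_U_iff (hd : d.Describes g) (x : Perm (Fin n)) :
    d.U.contains (img x) = true ↔ g.InU x := by
  rw [List.contains_iff_mem, hd.2.2.2.2.2.1, List.mem_map]
  constructor
  · rintro ⟨v, _, e⟩; exact ⟨v, img_injective e⟩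
  · rintro ⟨v, rfl⟩; exact ⟨v, mem_allV v, rfl⟩

theorem mem_H_iff (hd : d.Describes g) (x : Perm (Fin n)) :
    d.H.contains (img x) = true ↔ g.InH x := by
  rw [List.contains_iff_mem, hd.2.2.2.2.2.2.1, List.mem_flatMap]
  constructor
  · rintro ⟨k, _, h⟩
    obtain ⟨i, _, e⟩ := List.mem_map.1 h
    exact ⟨i, k, img_injective e⟩
  · rintro ⟨i, k, rfl⟩
    exact ⟨k, mem_allW k, List.mem_map.2 ⟨i, by cases i <;> decide, rfl⟩⟩

theorem beq_img (x y : Perm (Fin n)) : (img x == img y) = true ↔ x = y := by
  rw [beq_iff_eq]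
  exact img_injective.eq_iff

theorem conjIn_iff (x u : Perm (Fin n)) (S : List (List ℕ)) (P : Perm (Fin n) → Prop)
    (hS : ∀ y, S.contains (img y) = true ↔ P y) (hS' : ∀ s ∈ S, ∃ y : Perm (Fin n), img y = s) :
    conjIn S (img x) (img u) = true ↔ P (x * u * x⁻¹) := by
  simp only [conjIn, List.any_eq_true, beq_iff_eq, ← img_mul]
  constructor
  · rintro ⟨s, hs, e⟩
    obtain ⟨y, rfl⟩ := hS' s hs
    rw [← img_mul] at e
    rw [← img_injective e, mul_inv_cancel_right, ← hS, List.contains_iff_mem]
    exact hs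
  · intro h
    refine ⟨img (x * u * x⁻¹), List.contains_iff_mem.1 ((hS _).2 h), ?_⟩
    rw [← img_mul, inv_mul_cancel_right]

theorem conjInU_iff (hd : d.Describes g) (x u : Perm (Fin n)) :
    conjIn d.U (img x) (img u) = true ↔ g.InU (x * u * x⁻¹) :=
  conjIn_iff x u d.U g.InU (mem_U_iff hd) fun s hs => by
    rw [hd.2.2.2.2.2.1, List.mem_map] at hs
    obtain ⟨v, _, e⟩ := hs
    exact ⟨_, e⟩

theorem conjInH_iff (hd : d.Describes g) (x u : Perm (Fin n)) :
    conjIn d.H (img x) (img u) = true ↔ g.InH (x * u * x⁻¹) :=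
  conjIn_iff x u d.H g.InH (mem_H_iff hd) fun s hs => by
    rw [hd.2.2.2.2.2.2.1, List.mem_flatMap] at hs
    obtain ⟨k, _, h⟩ := hs
    obtain ⟨i, _, e⟩ := List.mem_map.1 h
    exact ⟨_, e⟩

theorem comp_eq_iff (x y u v : Perm (Fin n)) :
    (comp (img x) (img y) == comp (img u) (img v)) = true ↔ x * y = u * v := by
  rw [← img_mul, ← img_mul, beq_img]

/-- The properties follow from the checks. -/
theorem side_of_checks (h7 : n ≤ 7) (g : Gens (Perm (Fin n))) (d : Lists) (hd : d.Describes g)
    (sa : g.a * g.a = 1) (s1 : g.a1 * g.a1 = 1) (sc : g.c1 * g.c1 = 1)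
    (ca1 : g.a * g.a1 = g.a1 * g.a) (cac : g.a * g.c1 = g.c1 * g.a)
    (cz : g.z * g.a1 = g.a1 * g.z) (hinj : Function.Injective g.uf)
    (ho : ∃ o : ℕ, Odd o ∧ n.factorial = 16 * o)
    (hb : g.b * g.b = 1) (hz : g.z * g.z = 1)
    (hsa : g.a.support.card = 2 ∧ g.b.support.card = 6 ∨ g.a.support.card = 6 ∧ g.b.support.card = 2)
    (hsz : g.z.support.card = 4)
    (hsgn : Perm.sign g.a = -1 ∧ Perm.sign g.z = 1 ∧ Perm.sign g.a1 = -1 ∧ Perm.sign g.c1 = 1)
    (hroot : ∃ x : Perm (Fin n), x * g.a = g.a * x ∧ x * x = g.c1)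
    (hsig : ∃ x : Perm (Fin n), x * x * x = 1 ∧ x * g.a1 * x⁻¹ = g.a1 * g.z ∧
      x * (g.a1 * g.z) * x⁻¹ = g.a ∧ x * g.a * x⁻¹ = g.a1)
    (hpt : (arr n n).all d.point = true) (hN : (arr n n).countP d.normH = 48)
    (hZ : (arr n n).countP d.inZ % 4 = 1) : g.Side := by
  have ⟨e1, e2, e3, e4, e5, _, _, e8⟩ := hd
  have hp : ∀ x : Perm (Fin n), d.point (img x) = true := fun x =>
    List.all_eq_true.1 hpt _ (img_mem x)
  have hclass : ∀ x : Perm (Fin n), x * x = 1 →
      x = 1 ∨ IsConj g.a x ∨ IsConj g.b x ∨ IsConj g.z x := fun x hx => by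
    rcases hsa with ⟨h2, h6⟩ | ⟨h6, h2⟩
    · exact classify_perm h7 x _ _ _ sa h2 hb h6 hz hsz hx
    · rcases classify_perm h7 x g.b g.a g.z hb h2 sa h6 hz hsz hx with h | h | h | h
      exacts [Or.inl h, Or.inr (Or.inr (Or.inl h)), Or.inr (Or.inl h), Or.inr (Or.inr (Or.inr h))]
  refine ⟨sa, s1, sc, ca1, cac, cz, hinj, ?_, hclass, ?_, ?_, ?_, ⟨Perm.sign, hsgn⟩, ?_, ?_, hroot,
    ?_, ?_, ?_, hsig⟩
  · obtain ⟨o, ho1, ho2⟩ := ho
    exact ⟨o, ho1, by rw [Nat.card_eq_fintype_card, Fintype.card_perm, Fintype.card_fin, ho2]⟩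
  · exact not_isConj_of_support (by omega)
  · exact not_isConj_of_support (by omega)
  · exact not_isConj_of_support (by omega)
  · rw [card_eq d.inZ, hZ]
    intro x
    simp only [Lists.inZ, Bool.and_eq_true, e5]
    rw [← img_mul, beq_img, moves_img]
    constructor
    · intro h
      refine ⟨?_, ?_⟩
      · obtain ⟨c, hc⟩ := isConj_iff.1 h
        rw [← hc]
        calc c * g.z * c⁻¹ * (c * g.z * c⁻¹) = c * (g.z * g.z) * c⁻¹ := by group
          _ = 1 := by rw [hz, mul_one, mul_inv_cancel]
      · by_contra hne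
        exact not_isConj_of_support (u := g.z) (v := x) (by omega) h
    · rintro ⟨hx, hm⟩
      rcases hclass x hx with rfl | h | h | h
      · simp at hm
      · exact absurd h (not_isConj_of_support (by omega))
      · exact absurd h (not_isConj_of_support (by omega))
      · exact h
  · intro x hc hU
    have h := hp x
    simp only [Lists.point, Bool.and_eq_true, Bool.or_eq_true, Bool.not_eq_true'] at h
    have c1 : (comp (img x) d.la == comp d.la (img x)) = true := by
      rw [e1, comp_eq_iff]; exact hc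
    have c2 : d.U.contains (comp (img x) (img x)) = true := by
      rw [← img_mul, mem_U_iff hd]; exact hU
    rw [c1, c2] at h
    simp only [Bool.true_eq_false, false_or] at h
    have h4 := List.contains_iff_mem.1 h.1.1
    rw [e8, ← img_mul] at h4
    simp only [List.mem_cons, List.not_mem_nil, or_false, img_injective.eq_iff] at h4
    exact h4
  · intro x h1 h2 h3
    have h := hp x
    simp only [Lists.point, Bool.and_eq_true, Bool.or_eq_true, Bool.not_eq_true'] at h
    have c1 : conjIn d.U (img x) d.la = true := by rw [e1, conjInU_iff hd]; exact h1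
    have c2 : conjIn d.U (img x) d.la1 = true := by rw [e2, conjInU_iff hd]; exact h2
    have c3 : conjIn d.U (img x) d.lc1 = true := by rw [e3, conjInU_iff hd]; exact h3
    rw [c1, c2, c3] at h
    simp only [Bool.true_eq_false, false_or] at h
    exact (mem_U_iff hd x).1 h.2
  · intro x h1 h2 h3
    have h := hp x
    simp only [Lists.point, Bool.and_eq_true, Bool.or_eq_true, Bool.not_eq_true'] at h
    have c1 : (comp (img x) d.la == comp d.la (img x)) = true := by
      rw [e1, comp_eq_iff]; exact h1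
    have c2 : (comp (img x) d.lz == comp d.lz (img x)) = true := by
      rw [e4, comp_eq_iff]; exact h2
    have c3 : (comp (img x) d.la1 == comp d.la1 (img x)) = true := by
      rw [e2, comp_eq_iff]; exact h3
    rw [c1, c2, c3] at h
    simp only [Bool.true_eq_false, false_or] at h
    exact (mem_H_iff hd x).1 h.1.2
  · rw [card_eq d.normH, hN]
    intro x
    simp only [Lists.normH, Bool.and_eq_true, e1, e2, e4, conjInH_iff hd, and_assoc]

end CfsgLib.InvTwoS6
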