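import Cfsg.Agent.Lib.InvTwoS6.Frame
import Mathlib.GroupTheory.Sylow
import Mathlib.Algebra.BigOperators.Group.Finset.Piecewise
import Mathlib.Data.Fintype.BigOperators

/-!
# Counting lemmas around the centralizer of the involution
-/

set_option autoImplicit false

namespace CfsgLib.InvTwoS6

/-- The class equation for one element. -/
theorem card_cls_mul {X : Type*} [Group X] [Finite X] (x : X) :
    Nat.card {y : X // y ∈ cls x} * Nat.card (Subgroup.centralizer ({x} : Set X)) = Nat.card X := by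
  have h := card_fixed_mul (⊤ : Subgroup X) x
  have h1 : Nat.card {q : X ⧸ (⊤ : Subgroup X) // x • q = q} = 1 := by
    haveI : Subsingleton (X ⧸ (⊤ : Subgroup X)) := QuotientGroup.subsingleton_quotient_top
    haveI : Nonempty {q : X ⧸ (⊤ : Subgroup X) // x • q = q} :=
      ⟨⟨((1 : X) : X ⧸ (⊤ : Subgroup X)), Subsingleton.elim _ _⟩⟩
    exact Nat.card_unique
  rw [h1, one_mul, Subgroup.card_top] at h
  rw [h, mul_comm, Nat.card_congr (Equiv.subtypeEquivRight fun u => by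
    simp : {u : X // u ∈ cls x} ≃ {u : X // u ∈ cls x ∧ u ∈ (⊤ : Subgroup X)})]

variable {G : Type*} [Group G] [Finite G]

/-- A subgroup acting by conjugation on a conjugate set. -/
theorem card_orbit_mul (K Q : Subgroup G) (t : G) (O : Set G)
    (hO : ∀ u, u ∈ O ↔ ∃ k ∈ K, k⁻¹ * t * k = u)
    (hQ : ∀ x, x ∈ Q ↔ x ∈ K ∧ x * t = t * x) :
    Nat.card {u : G // u ∈ O} * Nat.card Q = Nat.card K := by
  classical
  let f : K → {u : G // u ∈ O} := fun k => ⟨(k : G)⁻¹ * t * k, (hO _).2 ⟨k, k.2, rfl⟩⟩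
  have e : ∀ u : {u : G // u ∈ O}, Nonempty ({k // f k = u} ≃ Q) := fun u => by
    obtain ⟨k₀, hk₀, hu⟩ := (hO _).1 u.2
    have hback : ∀ c : Q, (c.1 * k₀)⁻¹ * t * (c.1 * k₀) = u.1 := fun c => by
      rw [← hu, show (c.1 * k₀)⁻¹ * t * (c.1 * k₀) = k₀⁻¹ * (c.1⁻¹ * (t * c.1)) * k₀ by group,
        ← ((hQ _).1 c.2).2]
      group
    refine ⟨{
      toFun := fun k => ⟨k.1.1 * k₀⁻¹, ?_⟩
      invFun := fun c => ⟨⟨c.1 * k₀, mul_mem ((hQ _).1 c.2).1 hk₀⟩, ?_⟩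
      left_inv := fun k => Subtype.ext (Subtype.ext (inv_mul_cancel_right k.1.1 k₀))
      right_inv := fun c => Subtype.ext (mul_inv_cancel_right c.1 k₀) }⟩
    · have h : k.1.1⁻¹ * t * k.1.1 = k₀⁻¹ * t * k₀ := (congrArg Subtype.val k.2).trans hu.symm
      refine (hQ _).2 ⟨mul_mem k.1.2 (inv_mem hk₀), ?_⟩
      calc k.1.1 * k₀⁻¹ * t = k.1.1 * (k₀⁻¹ * t * k₀) * k₀⁻¹ := by group
        _ = t * (k.1.1 * k₀⁻¹) := by rw [← h]; group
    · exact Subtype.ext (hback c)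
  rw [← Nat.card_prod]
  exact Nat.card_congr ((Equiv.sigmaEquivProd _ _).symm.trans
    ((Equiv.sigmaCongrRight fun u => (e u).some.symm).trans (Equiv.sigmaFiberEquiv f)))

/-- Two subgroups of Sylow order in a third one are conjugate there. -/
theorem exists_conj_of_sylow_card {p : ℕ} [Fact p.Prime] {K P Q : Subgroup G} {k o : ℕ}
    (hK : Nat.card K = p ^ k * o) (ho : ¬ p ∣ o) (hP : Nat.card P = p ^ k) (hQ : Nat.card Q = p ^ k)
    (hPK : P ≤ K) (hQK : Q ≤ K) : ∃ c ∈ K, ∀ x, x ∈ Q ↔ c * x * c⁻¹ ∈ P := by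
  have hfac : (Nat.card K).factorization p = k := by
    have hp := (Fact.out : p.Prime)
    have ho0 : o ≠ 0 := fun h => ho (h ▸ dvd_zero p)
    rw [hK, Nat.factorization_mul (pow_ne_zero _ hp.ne_zero) ho0,
      Finsupp.coe_add, Pi.add_apply, hp.factorization_pow, Finsupp.single_eq_same,
      Nat.factorization_eq_zero_of_not_dvd ho, add_zero]
  let P' : Sylow p K := Sylow.ofCard (P.subgroupOf K) (by
    rw [hfac, Nat.card_congr (Subgroup.subgroupOfEquivOfLe hPK).toEquiv, hP])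
  let Q' : Sylow p K := Sylow.ofCard (Q.subgroupOf K) (by
    rw [hfac, Nat.card_congr (Subgroup.subgroupOfEquivOfLe hQK).toEquiv, hQ])
  obtain ⟨c, hc⟩ := MulAction.exists_smul_eq K Q' P'
  refine ⟨c.1, c.2, fun x => ⟨fun hx => ?_, fun hx => ?_⟩⟩
  · have h1 : c * ⟨x, hQK hx⟩ * c⁻¹ ∈ (c • Q' : Sylow p K).toSubgroup := by
      rw [Sylow.coe_subgroup_smul]
      exact ⟨⟨x, hQK hx⟩, Subgroup.mem_subgroupOf.2 hx, rfl⟩
    rw [hc] at h1
    exact Subgroup.mem_subgroupOf.1 h1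
  · have hxK : x ∈ K := by
      have := mul_mem (mul_mem (inv_mem c.2) (hPK hx)) c.2
      rwa [show c.1⁻¹ * (c.1 * x * c.1⁻¹) * c.1 = x by group] at this
    have h1 : c * ⟨x, hxK⟩ * c⁻¹ ∈ (P' : Sylow p K).toSubgroup := Subgroup.mem_subgroupOf.2 hx
    rw [← hc, Sylow.coe_subgroup_smul] at h1
    obtain ⟨y, hy, e⟩ := h1
    have e' : c * y * c⁻¹ = c * ⟨x, hxK⟩ * c⁻¹ := e
    rw [mul_left_inj, mul_right_inj] at e'
    rw [e'] at hy
    exact Subgroup.mem_subgroupOf.1 hy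

end CfsgLib.InvTwoS6
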