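import Cfsg.Agent.Lib.InvTwoS6.FourData

/-!
# Labels for the group of order 64 in the case of a cyclic action
-/

set_option autoImplicit false

namespace CfsgLib.InvTwoS6

/-- Labels `t, a₁, c₁, y` modulo `⟨a, z⟩`. -/
abbrev V4 := V3 × Bool

/-- The move of `y`. -/
def betaY (al : Bool) (x : V3) : W2 :=
  W2.add (W2.smul x.1.1 (false, true))
    (W2.add (W2.smul (al && x.1.2) (true, false)) (W2.smul (al && x.2) (true, true)))

/-- The cocycle with `y`. -/
def fY (al e : Bool) (u v : V4) : W2 :=
  W2.add (W2.add (f3 u.1 v.1) (W2.smul u.2 (betaY al v.1))) (W2.smul (u.2 && v.2) (false, e))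

/-- The commutator. -/
def bilY (al e : Bool) (u v : V4) : W2 := W2.add (fY al e u v) (fY al e v u)

/-- Addition of labels. -/
def add4 (u v : V4) : V4 :=
  (((xor u.1.1.1 v.1.1.1, xor u.1.1.2 v.1.1.2), xor u.1.2 v.1.2), xor u.2 v.2)

/-- All labels. -/
def all4 : List V4 :=
  [false, true].flatMap fun i => [false, true].flatMap fun j => [false, true].flatMap fun k =>
    [false, true].map fun d => (((i, j), k), d)

/-- The label of `t`. -/
def yT : V4 := (((true, false), false), false)
/-- The label of `t a₁`. -/
def yTA : V4 := (((true, true), false), false)
/-- The label of `t c₁`. -/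
def yTC : V4 := (((true, false), true), false)
/-- A central outer label. -/
def yY (e : Bool) : V4 := (((e, false), false), true)
/-- An outer label. -/
def yAY (e : Bool) : V4 := (((e, true), false), true)
/-- An outer label. -/
def yCY (e : Bool) : V4 := (((e, false), true), true)
/-- An outer label. -/
def yX (e : Bool) : V4 := (((!e, true), true), true)

/-- All possible labels of conjugates of `t`. -/
def candY (e : Bool) : List V4 := [yT, yTA, yTC, yY e, yAY e, yCY e, yX e]

theorem mem_all4 : ∀ v : V4, v ∈ all4 := by decide

theorem all4_nodup : all4.Nodup := by decide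

theorem candY_nodup : ∀ e, (candY e).Nodup := by decide

theorem add4_comm : ∀ u v : V4, add4 u v = add4 v u := by decide +kernel

theorem add4_self : ∀ u : V4, add4 u u = (((false, false), false), false) := by decide

theorem add4_zero : ∀ u : V4, add4 u (((false, false), false), false) = u := by decide

theorem alpha_small : ∀ (e : Bool) (u : V4),
    (!u.2 || !decide (fY true e u u = (false, false)) ||
      decide ((all4.countP fun v => decide (bilY true e u v = (false, false))) = 4)) = true := by
  decide +kernel

theorem beta_big : ∀ e : Bool, ((candY e).all fun u =>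
    decide ((all4.countP fun v => decide (bilY false e u v = (false, false))) = 8)) = true := by
  decide +kernel

theorem outer_cand : ∀ (e : Bool) (u : V4),
    (!u.2 || !decide (fY false e u u = (false, false)) || (candY e).contains u) = true := by
  decide +kernel


set_option synthInstance.maxSize 2048 in
theorem ker_lists : ∀ e : Bool,
    ((candY e).filter fun v => decide (bilY false e yTA v = (false, false))) =
      [yT, yTA, yCY e, yX e] ∧
    ((candY e).filter fun v => decide (bilY false e yTC v = (false, false))) =
      [yT, yTC, yAY e, yX e] ∧
    ((candY e).filter fun v => decide (bilY false e (yY e) v = (false, false))) =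
      [yY e, yAY e, yCY e] ∧
    ((candY e).filter fun v => decide (bilY false e (yAY e) v = (false, false))) =
      [yTC, yY e, yAY e, yX e] ∧
    ((candY e).filter fun v => decide (bilY false e (yX e) v = (false, false))) =
      [yTA, yTC, yAY e, yCY e, yX e] := by
  decide +kernel

end CfsgLib.InvTwoS6
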