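import Cfsg.Agent.Lib.InvTwoS6.Four
import Cfsg.Agent.Lib.InvTwoS6.CycData

/-!
# Normal forms when the normalizer of `S` exchanges `a` and `a z`
-/

set_option autoImplicit false

namespace CfsgLib.InvTwoS6

theorem halfC_first : ∀ m : Bool,
    mul3 (mul3 (((false, m), false), (false, false)) (((false, false), true), (false, m)))
      (inv3 (((false, m), false), (false, false))) =
      (((false, false), true), (false, false)) := halfC_adjust

theorem cycC_adjust : ∀ l m : Bool,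
    mul3 (mul3 (((false, false), m), (false, false)) (((false, true), false), (l, m)))
      (inv3 (((false, false), m), (false, false))) =
      (((false, true), false), (l, false)) ∧
    mul3 (mul3 (((false, false), m), (false, false)) (((false, false), true), (true, true)))
      (inv3 (((false, false), m), (false, false))) =
      (((false, false), true), (true, true)) := by
  decide

/-- The image of a label under the generator. -/
def pImg (al : Bool) (v : V3 × W2) : V3 × W2 :=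
  mul3 (mul3 (mul3 (pw3 (((true, false), false), (true, false)) v.1.1.1)
    (pw3 (((false, false), true), (true, true)) v.1.1.2))
    (pw3 (((false, true), false), (!al, false)) v.1.2))
    (mul3 (pw3 (((false, false), false), (true, true)) v.2.1)
      (pw3 (((false, false), false), (false, true)) v.2.2))

theorem pImg_fst : ∀ (al : Bool) (v : V3 × W2),
    (pImg al v).1 = ((v.1.1.1, v.1.2), v.1.1.2) := by decide +kernel

namespace Fr

variable {G : Type*} [Group G] {L : Type*} [Group L] (F : Fr G L) [Finite G]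

/-- A generator of the normalizer of `S` modulo `S` in the normal form. -/
structure Cyc (p : G) (al e : Bool) : Prop where
  mem : p ∈ F.NS
  pt : cj p F.t = F.t * F.a
  pa : cj p F.a = F.b
  pA : cj p F.A = F.C * F.b
  pC : cj p F.C = F.A * pw F.a (!al)
  sq : p * p * (p * p) = pw F.z e

theorem exists_swap (hg : F.g.Both) (hd : F.lab = labTwo) {g : G} (hgn : g ∈ F.NS)
    (hga : cj g F.a ≠ F.a) : ∃ p ∈ F.NS, cj p F.t = F.t * F.a ∧ cj p F.a = F.b := by
  obtain ⟨p, hpn, hpt⟩ := F.exists_cj_t hg hd (true, false)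
  rw [← t_mul_a] at hpt
  rcases F.cj_a hg hd hpn with hpa | hpa
  swap
  · exact ⟨p, hpn, hpt, hpa⟩
  exfalso
  obtain ⟨q, hqn, hqt⟩ := F.exists_cj_t hg hd (true, true)
  rw [← t_mul_b] at hqt
  have hSa : ∀ s ∈ F.S, cj s F.a = F.a := fun s hs => by rw [← ce_a]; exact F.cj_of_mem_S hs _
  have hpb : cj p F.b = F.b := by rw [b_eq, cj_mul, hpa, F.fix_z hpn]
  have hqa : cj q F.a = F.a := by
    refine (F.cj_a hg hd hqn).resolve_right fun hqa => ?_
    have hqb : cj q F.b = F.a := by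
      rw [b_eq, cj_mul, hqa, F.fix_z hqn, b_eq, mul_assoc, F.rel.hz, mul_one]
    have h3t : cj (q * q * q) F.t = cj p F.t := by
      rw [← cj_cj, ← cj_cj, hqt, cj_mul, hqt, hqb, cj_mul, cj_mul, hqt, hqb, hqa, hpt, t_mul_a,
        t_mul_b, b_ce, ← ce_a, ce_mul, ce_mul]
      rfl
    have hm := F.eq_coset (mul_mem (mul_mem hqn hqn) hqn) hpn h3t
    have h1 : cj (q * q * q) F.a = F.b := by rw [← cj_cj, ← cj_cj, hqa, hqb, hqa]
    have h2 := hSa _ hm
    rw [← cj_cj, h1] at h2
    have h3 : cj p (cj p⁻¹ F.b) = cj p F.a := by rw [h2]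
    rw [cj_cj, mul_inv_cancel, hpa, show cj 1 F.b = F.b by simp [cj], b_ce, ← ce_a] at h3
    exact absurd (F.ce_injective h3) (by decide)
  obtain ⟨⟨l, m⟩, hw⟩ := F.cj_t hg hd hgn
  set y := pw p (xor l m) * pw q m with hy
  have hyn : y ∈ F.NS := by
    refine mul_mem ?_ ?_
    · cases xor l m
      · exact one_mem _
      · exact hpn
    · cases m
      · exact one_mem _
      · exact hqn
  have c1 : ∀ x : G, cj (1 : G) x = x := fun x => by simp [cj]
  have hyt : cj y F.t = cj g F.t := by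
    rw [hw, hy, ← cj_cj]
    cases l <;> cases m <;>
      simp only [Bool.xor_false, Bool.xor_true, Bool.not_false, Bool.not_true, pw_true, pw_false,
        c1, hqt, cj_mul, hpt, hpb] <;>
      simp [ce_eq, wv, b_eq, mul_assoc, ← mul_assoc F.a F.a, F.rel.ha]
  have hya : cj y F.a = F.a := by
    rw [hy, ← cj_cj]
    cases xor l m <;> cases m <;> simp only [pw_true, pw_false, c1, hqa, hpa]
  have h2 := hSa _ (F.eq_coset hgn hyn hyt.symm)
  rw [← cj_cj] at h2
  apply hga
  have h3 : cj y (cj y⁻¹ (cj g F.a)) = cj y F.a := by rw [h2]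
  rwa [cj_cj, mul_inv_cancel, c1, hya] at h3

theorem exists_cyc (hg : F.g.Both) (hg' : F.g.swap.Both) (hd : F.lab = labTwo) {g₀ : G}
    (hgn₀ : g₀ ∈ F.NS) (hga₀ : cj g₀ F.a ≠ F.a) : ∃ p al e, F.Cyc p al e := by
  obtain ⟨g, hgn, hgt, hga⟩ := F.exists_swap hg hd hgn₀ hga₀
  have hgb : cj g F.b = F.a := by
    rw [b_eq, cj_mul, hga, F.fix_z hgn, b_eq, mul_assoc, F.rel.hz, mul_one]
  obtain ⟨x, hxw, hxc⟩ := hg'.fst.root
  have hCS : F.ρ (x * x) = F.A * F.a := by
    rw [hxc, ← swap_C F (hB := hg'.fst)]; rfl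
  have hel : F.A * F.a = F.el (((false, true), false), (true, false)) := by simp [SRel.el3, wv]
  have hne : ∀ (w : W2), F.A * F.a ≠ F.ce (false, w) := fun w e' => by
    rw [hel] at e'
    exact absurd (congrArg isCen (F.el_injective e')) (by simp [isCen, C3.lbl, cenV])
  obtain ⟨m, hm⟩ := F.cj_root hgn (w := F.g.b) hxw hgt hgb (hCS ▸ ⟨_, hel.symm⟩)
    (fun h => hne (false, false) (by rw [← hCS, h]; simp [ce_eq, wv]))
    (fun h => hne (false, true) (by rw [← hCS, h, ce_z]))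
  rw [hCS] at hm
  set g1 := F.el (((false, m), false), (false, false)) * g with hg1
  have hg1n : g1 ∈ F.NS := mul_mem ((Subgroup.le_normalizer : F.S ≤ F.NS) ⟨_, rfl⟩) hgn
  have hcen : ∀ (u : V3 × W2) (c : C3), cj (F.el u) (F.ce c) = F.ce c :=
    fun u c => F.cj_of_mem_S ⟨u, rfl⟩ c
  have h1t : cj g1 F.t = F.t * F.a := by rw [hg1, ← cj_cj, hgt, t_mul_a, hcen]
  have h1a : cj g1 F.a = F.b := by rw [hg1, ← cj_cj, hga, b_ce, hcen]
  have h1A : cj g1 F.A = F.C * F.b := by
    have h1 : cj g1 (F.A * F.a) = F.C := by rw [hg1, ← cj_cj, hm, cj_el_el, halfC_first, ← C_el]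
    rw [cj_mul, h1a] at h1
    have hb : F.b * F.b = 1 := F.b_eq ▸ (by
      rw [mul_assoc, ← mul_assoc F.z, ← F.rel.haz, mul_assoc F.a F.z, F.rel.hz, mul_one, F.rel.ha])
    rw [← h1, mul_assoc, hb, mul_one]
  have hCb : F.C * F.b = F.el (((false, false), true), (true, true)) := by
    simp [SRel.el3, wv, b_eq, mul_assoc]
  obtain ⟨v, hv, nv⟩ := F.cj_isNC hg hd hg1n
    (v := (((false, false), true), (false, false))) rfl
  have hne' := F.cj_isNC_ne hg1n hv (A_el F ▸ hCb ▸ h1A : cj g1 (F.el (((false, true), false),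
    (false, false))) = F.el (((false, false), true), (true, true))) rfl rfl nv rfl (by decide)
  obtain ⟨l, m', rfl⟩ : ∃ l m', v = (((false, true), false), (l, m')) := by
    obtain ⟨⟨⟨i, j⟩, k⟩, l, m'⟩ := v
    refine ⟨l, m', ?_⟩
    revert nv hne'
    cases i <;> cases j <;> cases k <;> simp [isNC]
  set g2 := F.el (((false, false), m'), (false, false)) * g1 with hg2
  have hg2n : g2 ∈ F.NS := mul_mem ((Subgroup.le_normalizer : F.S ≤ F.NS) ⟨_, rfl⟩) hg1n
  have h2t : cj g2 F.t = F.t * F.a := by rw [hg2, ← cj_cj, h1t, t_mul_a, hcen]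
  have h2a : cj g2 F.a = F.b := by rw [hg2, ← cj_cj, h1a, b_ce, hcen]
  have h2b : cj g2 F.b = F.a := by
    rw [b_eq, cj_mul, h2a, F.fix_z hg2n, b_eq, mul_assoc, F.rel.hz, mul_one]
  have h2A : cj g2 F.A = F.C * F.b := by
    rw [hg2, ← cj_cj, h1A, hCb, cj_el_el, (cycC_adjust l m').2]
  have h2C : cj g2 F.C = F.A * pw F.a l := by
    rw [hg2, ← cj_cj, C_el, hv, cj_el_el, (cycC_adjust l m').1]
    cases l <;> simp [SRel.el3, wv]
  have hyt : cj (g2 * g2) F.t = F.t * F.z := by
    rw [← cj_cj, h2t, cj_mul, h2t, h2a, mul_assoc, b_eq, ← mul_assoc F.a, F.rel.ha, one_mul]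
  have hyb : cj (g2 * g2) F.b = F.b := by rw [← cj_cj, h2b, h2a]
  have hya : cj (g2 * g2) F.a = F.a := by rw [← cj_cj, h2a, h2b]
  have hn2 := mul_mem hg2n hg2n
  have hyz : cj (g2 * g2) F.z = F.z := F.fix_z hn2
  have hyA : cj (g2 * g2) F.A = F.A * pw F.a (!l) := by
    rw [← cj_cj, h2A, cj_mul, h2C, h2b]
    cases l <;> simp [mul_assoc, F.rel.ha]
  have hyC : cj (g2 * g2) F.C = F.C * pw F.b (!l) := by
    rw [← cj_cj, h2C, cj_mul, cj_pw, h2A, h2a]
    have hb : F.b * F.b = 1 := F.b_eq ▸ (by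
      rw [mul_assoc, ← mul_assoc F.z, ← F.rel.haz, mul_assoc F.a F.z, F.rel.hz, mul_one, F.rel.ha])
    cases l <;> simp [mul_assoc, hb]
  have h4S : g2 * g2 * (g2 * g2) ∈ F.S := F.mem_S_of_cj (mul_mem hn2 hn2) (by
    rw [← cj_cj, hyt, cj_mul, hyt, hyz, mul_assoc, F.rel.hz, mul_one])
  obtain ⟨v, hv4⟩ := F.mem_S_iff.1 h4S
  have h4A : cj (g2 * g2 * (g2 * g2)) F.A = F.A := by
    rw [← cj_cj, hyA, cj_mul, cj_pw, hyA, hya]
    cases l <;> simp [mul_assoc, F.rel.ha]
  have h4C : cj (g2 * g2 * (g2 * g2)) F.C = F.C := by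
    rw [← cj_cj, hyC, cj_mul, cj_pw, hyC, hyb]
    have hb : F.b * F.b = 1 := F.b_eq ▸ (by
      rw [mul_assoc, ← mul_assoc F.z, ← F.rel.haz, mul_assoc F.a F.z, F.rel.hz, mul_one, F.rel.ha])
    cases l <;> simp [mul_assoc, hb]
  obtain ⟨i, w, rfl⟩ := F.central_label (v := v) (hv4 ▸ comm_of_cj h4A) (hv4 ▸ comm_of_cj h4C)
  have hv4' : g2 * g2 * (g2 * g2) = F.ce (i, w) := hv4.symm
  have hi : i = false := by
    have e : cj (g2 * g2) (F.ce (i, w)) = F.ce (i, w) := by rw [← hv4']; simp [cj, mul_assoc]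
    rw [ce_eq, cj_mul, cj_pw, hyt, wv, cj_mul, cj_pw, cj_pw, hya, hyz] at e
    cases i
    · rfl
    · have e2 : F.t * F.z * (pw F.a w.1 * pw F.z w.2) =
          F.ce (true, W2.add (false, true) w) := by
        rw [show pw F.a w.1 * pw F.z w.2 = F.ce (false, w) from wv_eq F w,
          show F.t * F.z = F.ce (true, (false, true)) by simp [ce_eq, wv], ce_mul]
        rfl
      simp only [pw_true] at e
      rw [e2, show F.t * (pw F.a w.1 * pw F.z w.2) = F.ce (true, w) from
        (F.ce_eq (true, w)).symm] at e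
      have := F.ce_injective e
      revert this
      obtain ⟨l', m''⟩ := w
      cases l' <;> cases m'' <;> decide
  subst hi
  obtain ⟨w1, w2⟩ := w
  have hw1 : w1 = false := by
    have e : cj g2 (F.ce (false, (w1, w2))) = F.ce (false, (w1, w2)) := by
      rw [← hv4']; simp [cj, mul_assoc]
    cases w1
    · rfl
    · rw [ce_eq, cj_mul, cj_pw, h2t, wv, cj_mul, cj_pw, cj_pw, h2a, F.fix_z hg2n] at e
      cases w2 <;> simp [b_eq, mul_assoc, F.rel.hz] at e
      · exact absurd e F.z_ne_one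
      · exact absurd e F.z_ne_one
  subst hw1
  exact ⟨g2, !l, w2, hg2n, h2t, h2a, h2A, by rw [Bool.not_not]; exact h2C, by
    rw [hv4']; simp [ce_eq, wv]⟩

variable {F} {p : G} {al e : Bool}

theorem Cyc.pb (h : F.Cyc p al e) : cj p F.b = F.a := by
  rw [b_eq, cj_mul, h.pa, F.fix_z h.mem, b_eq, mul_assoc, F.rel.hz, mul_one]

theorem Cyc.y_facts (h : F.Cyc p al e) : cj (p * p) F.t = F.t * F.z ∧ cj (p * p) F.a = F.a ∧
    cj (p * p) F.A = F.A * pw F.a al ∧ cj (p * p) F.C = F.C * pw F.b al := by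
  refine ⟨?_, by rw [← cj_cj, h.pa, h.pb], ?_, ?_⟩
  · rw [← cj_cj, h.pt, cj_mul, h.pt, h.pa, mul_assoc, b_eq, ← mul_assoc F.a, F.rel.ha, one_mul]
  · rw [← cj_cj, h.pA, cj_mul, h.pC, h.pb]
    cases al <;> simp [mul_assoc, F.rel.ha]
  · rw [← cj_cj, h.pC, cj_mul, cj_pw, h.pA, h.pa]
    have hb : F.b * F.b = 1 := F.b_eq ▸ (by
      rw [mul_assoc, ← mul_assoc F.z, ← F.rel.haz, mul_assoc F.a F.z, F.rel.hz, mul_one, F.rel.ha])
    cases al <;> simp [mul_assoc, hb]

theorem Cyc.cj_y_el (h : F.Cyc p al e) (v : V3 × W2) :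
    cj (p * p) (F.el v) = F.el (v.1, W2.add v.2 (betaY al v.1)) := by
  obtain ⟨yt, ya, yA, yC⟩ := h.y_facts
  obtain ⟨⟨⟨i, j⟩, k⟩, l, m⟩ := v
  have e1 : cj (p * p) F.t = F.el (((true, false), false), (false, true)) := by
    rw [yt]; simp [SRel.el3, wv]
  have e2 : cj (p * p) F.A = F.el (((false, true), false), (al, false)) := by
    rw [yA]; cases al <;> simp [SRel.el3, wv]
  have e3 : cj (p * p) F.C = F.el (((false, false), true), (al, al)) := by
    rw [yC]; cases al <;> simp [SRel.el3, wv, b_eq]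
  rw [show F.el (((i, j), k), (l, m)) = pw F.t i * pw F.A j * pw F.C k * (pw F.a l * pw F.z m) from
    SRel.el3 _ _, cj_mul, cj_mul, cj_mul, cj_mul, cj_pw, cj_pw, cj_pw, cj_pw, cj_pw, e1, e2, e3,
    ya, F.fix_z (mul_mem h.mem h.mem), el_pw, el_pw, el_pw,
    show pw F.a l * pw F.z m = F.el (((false, false), false), (l, m)) by simp [SRel.el3, wv],
    el_mul, el_mul, el_mul]
  congr 1
  cases i <;> cases j <;> cases k <;> cases l <;> cases m <;> cases al <;> rfl

theorem Cyc.cj_p_el (h : F.Cyc p al e) (v : V3 × W2) : cj p (F.el v) = F.el (pImg al v) := by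
  obtain ⟨⟨⟨i, j⟩, k⟩, l, m⟩ := v
  have e1 : cj p F.t = F.el (((true, false), false), (true, false)) := by
    rw [h.pt]; simp [SRel.el3, wv]
  have e2 : cj p F.A = F.el (((false, false), true), (true, true)) := by
    rw [h.pA]; simp [SRel.el3, wv, b_eq, mul_assoc]
  have e3 : cj p F.C = F.el (((false, true), false), (!al, false)) := by
    rw [h.pC]; cases al <;> simp [SRel.el3, wv]
  have e4 : cj p F.a = F.el (((false, false), false), (true, true)) := by
    rw [h.pa]; simp [SRel.el3, wv, b_eq]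
  have e5 : cj p F.z = F.el (((false, false), false), (false, true)) := by
    rw [F.fix_z h.mem]; simp [SRel.el3, wv]
  rw [show F.el (((i, j), k), (l, m)) = pw F.t i * pw F.A j * pw F.C k * (pw F.a l * pw F.z m) from
    SRel.el3 _ _, cj_mul, cj_mul, cj_mul, cj_mul, cj_pw, cj_pw, cj_pw, cj_pw, cj_pw, e1, e2, e3,
    e4, e5, el_pw, el_pw, el_pw, el_pw, el_pw, el_mul, el_mul, el_mul, el_mul]
  rfl

/-- The normal form of the subgroup of index two. -/
def Cyc.layer (h : F.Cyc p al e) : Layer V4 (wv F.a F.z) :=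
  F.rel.layer3.extend (p * p) (false, e) (betaY al) (by rw [h.sq]; simp [wv])
    (fun k => commute_wv (comm_of_cj h.y_facts.2.1) (comm_of_cj (F.fix_z (mul_mem h.mem h.mem))) k)
    (fun x => by
      have hw := commute_wv (comm_of_cj h.y_facts.2.1) (comm_of_cj (F.fix_z (mul_mem h.mem h.mem)))
      have ex := h.cj_y_el (x, (false, false))
      rw [show F.el (x, (false, false)) = F.rel.layer3.Φ x by simp [el, Layer.el],
        show W2.add (false, false) (betaY al x) = betaY al x by simp [W2.add]] at ex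
      calc p * p * F.rel.layer3.Φ x = cj (p * p) (F.rel.layer3.Φ x) * (p * p) := by
            simp only [cj]; group
        _ = F.rel.layer3.Φ x * wv F.a F.z (betaY al x) * (p * p) := by rw [ex]; rfl
        _ = _ := by rw [mul_assoc, ← hw, ← mul_assoc])

theorem Cyc.layer_f (h : F.Cyc p al e) (u v : V4) : h.layer.f u v = fY al e u v := rfl

theorem Cyc.layer_add (h : F.Cyc p al e) (u v : V4) : h.layer.add u v = add4 u v := rfl

theorem Cyc.layer_zero (h : F.Cyc p al e) :
    h.layer.zero = (((false, false), false), false) := rfl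

theorem Cyc.layer_el (h : F.Cyc p al e) (v : V3) (d : Bool) (k : W2) :
    h.layer.el ((v, d), k) = F.el (v, k) * pw (p * p) d := by
  show F.rel.layer3.Φ v * pw (p * p) d * wv F.a F.z k = F.rel.layer3.Φ v * wv F.a F.z k * pw (p * p) d
  cases d
  · simp
  · rw [pw_true, mul_assoc _ (p * p),
      commute_wv (comm_of_cj h.y_facts.2.1) (comm_of_cj (F.fix_z (mul_mem h.mem h.mem))),
      ← mul_assoc]

theorem Cyc.layer_inner (h : F.Cyc p al e) (v : V3) (k : W2) :
    h.layer.el ((v, false), k) = F.el (v, k) := by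
  rw [h.layer_el, pw_false, mul_one]

theorem Cyc.y_notMem (h : F.Cyc p al e) : p * p ∉ F.S := fun hm => by
  have h1 := F.cj_of_mem_S hm (true, (false, false))
  rw [ce_t, h.y_facts.1] at h1
  exact F.z_ne_one (mul_left_cancel (a := F.t) (h1.trans (mul_one _).symm))

theorem Cyc.el_inj (h : F.Cyc p al e) : Function.Injective h.layer.el := by
  rintro ⟨⟨v, d⟩, k⟩ ⟨⟨v', d'⟩, k'⟩ he
  rw [h.layer_el, h.layer_el] at he
  obtain ⟨e1, rfl⟩ := F.el_pw_inj h.y_notMem _ _ _ _ he
  simp only [Prod.mk.injEq] at e1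
  rw [e1.1, e1.2]

theorem Cyc.group_le (h : F.Cyc p al e) : h.layer.group ≤ F.NS := by
  rintro _ ⟨⟨⟨v, d⟩, k⟩, rfl⟩
  rw [h.layer_el]
  refine mul_mem ((Subgroup.le_normalizer : F.S ≤ F.NS) ⟨_, rfl⟩) ?_
  cases d
  · exact one_mem _
  · exact mul_mem h.mem h.mem

theorem Cyc.card_group (h : F.Cyc p al e) : Nat.card h.layer.group = 64 :=
  h.layer.card_group h.el_inj

theorem Cyc.el_cj_t (h : F.Cyc p al e) (x : V4 × W2) :
    cj (h.layer.el x) F.t = F.ce (true, (false, x.1.2)) ∧ cj (h.layer.el x) F.a = F.a := by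
  obtain ⟨⟨v, d⟩, k⟩ := x
  rw [h.layer_el]
  have hS : F.el (v, k) ∈ F.S := ⟨_, rfl⟩
  constructor
  · rw [← cj_cj]
    have e : cj (pw (p * p) d) F.t = F.ce (true, (false, d)) := by
      cases d
      · rw [pw_false, ce_eq]; simp [cj]
      · rw [pw_true, h.y_facts.1]; simp [ce_eq, wv]
    rw [e, F.cj_of_mem_S hS]
  · rw [← cj_cj]
    have e : cj (pw (p * p) d) F.a = F.a := by
      cases d
      · simp [cj]
      · rw [pw_true, h.y_facts.2.1]
    rw [e, ← ce_a, F.cj_of_mem_S hS]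

theorem Cyc.decompose (h : F.Cyc p al e) (hg : F.g.Both) (hd : F.lab = labTwo) {g : G}
    (hgn : g ∈ F.NS) : (∃ x, h.layer.el x = g) ∨ ∃ x, p * h.layer.el x = g := by
  obtain ⟨⟨l, m⟩, hw⟩ := F.cj_t hg hd hgn
  have hz : cj p F.z = F.z := F.fix_z h.mem
  obtain ⟨i, d, hyt⟩ : ∃ i d : Bool, cj (pw p i * pw (p * p) d) F.t = F.ce (true, (l, m)) := by
    refine ⟨l, m, ?_⟩
    rw [← cj_cj]
    have c1 : ∀ x : G, cj (1 : G) x = x := fun x => by simp [cj]
    cases l <;> cases m <;> simp only [pw_true, pw_false, c1, h.y_facts.1]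
    · simp [ce_eq, wv]
    · simp [ce_eq, wv]
    · rw [h.pt]; simp [ce_eq, wv]
    · rw [cj_mul, h.pt, hz]; simp [ce_eq, wv, mul_assoc]
  have hn : pw p i * pw (p * p) d ∈ F.NS := by
    refine mul_mem ?_ ?_
    · cases i
      · exact one_mem _
      · exact h.mem
    · cases d
      · exact one_mem _
      · exact mul_mem h.mem h.mem
  obtain ⟨v, hv⟩ := F.mem_S_iff.1 (F.eq_coset hgn hn (hw.trans hyt.symm))
  have e1 : h.layer.el ((((false, false), false), d), (false, false)) = pw (p * p) d := by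
    rw [h.layer_el, el_one, one_mul]
  have e2 : g = pw p i * (h.layer.el ((((false, false), false), d), (false, false)) *
      h.layer.el ((v.1, false), v.2)) := by
    rw [e1, h.layer_inner, hv, ← mul_assoc, mul_inv_cancel_left]
  rw [Layer.el_mul] at e2
  cases i
  · exact Or.inl ⟨_, (e2.trans (one_mul _)).symm⟩
  · exact Or.inr ⟨_, e2.symm⟩

theorem Cyc.sq_odd (h : F.Cyc p al e) (x : V4 × W2) :
    p * h.layer.el x * (p * h.layer.el x) ∉ F.S := fun hm => by
  obtain ⟨et, ea⟩ := h.el_cj_t x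
  have hz : cj p F.z = F.z := F.fix_z h.mem
  have ga : cj (p * h.layer.el x) F.a = F.b := by rw [← cj_cj, ea, h.pa]
  have gz : cj (p * h.layer.el x) F.z = F.z :=
    F.fix_z (mul_mem h.mem (h.group_le ⟨x, rfl⟩))
  have gt : cj (p * h.layer.el x) F.t = F.t * F.a * pw F.z x.1.2 := by
    rw [← cj_cj, et, ce_eq, cj_mul]
    simp only [pw_true, h.pt, wv, pw_false, one_mul, cj_pw, hz]
  have h2 := F.cj_of_mem_S hm (true, (false, false))
  rw [ce_t, ← cj_cj, gt, cj_mul, cj_mul, gt, ga, cj_pw, gz] at h2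
  cases hd : x.1.2 <;> rw [hd] at h2 <;>
    simp [b_eq, mul_assoc, F.rel.hz, F.z_ne_one, ← mul_assoc F.z F.a, ← F.rel.haz,
      ← mul_assoc F.a F.a, F.rel.ha] at h2

theorem Cyc.cls_mem (h : F.Cyc p al e) (hg : F.g.Both) (hd : F.lab = labTwo) {u : G}
    (hu : u ∈ cls F.t) (huN : u ∈ F.NS) : u ∈ h.layer.group := by
  rcases h.decompose hg hd huN with ⟨x, hx⟩ | ⟨x, hx⟩
  · exact ⟨x, hx⟩
  · exfalso
    apply h.sq_odd x
    rw [hx, sq_of_mem_cls F.sq hu]
    exact one_mem _

end Fr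

end CfsgLib.InvTwoS6
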