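import Cfsg.Agent.Lib.InvTwoS6.CycTrans
import Mathlib.GroupTheory.IndexNormal

/-!
# The normalizer of the subgroup of index two, acting on labels
-/

set_option autoImplicit false

namespace CfsgLib.InvTwoS6

theorem cyc_rad : ∀ (e : Bool) (v : V4),
    (all4.all fun u => decide (bilY false e v u = (false, false))) = true →
      v = (((false, false), false), false) := by
  decide +kernel

theorem cyc_zero_bil : ∀ (al e : Bool) (v : V4),
    bilY al e v (((false, false), false), false) = (false, false) ∧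
    bilY al e (((false, false), false), false) v = (false, false) := by
  decide +kernel

theorem add4_conj : ∀ a b c : V4, add4 a b = add4 b c → a = c := by decide +kernel

/-- The move of a label under the generator. -/
def pMap (v : V4) : V4 := (((v.1.1.1, v.1.2), v.1.1.2), v.2)

theorem candY_inner : ∀ (e : Bool), ∀ v ∈ candY e, v.2 = false → labTwo.inS (v.1, (false, false)) = true := by
  decide

theorem Layer.el_split {G : Type*} [Group G] {V : Type} {w : W2 → G} (ly : Layer V w) (v : V)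
    (k k' : W2) : ly.el (v, k) * ly.el (ly.zero, k') = ly.el (v, W2.add k k') := by
  simp only [Layer.el]
  rw [ly.map_zero, one_mul, mul_assoc, ly.hw]

namespace Fr

variable {G : Type*} [Group G] {L : Type*} [Group L] {F : Fr G L} [Finite G]
variable {p : G} {al e : Bool}

theorem Cyc.S_le_group (h : F.Cyc p al e) : F.S ≤ h.layer.group := by
  rintro _ ⟨v, rfl⟩
  exact ⟨((v.1, false), v.2), h.layer_inner v.1 v.2⟩

/-- The normalizer of the subgroup of index two. -/
def Cyc.NK (h : F.Cyc p al e) : Subgroup G := Subgroup.normalizer (h.layer.group : Set G)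

theorem Cyc.group_le_NK (h : F.Cyc p al e) : h.layer.group ≤ h.NK := Subgroup.le_normalizer

theorem Cyc.mem_S_of_NK (h : F.Cyc p al e) {g : G} (hgK : g ∈ h.NK)
    (hc : g * F.t = F.t * g) : g ∈ F.S := by
  refine F.mem_S_of_normalize hc fun s hs => ?_
  obtain ⟨x, hx⟩ := (Subgroup.mem_normalizer_iff.1 hgK s).1 (h.S_le_group hs)
  have h1 : cj (h.layer.el x) F.t = F.t := by
    rw [hx, show g * s * g⁻¹ = cj g s from rfl]
    refine cj_of_comm ?_
    have e1 : cj g F.t = F.t := cj_of_comm hc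
    calc cj g s * F.t = cj g s * cj g F.t := by rw [e1]
      _ = cj g (F.t * s) := by rw [← cj_mul, F.commute_t_of_mem hs]
      _ = F.t * cj g s := by rw [cj_mul, e1]
  rw [(h.el_cj_t x).1] at h1
  have h2 : F.ce (true, (false, x.1.2)) = F.ce (true, (false, false)) := h1.trans (F.ce_t).symm
  have h3 := F.ce_injective h2
  simp only [Prod.mk.injEq, true_and] at h3
  rw [← hx]
  obtain ⟨⟨v, d⟩, k⟩ := x
  simp only at h3
  subst h3
  exact ⟨(v, k), (h.layer_inner v k).symm⟩

theorem Cyc.cj_p_layer (h : F.Cyc p al e) (v : V3) (d : Bool) (k : W2) :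
    cj p (h.layer.el ((v, d), k)) = h.layer.el (((pImg al (v, k)).1, d), (pImg al (v, k)).2) := by
  rw [h.layer_el, cj_mul, h.cj_p_el, cj_pw,
    show cj p (p * p) = p * p by simp only [cj]; group, h.layer_el]

theorem Cyc.p_mem_NK (h : F.Cyc p al e) : p ∈ h.NK :=
  mem_normalizer_of_maps (by
    rintro _ ⟨⟨⟨v, d⟩, k⟩, rfl⟩
    exact ⟨_, (h.cj_p_layer v d k).symm⟩)

theorem Cyc.transit (h : F.Cyc p false e) (hg : F.g.Both) (hd : F.lab = labTwo) {M : List V4}
    (hM : ∀ v k, h.layer.el (v, k) ∈ cls F.t ↔ v ∈ M) (hMc : ∀ v ∈ M, v ∈ candY e) {u : G}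
    (hu : u ∈ cls F.t) (huD : u ∈ h.layer.group) : ∃ g ∈ h.NK, cj g u = F.t := by
  obtain ⟨x, rfl⟩ := huD
  have hb := List.all_eq_true.1 (beta_big e) x.1 (hMc _ ((hM x.1 x.2).1 hu))
  obtain ⟨hQ1, hQ2⟩ := h.kerSub_spec x
  obtain ⟨g, hgt, hgQ⟩ := F.exists_conj_S hu (Q := h.kerSub x.1)
    (by rw [hQ1, of_decide_eq_true hb]) hQ2
  have hnorm : ∀ d ∈ h.layer.group, ∀ y ∈ h.kerSub x.1, d * y * d⁻¹ ∈ h.kerSub x.1 := by
    rintro _ ⟨d, rfl⟩ _ ⟨y, hy, rfl⟩
    have hD : h.layer.el d ∈ h.layer.group := ⟨d, rfl⟩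
    have hY : h.layer.el y ∈ h.layer.group := ⟨y, rfl⟩
    obtain ⟨z, hz⟩ := mul_mem (mul_mem hD hY) (inv_mem hD)
    have e1 : h.layer.el z * h.layer.el d = h.layer.el d * h.layer.el y := by
      rw [hz, inv_mul_cancel_right]
    rw [Layer.el_mul, Layer.el_mul] at e1
    have e2 := congrArg Prod.fst (h.el_inj e1)
    simp only [Layer.mul, h.layer_add] at e2
    exact ⟨z, by rw [add4_conj _ _ _ e2]; exact hy, hz⟩
  have hNS : ∀ d ∈ h.layer.group, cj g d ∈ F.NS := fun d hdD => mem_normalizer_of_maps fun s hs => by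
    have hy : g⁻¹ * s * g ∈ h.kerSub x.1 :=
      (hgQ _).2 (by rwa [show g * (g⁻¹ * s * g) * g⁻¹ = s by group])
    have := (hgQ _).1 (hnorm d hdD _ hy)
    rwa [show g * (d * (g⁻¹ * s * g) * d⁻¹) * g⁻¹ = cj g d * s * (cj g d)⁻¹ by
      simp only [cj]; group] at this
  refine ⟨g, mem_normalizer_of_maps ?_, by rw [← hgt, cj]; group⟩
  rintro _ ⟨y, rfl⟩
  rcases h.decompose hg hd (hNS _ ⟨y, rfl⟩) with ⟨z, hz⟩ | ⟨z, hz⟩
  · exact ⟨z, hz⟩
  · exfalso
    apply h.sq_odd z
    rw [hz, ← cj_mul]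
    refine (hgQ _).1 ⟨h.layer.mul y y, ?_, (h.layer.el_mul y y).symm⟩
    simp [Layer.mul, h.layer_add, add4_self, (cyc_zero_bil false e x.1).1]

theorem Cyc.card_NK (h : F.Cyc p false e) (hg : F.g.Both) (hd : F.lab = labTwo) {M : List V4}
    (hM : ∀ v k, h.layer.el (v, k) ∈ cls F.t ↔ v ∈ M) (hMc : ∀ v ∈ M, v ∈ candY e)
    (hMn : M.Nodup) : Nat.card h.NK = 128 * M.length := by
  have hc := card_orbit_mul h.NK F.S F.t {u | u ∈ cls F.t ∧ u ∈ h.layer.group}
    (fun u => by
      constructor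
      · rintro ⟨hu, huD⟩
        obtain ⟨g, hgK, e1⟩ := h.transit hg hd hM hMc hu huD
        exact ⟨g, hgK, by rw [← e1, cj]; group⟩
      · rintro ⟨k, hk, rfl⟩
        refine ⟨⟨k, rfl⟩, ?_⟩
        have := (Subgroup.mem_normalizer_iff.1 (inv_mem hk) F.t).1 (h.S_le_group F.t_mem)
        rwa [inv_inv] at this)
    (fun x => ⟨fun hx => ⟨h.group_le_NK (h.S_le_group hx), F.commute_t_of_mem hx⟩,
      fun hx => h.mem_S_of_NK hx.1 hx.2⟩)
  rw [F.card_S] at hc
  have hn := F.card_cls_list h.layer h.el_inj (fun _ => true) hMn hM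
  rw [show M.countP (fun _ => true) = M.length by simp] at hn
  have e1 : Nat.card {u : G // u ∈ {u | u ∈ cls F.t ∧ u ∈ h.layer.group}} = 4 * M.length := by
    rw [← hn]
    exact Nat.card_congr (Equiv.subtypeEquivRight fun u =>
      and_congr_right fun _ => ⟨fun ⟨x, hx⟩ => ⟨x, rfl, hx⟩, fun ⟨x, _, hx⟩ => ⟨x, hx⟩⟩)
  rw [← hc, e1]
  ring

theorem Cyc.image_exists (h : F.Cyc p al e) {g : G} (hgK : g ∈ h.NK) (x : V4 × W2) :
    ∃ y, cj g (h.layer.el x) = h.layer.el y := by
  obtain ⟨y, hy⟩ := (Subgroup.mem_normalizer_iff.1 hgK _).1 (⟨x, rfl⟩ : h.layer.el x ∈ h.layer.group)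
  exact ⟨y, hy.symm⟩

/-- The map induced on labels. -/
noncomputable def Cyc.phi (h : F.Cyc p al e) {g : G} (hgK : g ∈ h.NK) (v : V4) : V4 :=
  (h.image_exists hgK (v, (false, false))).choose.1

theorem Cyc.image_zero (h : F.Cyc p false e) {g : G} (hgK : g ∈ h.NK) (k : W2) :
    ∃ k', cj g (h.layer.el (h.layer.zero, k)) = h.layer.el (h.layer.zero, k') := by
  obtain ⟨⟨v, k'⟩, hy⟩ := h.image_exists hgK (h.layer.zero, k)
  have hv : v = h.layer.zero := by
    refine cyc_rad e v (List.all_eq_true.2 fun u _ => decide_eq_true ?_)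
    obtain ⟨y, hyu⟩ := h.image_exists (inv_mem hgK) (u, (false, false))
    refine (h.comm_iff (v, k') (u, (false, false))).1 ?_
    have hu : h.layer.el (u, (false, false)) = cj g (h.layer.el y) := by
      rw [← hyu, cj_cj, mul_inv_cancel]; simp [cj]
    rw [← hy, hu, ← cj_mul, ← cj_mul, (h.comm_iff (h.layer.zero, k) y).2 (cyc_zero_bil false e y.1).2]
  exact ⟨k', hv ▸ hy⟩

theorem Cyc.phi_spec (h : F.Cyc p false e) {g : G} (hgK : g ∈ h.NK) (v : V4) (k : W2) :
    ∃ k', cj g (h.layer.el (v, k)) = h.layer.el (h.phi hgK v, k') := by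
  set y := (h.image_exists hgK (v, (false, false))).choose with hy
  have hy' : cj g (h.layer.el (v, (false, false))) = h.layer.el y :=
    (h.image_exists hgK (v, (false, false))).choose_spec
  obtain ⟨k', hk'⟩ := h.image_zero hgK k
  refine ⟨W2.add y.2 k', ?_⟩
  have e1 : h.layer.el (v, k) = h.layer.el (v, (false, false)) * h.layer.el (h.layer.zero, k) := by
    rw [Layer.el_split]; simp [W2.add]
  rw [e1, cj_mul, hy', hk', show y = (y.1, y.2) from rfl, Layer.el_split]
  rfl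

theorem Cyc.phi_eq (h : F.Cyc p false e) {g : G} (hgK : g ∈ h.NK) {v v' : V4} {k k' : W2}
    (e1 : cj g (h.layer.el (v, k)) = h.layer.el (v', k')) : h.phi hgK v = v' := by
  obtain ⟨k'', h'⟩ := h.phi_spec hgK v k
  exact congrArg Prod.fst (h.el_inj (h'.symm.trans e1))

theorem Cyc.phi_add (h : F.Cyc p false e) {g : G} (hgK : g ∈ h.NK) (u v : V4) :
    h.phi hgK (add4 u v) = add4 (h.phi hgK u) (h.phi hgK v) := by
  obtain ⟨a, ha⟩ := h.phi_spec hgK u (false, false)
  obtain ⟨b, hb⟩ := h.phi_spec hgK v (false, false)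
  have e1 := congrArg (cj g) (h.layer.el_mul (u, (false, false)) (v, (false, false)))
  rw [cj_mul, ha, hb, Layer.el_mul] at e1
  exact h.phi_eq hgK e1.symm

theorem Cyc.phi_comp (h : F.Cyc p false e) {g g' : G} (hgK : g ∈ h.NK) (hgK' : g' ∈ h.NK)
    (v : V4) : h.phi (mul_mem hgK hgK') v = h.phi hgK (h.phi hgK' v) := by
  obtain ⟨a, ha⟩ := h.phi_spec hgK' v (false, false)
  obtain ⟨b, hb⟩ := h.phi_spec hgK (h.phi hgK' v) a
  exact h.phi_eq _ (k := (false, false)) (k' := b) (by rw [← cj_cj, ha, hb])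

theorem Cyc.phi_inv (h : F.Cyc p false e) {g : G} (hgK : g ∈ h.NK) {u v : V4}
    (e1 : h.phi hgK u = v) : h.phi (inv_mem hgK) v = u := by
  obtain ⟨a, ha⟩ := h.phi_spec hgK u (false, false)
  rw [e1] at ha
  exact h.phi_eq _ (k := a) (k' := (false, false))
    (by rw [← ha, cj_cj, inv_mul_cancel]; simp [cj])

theorem Cyc.phi_inj (h : F.Cyc p false e) {g : G} (hgK : g ∈ h.NK) :
    Function.Injective (h.phi hgK) := fun u v e1 => by
  rw [← h.phi_inv hgK (rfl : h.phi hgK u = _), e1, h.phi_inv hgK rfl]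

theorem Cyc.phi_zero_iff (h : F.Cyc p false e) {g : G} (hgK : g ∈ h.NK) (u v : V4) :
    bilY false e (h.phi hgK u) (h.phi hgK v) = (false, false) ↔
      bilY false e u v = (false, false) := by
  obtain ⟨a, ha⟩ := h.phi_spec hgK u (false, false)
  obtain ⟨b, hb⟩ := h.phi_spec hgK v (false, false)
  rw [← h.comm_iff (h.phi hgK u, a) (h.phi hgK v, b), ← h.comm_iff (u, (false, false)) (v, (false, false)),
    ← ha, ← hb, ← cj_mul, ← cj_mul]
  exact ⟨fun h' => cj_inj h', fun h' => by rw [h']⟩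

theorem Cyc.phi_sq (h : F.Cyc p false e) {g : G} (hgK : g ∈ h.NK) {v : V4}
    (hv : fY false e v v = (false, false)) :
    fY false e (h.phi hgK v) (h.phi hgK v) = (false, false) := by
  obtain ⟨a, ha⟩ := h.phi_spec hgK v (false, false)
  have h1 : h.layer.el (v, (false, false)) * h.layer.el (v, (false, false)) = 1 := by
    rw [Layer.el_mul, ← h.layer.el_zero]
    congr 1
    simp [Layer.mul, h.layer_add, h.layer_f, h.layer_zero, add4_self, hv, W2.add]
  have h2 := congrArg (cj g) h1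
  rw [cj_mul, ha, Layer.el_mul, show cj g (1 : G) = 1 by simp [cj], ← h.layer.el_zero] at h2
  have h3 := congrArg Prod.snd (h.el_inj h2)
  simp only [Layer.mul, h.layer_f] at h3
  exact cyc_sq_zero _ _ h3

theorem Cyc.phi_mem (h : F.Cyc p false e) {M : List V4}
    (hM : ∀ v k, h.layer.el (v, k) ∈ cls F.t ↔ v ∈ M) {g : G} (hgK : g ∈ h.NK) {v : V4}
    (hv : v ∈ M) : h.phi hgK v ∈ M := by
  obtain ⟨a, ha⟩ := h.phi_spec hgK v (false, false)
  exact (hM _ a).1 (ha ▸ cj_mem_cls ((hM v _).2 hv))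

theorem Cyc.phi_p (h : F.Cyc p false e) (v : V4) : h.phi h.p_mem_NK v = pMap v := by
  obtain ⟨w, d⟩ := v
  refine h.phi_eq _ (k := (false, false)) (k' := (pImg false (w, (false, false))).2) ?_
  rw [h.cj_p_layer]
  congr 1
  refine Prod.ext ?_ rfl
  simp only [pMap, pImg_fst]

theorem Cyc.phi_of_mem (h : F.Cyc p false e) {g : G} (hgK : g ∈ h.NK) (hgD : g ∈ h.layer.group)
    (v : V4) : h.phi hgK v = v := by
  obtain ⟨y, rfl⟩ := hgD
  obtain ⟨a, ha⟩ := h.phi_spec hgK v (false, false)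
  have e1 : h.layer.el (h.phi hgK v, a) * h.layer.el y =
      h.layer.el y * h.layer.el (v, (false, false)) := by
    rw [← ha, cj, inv_mul_cancel_right]
  rw [Layer.el_mul, Layer.el_mul] at e1
  have e2 := congrArg Prod.fst (h.el_inj e1)
  simp only [Layer.mul, h.layer_add] at e2
  exact add4_conj _ _ _ e2

theorem Cyc.PG_le_NK (h : F.Cyc p false e) (hg : F.g.Both) (hd : F.lab = labTwo) :
    F.PG ≤ h.NK := fun s hs => by
  have hle := h.group_le_PG
  have hN : (h.layer.group.subgroupOf F.PG).Normal := Subgroup.normal_of_index_eq_two (by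
    have := (h.layer.group.subgroupOf F.PG).card_mul_index
    rw [Nat.card_congr (Subgroup.subgroupOfEquivOfLe hle).toEquiv, h.card_group,
      h.card_PG128 hg hd] at this
    omega)
  exact mem_normalizer_of_maps fun d hdD =>
    Subgroup.mem_subgroupOf.1 (hN.conj_mem ⟨d, hle hdD⟩ (Subgroup.mem_subgroupOf.2 hdD) ⟨s, hs⟩)

end Fr

end CfsgLib.InvTwoS6
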