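import Cfsg.Agent.Lib.InvTwoS6.CycExt

/-!
# The conjugates of `t` in the cyclic case
-/

set_option autoImplicit false

namespace CfsgLib.InvTwoS6

theorem cyc_bil_zero_iff : ∀ a b c d : W2,
    (W2.add a (W2.add c d) = W2.add b (W2.add d c)) ↔ W2.add a b = (false, false) := by decide

theorem cyc_sq_zero : ∀ a c : W2, W2.add a (W2.add c c) = (false, false) → a = (false, false) := by
  decide

theorem inS_two_gen : ∀ v : V3 × W2,
    labTwo.inS (((true, false), false), v.2) = true ∧
    labTwo.inS (((true, true), false), v.2) = true ∧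
    labTwo.inS (((true, false), true), v.2) = true := by decide

theorem conj3_fst : ∀ u v : V3 × W2, (mul3 (mul3 u v) (inv3 u)).1 = v.1 := by decide +kernel

theorem inner_candY : ∀ (e : Bool) (v : V3), labTwo.inS (v, (false, false)) = true ↔
    (v, false) ∈ candY e := by decide +kernel

/-- A group of order 128 acting with stabilizers of order at most 16 has orbits of lengths
divisible by eight. -/
theorem dvd_card_of_stab {K X : Type*} [Group K] [Finite K] [MulAction K X] [Finite X] {m n : ℕ}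
    (hK : Nat.card K = 2 ^ (m + n)) (h : ∀ x : X, Nat.card (MulAction.stabilizer K x) ∣ 2 ^ m) :
    2 ^ n ∣ Nat.card X := by
  classical
  have : Fintype (MulAction.orbitRel.Quotient K X) := Fintype.ofFinite _
  rw [Nat.card_congr (MulAction.selfEquivSigmaOrbits K X), Nat.card_sigma]
  refine Finset.dvd_sum fun q _ => ?_
  have e : Nat.card (MulAction.orbit K q.out) * Nat.card (MulAction.stabilizer K q.out) =
      Nat.card K := by
    rw [← Nat.card_prod]
    exact Nat.card_congr (MulAction.orbitProdStabilizerEquivGroup K q.out)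
  obtain ⟨c, hc⟩ := h q.out
  refine ⟨c, Nat.eq_of_mul_eq_mul_right (Nat.card_pos (α := MulAction.stabilizer K q.out)) ?_⟩
  rw [e, hK, pow_add, hc]
  ring

namespace Fr

variable {G : Type*} [Group G] {L : Type*} [Group L] {F : Fr G L} [Finite G]

theorem nIn_S_two (hg : F.g.Both) (hd : F.lab = labTwo) : F.nIn F.S = 12 := by
  rw [← sum_two, ← Nat.card_eq_fintype_card]
  exact (Nat.card_congr (Equiv.ofBijective
    (fun v : {v : V3 × W2 // labTwo.inS v = true} =>
      (⟨F.el v.1, (F.mem_cls_el hg _).2 (hd.symm ▸ v.2), v.1, rfl⟩ :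
        {u : G // u ∈ cls F.t ∧ u ∈ F.S}))
    ⟨fun u v e => Subtype.ext (F.el_injective (Subtype.ext_iff.1 e)),
      fun ⟨u, hu, v, hv⟩ => ⟨⟨v, hd ▸ (F.mem_cls_el hg v).1
        (show F.el v ∈ _ from (show F.el v = u from hv) ▸ hu)⟩, Subtype.ext hv⟩⟩)).symm

/-- The conjugates of `t` in `S` generate `S`. -/
theorem S_le_of_cls (hg : F.g.Both) (hd : F.lab = labTwo) {H : Subgroup G}
    (h : ∀ u ∈ cls F.t, u ∈ F.S → u ∈ H) : F.S ≤ H := by
  have hm : ∀ v, labTwo.inS v = true → F.el v ∈ H := fun v hv =>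
    h _ ((F.mem_cls_el hg v).2 (hd.symm ▸ hv)) ⟨v, rfl⟩
  rintro _ ⟨⟨⟨⟨i, j⟩, k⟩, w⟩, rfl⟩
  have ht := hm (((true, false), false), (false, false)) rfl
  have hw := hm (((true, false), false), w) (inS_two_gen (((false, false), false), w)).1
  have hA := hm (((true, true), false), (false, false)) rfl
  have hC := hm (((true, false), true), (false, false)) rfl
  have hpw : ∀ (v : V3 × W2) (e : Bool), F.el v ∈ H → pw (F.el v) e ∈ H := fun v e hv => by
    cases e
    · exact one_mem _
    · exact hv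
  have := mul_mem (mul_mem (mul_mem (hpw _ i ht) (hpw _ j hA)) (hpw _ j ht))
    (mul_mem (mul_mem (hpw _ k hC) (hpw _ k ht)) (mul_mem ht hw))
  rw [el_pw, el_pw, el_pw, el_pw, el_pw, el_mul, el_mul, el_mul, el_mul, el_mul, el_mul] at this
  convert this using 2
  obtain ⟨l, m⟩ := w
  cases i <;> cases j <;> cases k <;> cases l <;> cases m <;> rfl

variable {p : G} {al e : Bool}

theorem Cyc.comm_iff (h : F.Cyc p al e) (x y : V4 × W2) :
    h.layer.el x * h.layer.el y = h.layer.el y * h.layer.el x ↔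
      bilY al e x.1 y.1 = (false, false) := by
  rw [Layer.el_mul, Layer.el_mul, h.el_inj.eq_iff]
  simp only [Layer.mul, Prod.mk.injEq, h.layer_add, h.layer_f, add4_comm x.1 y.1, true_and,
    cyc_bil_zero_iff, bilY]

/-- The centralizer of a label. -/
def Cyc.kerSub (h : F.Cyc p al e) (u : V4) : Subgroup G :=
  h.layer.sub (fun v => decide (bilY al e u v = (false, false)))
    (decide_eq_true ((h.comm_iff (u, (false, false)) (h.layer.zero, (false, false))).1 (by
      rw [Layer.el_zero, mul_one, one_mul])))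
    fun x y hx hy => decide_eq_true ((h.comm_iff (u, (false, false))
      (h.layer.mul (x, (false, false)) (y, (false, false)))).1 (by
      have h1 := (h.comm_iff (u, (false, false)) (x, (false, false))).2 (of_decide_eq_true hx)
      have h2 := (h.comm_iff (u, (false, false)) (y, (false, false))).2 (of_decide_eq_true hy)
      rw [← Layer.el_mul, ← mul_assoc, h1, mul_assoc, h2, mul_assoc]))

theorem card_pred4 (χ : V4 → Bool) : Fintype.card {v : V4 // χ v = true} = all4.countP χ := by
  rw [List.countP_eq_length_filter, ← List.toFinset_card_of_nodup (all4_nodup.filter _),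
    Fintype.card_subtype]
  congr 1
  ext v
  simp [mem_all4]

theorem Cyc.kerSub_spec (h : F.Cyc p al e) (u : V4 × W2) :
    Nat.card (h.kerSub u.1) =
      (all4.countP fun v => decide (bilY al e u.1 v = (false, false))) * 4 ∧
      ∀ x ∈ h.kerSub u.1, x * h.layer.el u = h.layer.el u * x := by
  refine ⟨?_, ?_⟩
  · rw [Cyc.kerSub, Layer.card_sub _ h.el_inj, card_pred4]
  · rintro _ ⟨x, hx, rfl⟩
    exact ((h.comm_iff u x).2 (of_decide_eq_true hx)).symm

theorem Cyc.conj_label (h : F.Cyc p al e) (hg : F.g.Both) (hd : F.lab = labTwo) {n : G}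
    (hn : n ∈ F.NS) (x : V4 × W2) :
    ∃ x', cj n (h.layer.el x) = h.layer.el x' ∧ x'.1.1.1.1 = x.1.1.1.1 ∧ x'.1.2 = x.1.2 := by
  have hin : ∀ (y : V4 × W2), ∃ x', cj (h.layer.el y) (h.layer.el x) = h.layer.el x' ∧
      x'.1.1.1.1 = x.1.1.1.1 ∧ x'.1.2 = x.1.2 := fun y => by
    have hm : cj (h.layer.el y) (h.layer.el x) ∈ h.layer.group :=
      mul_mem (mul_mem ⟨y, rfl⟩ ⟨x, rfl⟩) (inv_mem ⟨y, rfl⟩)
    obtain ⟨x', hx'⟩ := hm
    have e : h.layer.el x' * h.layer.el y = h.layer.el y * h.layer.el x := by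
      rw [hx', cj, inv_mul_cancel_right]
    rw [Layer.el_mul, Layer.el_mul] at e
    have e' := congrArg Prod.fst (h.el_inj e)
    simp only [Layer.mul, h.layer_add] at e'
    obtain ⟨⟨⟨⟨a, b⟩, c⟩, d⟩, _⟩ := x'
    obtain ⟨⟨⟨⟨a', b'⟩, c'⟩, d'⟩, _⟩ := y
    obtain ⟨⟨⟨⟨a'', b''⟩, c''⟩, d''⟩, _⟩ := x
    refine ⟨_, hx'.symm, ?_⟩
    simp only [add4, Prod.mk.injEq] at e' ⊢
    obtain ⟨⟨⟨e1, -⟩, -⟩, e4⟩ := e'
    revert e1 e4
    cases a <;> cases a' <;> cases a'' <;> cases d <;> cases d' <;> cases d'' <;> simp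
  have hp : ∀ y : V4 × W2, ∃ x', cj p (h.layer.el y) = h.layer.el x' ∧
      x'.1.1.1.1 = y.1.1.1.1 ∧ x'.1.2 = y.1.2 := by
    rintro ⟨⟨v, d⟩, k⟩
    refine ⟨(((pImg al (v, k)).1, d), (pImg al (v, k)).2), ?_, ?_, rfl⟩
    · rw [h.layer_el, cj_mul, h.cj_p_el, cj_pw,
        show cj p (p * p) = p * p by simp only [cj]; group, h.layer_el]
    · rw [pImg_fst]
  rcases h.decompose hg hd hn with ⟨y, rfl⟩ | ⟨y, rfl⟩
  · exact hin y
  · obtain ⟨x', e1, e2, e3⟩ := hin y
    obtain ⟨x'', e4, e5, e6⟩ := hp x'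
    exact ⟨x'', by rw [← cj_cj, e1, e4], e5.trans e2, e6.trans e3⟩

/-- The centralizer in `NS` of a conjugate of `t` outside `S`, when the commutator is onto. -/
theorem Cyc.stab_small (h : F.Cyc p true e) (hg : F.g.Both) (hd : F.lab = labTwo) {x : V4 × W2}
    (hx : x.1.2 = true) (hu : h.layer.el x ∈ cls F.t) {Q : Subgroup G} (hQ : Q ≤ F.NS)
    (hQu : ∀ y ∈ Q, y * h.layer.el x = h.layer.el x * y) {k : ℕ} (hk : Nat.card Q = 2 ^ k) :
    k ≤ 4 := by
  have h5 := F.card_le_of_two hu hk hQu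
  by_contra h4
  have hk5 : k = 5 := by omega
  subst hk5
  obtain ⟨g, -, hgQ⟩ := F.exists_conj_S hu hk hQu
  -- `Q` lies in the subgroup of index two
  have hQD : Q ≤ h.layer.group := by
    have hS : F.S ≤ h.layer.group.map (MulAut.conj g).toMonoidHom := by
      refine F.S_le_of_cls hg hd fun u hu huS => ?_
      refine ⟨g⁻¹ * u * g, ?_, show g * (g⁻¹ * u * g) * g⁻¹ = u by group⟩
      refine h.cls_mem hg hd (conj_mem_cls hu g) (hQ ((hgQ _).2 ?_))
      rwa [show g * (g⁻¹ * u * g) * g⁻¹ = u by group]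
    intro y hy
    obtain ⟨y', hy', e⟩ := hS ((hgQ y).1 hy)
    have e' : g * y' * g⁻¹ = g * y * g⁻¹ := e
    rw [mul_left_inj, mul_right_inj] at e'
    exact e' ▸ hy'
  have hle : Q ≤ h.kerSub x.1 := fun y hy => by
    obtain ⟨y', rfl⟩ := hQD hy
    exact ⟨y', decide_eq_true ((h.comm_iff x y').1 (hQu _ hy).symm), rfl⟩
  have hc := Subgroup.card_le_of_le hle
  have hs := alpha_small e x.1
  have hsq : fY true e x.1 x.1 = (false, false) := by
    have h1 := sq_of_mem_cls F.sq hu
    rw [Layer.el_mul, ← h.layer.el_zero] at h1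
    have h2 := congrArg Prod.snd (h.el_inj h1)
    simp only [Layer.mul, h.layer_f] at h2
    exact cyc_sq_zero _ _ h2
  simp only [hx, hsq, Bool.not_true, decide_true, Bool.false_or, decide_eq_true_eq] at hs
  rw [(h.kerSub_spec x).1, hs, hk] at hc
  omega

/-- The commutator cannot be onto. -/
theorem Cyc.alpha_false (h : F.Cyc p true e) (hg : F.g.Both) (hG : NoTwo G)
    (hd : F.lab = labTwo) : False := by
  classical
  have hle := h.group_le
  have hNS : Nat.card F.NS = 128 := by rw [F.card_NS hg, hd]; rfl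
  -- sets of outer conjugates on which `NS` acts
  have key : ∀ (χ : V4 → Bool), (∀ x x' : V4 × W2, x'.1.1.1.1 = x.1.1.1.1 → x'.1.2 = x.1.2 →
      χ x'.1 = χ x.1) →
      8 ∣ Nat.card {u : G // u ∈ cls F.t ∧ ∃ x, (x.1.2 && χ x.1) = true ∧ h.layer.el x = u} := by
    intro χ hχ
    letI : MulAction F.NS
        {u : G // u ∈ cls F.t ∧ ∃ x, (x.1.2 && χ x.1) = true ∧ h.layer.el x = u} :=
      { smul := fun n u => ⟨cj (n : G) u.1, cj_mem_cls u.2.1, by
          obtain ⟨x, hx, hxu⟩ := u.2.2
          obtain ⟨x', e1, e2, e3⟩ := h.conj_label hg hd n.2 x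
          exact ⟨x', by rw [hχ x x' e2 e3, e3]; exact hx, by rw [← e1, hxu]⟩⟩
        one_smul := fun u => Subtype.ext (show cj (1 : G) u.1 = u.1 by simp [cj])
        mul_smul := fun n n' u => Subtype.ext (cj_cj _ _ _).symm }
    refine dvd_card_of_stab (K := F.NS) (m := 4) (n := 3) hNS fun u => ?_
    obtain ⟨x, hx, hxu⟩ := u.2.2
    rw [Bool.and_eq_true] at hx
    set St := MulAction.stabilizer F.NS u with hSt
    obtain ⟨k, -, hk⟩ := (Nat.dvd_prime_pow Nat.prime_two).1
      (show Nat.card St ∣ 2 ^ 7 from (show Nat.card F.NS = 2 ^ 7 from hNS) ▸ St.card_subgroup_dvd_card)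
    rw [hk]
    refine pow_dvd_pow 2 (h.stab_small hg hd hx.1 (hxu ▸ u.2.1) (Q := St.map F.NS.subtype) ?_ ?_ ?_)
    · rintro _ ⟨n, -, rfl⟩; exact n.2
    · rintro _ ⟨n, hn, rfl⟩
      have e' : cj (n : G) u.1 = u.1 := congrArg Subtype.val (show n • u = u from hn)
      rw [hxu]
      exact comm_of_cj e'
    · rw [Subgroup.card_map_of_injective (Subgroup.subtype_injective _), hk]
  have hout := key (fun _ => true) (fun _ _ _ _ => rfl)
  have hzero := key (fun v => !v.1.1.1) (fun x x' e1 _ => by simp only [e1])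
  -- the count in the subgroup of index two
  have hD : F.nIn h.layer.group =
      12 + Nat.card {u : G // u ∈ cls F.t ∧ ∃ x, (x.1.2 && true) = true ∧ h.layer.el x = u} := by
    rw [← F.nIn_S_two hg hd, nIn, nIn, ← Nat.card_sum]
    let f : {u : G // u ∈ cls F.t ∧ u ∈ F.S} ⊕
        {u : G // u ∈ cls F.t ∧ ∃ x, (x.1.2 && true) = true ∧ h.layer.el x = u} →
        {u : G // u ∈ cls F.t ∧ u ∈ h.layer.group} :=
      Sum.elim (fun u => ⟨u.1, u.2.1, by
          obtain ⟨v, hv⟩ := F.mem_S_iff.1 u.2.2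
          exact ⟨((v.1, false), v.2), by rw [h.layer_inner, hv]⟩⟩)
        (fun u => ⟨u.1, u.2.1, by obtain ⟨x, -, hx⟩ := u.2.2; exact ⟨x, hx⟩⟩)
    refine (Nat.card_congr (Equiv.ofBijective f ⟨fun x y e => ?_, fun ⟨u, hu, x, hx⟩ => ?_⟩)).symm
    · have e' : (f x).1 = (f y).1 := congrArg Subtype.val e
      rcases x with ⟨x, hx⟩ | ⟨x, hx⟩ <;> rcases y with ⟨y, hy⟩ | ⟨y, hy⟩ <;>
        simp only [f, Sum.elim_inl, Sum.elim_inr] at e' <;> subst e'
      · rfl
      · exfalso
        obtain ⟨v, hv⟩ := F.mem_S_iff.1 hx.2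
        obtain ⟨z, hz, hzy⟩ := hy.2
        rw [← hv, ← h.layer_inner] at hzy
        rw [h.el_inj hzy] at hz
        simp at hz
      · exfalso
        obtain ⟨v, hv⟩ := F.mem_S_iff.1 hy.2
        obtain ⟨z, hz, hzy⟩ := hx.2
        rw [← hv, ← h.layer_inner] at hzy
        rw [h.el_inj hzy] at hz
        simp at hz
      · rfl
    · obtain ⟨⟨v, d⟩, k⟩ := x
      cases d
      · exact ⟨Sum.inl ⟨u, hu, (v, k), by rw [← hx, h.layer_inner]⟩, rfl⟩
      · exact ⟨Sum.inr ⟨u, hu, ((v, true), k), rfl, hx⟩, rfl⟩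
  have h128 : 128 ∣ Nat.card G := hNS ▸ F.NS.card_subgroup_dvd_card
  by_cases h256 : 256 ∣ Nat.card G
  · obtain ⟨i, hi⟩ := hout
    exact F.forbid hG h.layer.group (by rw [h.card_group]; exact h256) (r := i + 1)
      (by rw [hD, hi, h.card_group]; ring)
  -- the kernel of the character extended by `p`
  have h0 : (!(h.layer.zero).1.1.1) = true := rfl
  set D0 := h.layer.sub (fun v => !v.1.1.1) h0 (fun u v hu hv => by
    simp only [Bool.not_eq_true'] at hu hv ⊢
    simp [h.layer_add, add4, hu, hv]) with hD0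
  have hy0 : p * p ∈ D0 := by
    refine ⟨((((false, false), false), true), (false, false)), rfl, ?_⟩
    rw [h.layer_el, el_one, one_mul, pw_true]
  have hn : ∀ g ∈ D0, cj p g ∈ D0 := by
    rintro _ ⟨x, hx, rfl⟩
    obtain ⟨x', e1, e2, -⟩ := h.conj_label hg hd h.mem x
    exact ⟨x', by simp only [e2]; exact hx, e1.symm⟩
  have hpD : p ∉ h.layer.group := fun hm => by
    obtain ⟨x, hx⟩ := hm
    have := (h.el_cj_t x).2
    rw [hx, h.pa, b_ce, ← ce_a] at this
    exact absurd (F.ce_injective this) (by decide)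
  set M := ofClosed {g | g ∈ D0 ∨ p⁻¹ * g ∈ D0} (Or.inl (one_mem _)) (by
    have hN : p ∈ Subgroup.normalizer (D0 : Set G) := mem_normalizer_of_maps hn
    rintro u (hu | hu) v (hv | hv)
    · exact Or.inl (mul_mem hu hv)
    · refine Or.inr ?_
      have := mul_mem ((Subgroup.mem_normalizer_iff.1 (inv_mem hN) u).1 hu) hv
      rwa [inv_inv, show p⁻¹ * u * p * (p⁻¹ * v) = p⁻¹ * (u * v) by group] at this
    · refine Or.inr ?_
      have := mul_mem hu hv
      rwa [mul_assoc] at this
    · refine Or.inl ?_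
      have := mul_mem (mul_mem ((Subgroup.mem_normalizer_iff.1 hN (p⁻¹ * u)).1 hu) hy0) hv
      rwa [show p * (p⁻¹ * u) * p⁻¹ * (p * p) * (p⁻¹ * v) = u * v by group] at this) with hM
  have hD0le : D0 ≤ h.layer.group := by rintro _ ⟨x, -, rfl⟩; exact ⟨x, rfl⟩
  have hD0c : Nat.card D0 = 32 := by
    rw [hD0, Layer.card_sub _ h.el_inj, card_pred4]; rfl
  have hMc : Nat.card M = 64 := by
    let f : Bool × D0 → M := fun u => ⟨pw p u.1 * u.2.1, by
      cases u.1
      · exact Or.inl (by rw [pw_false, one_mul]; exact u.2.2)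
      · exact Or.inr (by rw [pw_true, inv_mul_cancel_left]; exact u.2.2)⟩
    rw [← Nat.card_congr (Equiv.ofBijective f ⟨?_, ?_⟩), Nat.card_prod, hD0c,
      Nat.card_eq_fintype_card, Fintype.card_bool]
    · rintro ⟨i, u, hu⟩ ⟨i', v, hv⟩ e
      have e' : pw p i * u = pw p i' * v := Subtype.ext_iff.1 e
      cases i <;> cases i' <;> simp only [pw_true, pw_false, one_mul, mul_right_inj] at e'
      · subst e'; rfl
      · exfalso
        apply hpD
        have := mul_mem (hD0le hu) (inv_mem (hD0le hv))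
        rwa [e', mul_inv_cancel_right] at this
      · exfalso
        apply hpD
        have := mul_mem (hD0le hv) (inv_mem (hD0le hu))
        rwa [← e', mul_inv_cancel_right] at this
      · subst e'; rfl
    · rintro ⟨u, hu | hu⟩
      · exact ⟨(false, ⟨u, hu⟩), Subtype.ext (one_mul u)⟩
      · exact ⟨(true, ⟨p⁻¹ * u, hu⟩), Subtype.ext (mul_inv_cancel_left p u)⟩
  have hMn : F.nIn M =
      Nat.card {u : G // u ∈ cls F.t ∧ ∃ x, (x.1.2 && !x.1.1.1.1) = true ∧ h.layer.el x = u} := by
    refine Nat.card_congr (Equiv.subtypeEquivRight fun u => and_congr_right fun hu => ?_)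
    constructor
    · rintro (hm | hm)
      · obtain ⟨x, hx, hxu⟩ := hm
        refine ⟨x, ?_, hxu⟩
        obtain ⟨⟨v, d⟩, k⟩ := x
        cases d
        · exfalso
          rw [← hxu, h.layer_inner, F.mem_cls_el hg, hd, inS_two] at hu
          simp only [Bool.not_eq_true'] at hx
          obtain ⟨⟨i, j⟩, k'⟩ := v
          simp at hu hx
          simp [hx] at hu
        · exact hx
      · exfalso
        apply hpD
        have hpu : u ∈ F.NS := by
          have := mul_mem h.mem (hle (hD0le hm))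
          rwa [mul_inv_cancel_left] at this
        have := mul_mem (h.cls_mem hg hd hu hpu) (inv_mem (hD0le hm))
        rwa [mul_inv_rev, inv_inv, mul_inv_cancel_left] at this
    · rintro ⟨x, hx, hxu⟩
      rw [Bool.and_eq_true] at hx
      exact Or.inl ⟨x, hx.2, hxu⟩
  obtain ⟨k, hk⟩ := h128
  obtain ⟨j, rfl⟩ : ∃ j, k = 2 * j + 1 := by
    refine ⟨k / 2, ?_⟩
    rcases Nat.mod_two_eq_zero_or_one k with e | e
    · exact absurd ⟨k / 2, by omega⟩ h256
    · omega
  obtain ⟨i, hi⟩ := hzero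
  exact F.forbid_two hG M (m := j) (by rw [hk, hMc]; ring) (r := i)
    (by rw [hMn, hi, hMc]; ring)

/-- The count in a centralizer, by labels. -/
theorem Cyc.degree (h : F.Cyc p false e) (hg : F.g.Both) (hd : F.lab = labTwo) {u : V4} {k : W2}
    (hu : h.layer.el (u, k) ∈ cls F.t) {l : List V4}
    (hl : (candY e).filter (fun v => decide (bilY false e u v = (false, false))) = l) :
    (l.map (F.nLab h.layer)).sum = 12 := by
  classical
  have hcand : ∀ v, F.nLab h.layer v ≠ 0 → v ∈ candY e := by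
    intro v hv
    obtain ⟨⟨w, hw⟩⟩ : Nonempty {w : W2 // h.layer.el (v, w) ∈ cls F.t} := by
      by_contra hne
      rw [not_nonempty_iff] at hne
      exact hv Nat.card_of_isEmpty
    obtain ⟨v', d⟩ := v
    cases d
    · rw [h.layer_inner, F.mem_cls_el hg, hd, inS_two] at hw
      exact (inner_candY e v').1 ((inS_two _).2 hw)
    · have hs := outer_cand e (v', true)
      have hsq : fY false e (v', true) (v', true) = (false, false) := by
        have h1 := sq_of_mem_cls F.sq hw
        rw [Layer.el_mul, ← h.layer.el_zero] at h1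
        have h2 := congrArg Prod.snd (h.el_inj h1)
        simp only [Layer.mul, h.layer_f] at h2
        exact cyc_sq_zero _ _ h2
      simpa [hsq] using hs
  have hk : u ∈ candY e := hcand u (by
    haveI : Nonempty {w : W2 // h.layer.el (u, w) ∈ cls F.t} := ⟨⟨k, hu⟩⟩
    exact (Nat.card_pos (α := {w : W2 // h.layer.el (u, w) ∈ cls F.t})).ne')
  have hb := beta_big e
  rw [List.all_eq_true] at hb
  obtain ⟨hQ1, hQ2⟩ := h.kerSub_spec (u, k)
  obtain ⟨g, -, hgQ⟩ := F.exists_conj_S hu (Q := h.kerSub u)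
    (by rw [hQ1, of_decide_eq_true (hb u hk)]) hQ2
  have hcard : F.nIn (h.kerSub u) = F.nIn F.S :=
    Nat.card_congr ((MulAut.conj g).toEquiv.subtypeEquiv fun x => by
      rw [show (MulAut.conj g).toEquiv x = g * x * g⁻¹ from rfl, ← hgQ]
      refine and_congr_left fun _ => ?_
      rw [show g * x * g⁻¹ = g⁻¹⁻¹ * x * g⁻¹ by rw [inv_inv], conj_mem_cls_iff])
  rw [F.nIn_S_two hg hd, Cyc.kerSub, F.nIn_sub h.layer h.el_inj,
    ← Finset.sum_subtype (Finset.univ.filter fun v =>
      decide (bilY false e u v = (false, false)) = true) (by simp) (F.nLab h.layer)] at hcard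
  rw [← hcard, ← List.sum_toFinset _ (hl ▸ (candY_nodup e).filter _)]
  refine Finset.sum_subset (fun v hv => ?_) (fun v hv hv' => ?_)
  · rw [← hl, List.mem_toFinset, List.mem_filter] at hv
    simpa using hv.2
  · by_contra hne
    apply hv'
    rw [← hl, List.mem_toFinset, List.mem_filter]
    exact ⟨hcand v hne, by simpa using hv⟩

theorem Cyc.nLab_inner (h : F.Cyc p al e) (hg : F.g.Both) (hd : F.lab = labTwo) {v : V3}
    (hv : labTwo.inS (v, (false, false)) = true) : F.nLab h.layer (v, false) = 4 := by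
  rw [inS_two] at hv
  rw [nLab, Nat.card_congr (Equiv.subtypeUnivEquiv fun k => (by
    rw [h.layer_inner, F.mem_cls_el hg, hd, inS_two]; exact hv :
      h.layer.el ((v, false), k) ∈ cls F.t)), Nat.card_eq_fintype_card]
  rfl

/-- The two configurations. -/
theorem Cyc.configurations (h : F.Cyc p false e) (hg : F.g.Both) (hd : F.lab = labTwo) :
    ∃ M, (M = [yT, yTA, yTC, yX e] ∨ M = [yT, yTA, yTC, yY e, yAY e, yCY e]) ∧
      ∀ v k, h.layer.el (v, k) ∈ cls F.t ↔ v ∈ M := by
  classical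
  obtain ⟨kA, kC, kY, kAY, kX⟩ := ker_lists e
  have n1 := h.nLab_inner hg hd (v := ((true, false), false)) rfl
  have n2 := h.nLab_inner hg hd (v := ((true, true), false)) rfl
  have n3 := h.nLab_inner hg hd (v := ((true, false), true)) rfl
  change F.nLab h.layer yT = 4 at n1
  change F.nLab h.layer yTA = 4 at n2
  change F.nLab h.layer yTC = 4 at n3
  have hmemA : h.layer.el (yTA, (false, false)) ∈ cls F.t := by
    rw [yTA, h.layer_inner, F.mem_cls_el hg, hd]; rfl
  have hmemC : h.layer.el (yTC, (false, false)) ∈ cls F.t := by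
    rw [yTC, h.layer_inner, F.mem_cls_el hg, hd]; rfl
  have dA := h.degree hg hd hmemA kA
  have dC := h.degree hg hd hmemC kC
  simp only [List.map_cons, List.map_nil, List.sum_cons, List.sum_nil, n1, n2, n3] at dA dC
  have opt : ∀ (v : V4) (l : List V4),
      (candY e).filter (fun w => decide (bilY false e v w = (false, false))) = l →
      0 < F.nLab h.layer v → (l.map (F.nLab h.layer)).sum = 12 := by
    intro v l hl hpos
    obtain ⟨⟨k, hk⟩⟩ := (Nat.card_pos_iff.1 hpos).1
    exact h.degree hg hd hk hl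
  have dY := opt _ _ kY
  have dAY := opt _ _ kAY
  have dX := opt _ _ kX
  simp only [List.map_cons, List.map_nil, List.sum_cons, List.sum_nil, n1, n2, n3] at dY dAY dX
  have b1 := F.nLab_le h.layer (yY e)
  have b2 := F.nLab_le h.layer (yAY e)
  have b3 := F.nLab_le h.layer (yCY e)
  have b4 := F.nLab_le h.layer (yX e)
  have hsol : (F.nLab h.layer (yX e) = 4 ∧ F.nLab h.layer (yY e) = 0 ∧
      F.nLab h.layer (yAY e) = 0 ∧ F.nLab h.layer (yCY e) = 0) ∨
      (F.nLab h.layer (yX e) = 0 ∧ F.nLab h.layer (yY e) = 4 ∧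
      F.nLab h.layer (yAY e) = 4 ∧ F.nLab h.layer (yCY e) = 4) := by omega
  have hfull : ∀ v, F.nLab h.layer v = 4 → ∀ k, h.layer.el (v, k) ∈ cls F.t := by
    intro v hv k
    have hb : Function.Bijective (Subtype.val : {w : W2 // h.layer.el (v, w) ∈ cls F.t} → W2) :=
      (Nat.bijective_iff_injective_and_card _).2 ⟨Subtype.val_injective, by
        rw [show Nat.card {w : W2 // h.layer.el (v, w) ∈ cls F.t} = 4 from hv,
          Nat.card_eq_fintype_card]
        rfl⟩
    obtain ⟨w, hw⟩ := hb.2 k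
    exact hw ▸ w.2
  have hcand : ∀ v k, h.layer.el (v, k) ∈ cls F.t → v ∈ candY e ∧ F.nLab h.layer v ≠ 0 := by
    intro v k hk
    haveI : Nonempty {w : W2 // h.layer.el (v, w) ∈ cls F.t} := ⟨⟨k, hk⟩⟩
    have hne : F.nLab h.layer v ≠ 0 :=
      (Nat.card_pos (α := {w : W2 // h.layer.el (v, w) ∈ cls F.t})).ne'
    obtain ⟨v', d⟩ := v
    refine ⟨?_, hne⟩
    cases d
    · rw [h.layer_inner, F.mem_cls_el hg, hd, inS_two] at hk
      exact (inner_candY e v').1 ((inS_two _).2 hk)
    · have hs := outer_cand e (v', true)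
      have hsq : fY false e (v', true) (v', true) = (false, false) := by
        have h1 := sq_of_mem_cls F.sq hk
        rw [Layer.el_mul, ← h.layer.el_zero] at h1
        have h2 := congrArg Prod.snd (h.el_inj h1)
        simp only [Layer.mul, h.layer_f] at h2
        exact cyc_sq_zero _ _ h2
      simpa [hsq] using hs
  rcases hsol with ⟨m4, m1, m2, m3⟩ | ⟨m4, m1, m2, m3⟩
  · refine ⟨_, Or.inl rfl, fun v k => ⟨fun hk => ?_, fun hv => hfull v ?_ k⟩⟩
    · obtain ⟨hc, hne⟩ := hcand v k hk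
      simp only [candY, List.mem_cons, List.not_mem_nil, or_false] at hc
      rcases hc with rfl | rfl | rfl | rfl | rfl | rfl | rfl <;>
        first | (simp; done) | contradiction | omega
    · simp only [List.mem_cons, List.not_mem_nil, or_false] at hv
      rcases hv with rfl | rfl | rfl | rfl <;> assumption
  · refine ⟨_, Or.inr rfl, fun v k => ⟨fun hk => ?_, fun hv => hfull v ?_ k⟩⟩
    · obtain ⟨hc, hne⟩ := hcand v k hk
      simp only [candY, List.mem_cons, List.not_mem_nil, or_false] at hc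
      rcases hc with rfl | rfl | rfl | rfl | rfl | rfl | rfl <;>
        first | (simp; done) | contradiction | omega
    · simp only [List.mem_cons, List.not_mem_nil, or_false] at hv
      rcases hv with rfl | rfl | rfl | rfl | rfl | rfl <;> assumption

end Fr

end CfsgLib.InvTwoS6
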