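import Cfsg.Agent.Lib.InvTwoS6.CycImage

/-!
# The cyclic case with six cosets of conjugates
-/

set_option autoImplicit false

namespace CfsgLib.InvTwoS6

/-- The six labels. -/
def sixY (e : Bool) : List V4 := [yT, yTA, yTC, yY e, yAY e, yCY e]

set_option synthInstance.maxSize 4096 in
theorem sixY_sub : ∀ e, (sixY e).Nodup ∧ (sixY e).length = 6 ∧ ∀ v ∈ sixY e, v ∈ candY e := by
  decide +kernel

/-- The label with only an `a₁`-coordinate. -/
def eA4 : V4 := (((false, true), false), false)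
/-- The label with only a `c₁`-coordinate. -/
def eC4 : V4 := (((false, false), true), false)

set_option synthInstance.maxSize 4096 in
theorem sixY_center : ∀ e, ∀ v ∈ sixY e, add4 v eA4 ∈ sixY e → add4 v eC4 ∈ sixY e →
    v = yT ∨ v = yY e := by
  decide +kernel

set_option synthInstance.maxSize 4096 in
theorem sixY_nbr : ∀ e, ∀ v ∈ sixY e, bilY false e (yY e) v = (false, false) → v ≠ yY e →
    v = yAY e ∨ v = yCY e := by
  decide +kernel

theorem sixY_pair : ∀ e, ∀ x ∈ sixY e, ∀ y ∈ sixY e, x.1.2 = false → y.1.2 = false → x.2 = y.2 →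
    add4 x y = (((false, false), false), false) ∨ add4 x y = eA4 := by
  decide +kernel

theorem sixY_vals : ∀ e, pMap (yY e) = yY e ∧ pMap (yAY e) = yCY e ∧ pMap (yCY e) = yAY e ∧
    add4 (yY e) (yAY e) = eA4 ∧ add4 (yY e) (yCY e) = eC4 ∧
    add4 yT yTA = eA4 ∧ add4 yT yTC = eC4 := by
  decide +kernel

theorem okTau_card : (Finset.univ.filter fun x : Bool × W2 => okTau x = true).card = 4 := by decide

namespace Fr

variable {G : Type*} [Group G] {L : Type*} [Group L] {F : Fr G L} [Finite G]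
variable {p : G} {e : Bool}

theorem Cyc.six_oneBlock (h : F.Cyc p false e) (hg : F.g.Both) (hd : F.lab = labTwo)
    (hM : ∀ v k, h.layer.el (v, k) ∈ cls F.t ↔ v ∈ sixY e) : F.OneBlock := by
  intro u v hu huA hv hvA htau
  obtain ⟨c, ct, cb, cH, x, hx, ex⟩ := h.exit hg hd huA
  obtain ⟨hcvA, hcvt⟩ := F.cj_conj_AG ct cb cH hvA
  obtain ⟨-, hcut⟩ := F.cj_conj_AG ct cb cH huA
  have e1 : F.tau (cj c v) = F.hv false (false, x.1.2) := by
    rw [hcvt, ← htau, ← hcut, ← ex, h.tau_el]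
  obtain ⟨y, hy⟩ := h.mem_group_of_PG hg hd (Or.inl hcvA) (m := x.1.2)
    (by rw [cj_t_tau, e1, t_hv]; rfl)
  have hyk : y.1.1.2 = false := (h.el_mem_AG hg y).1 (hy ▸ hcvA)
  have hyd : y.1.2 = x.1.2 := by
    rw [← hy, h.tau_el] at e1
    exact congrArg (fun w : W2 => w.2) (F.hv_inj e1).2
  have hxM := (hM x.1 x.2).1 (ex ▸ cj_mem_cls hu)
  have hyM := (hM y.1 y.2).1 (hy ▸ cj_mem_cls hv)
  have hprod : cj c (u⁻¹ * v) ∈ F.H1 := by
    rw [show u⁻¹ = u from inv_eq_of_mul_eq_one_right (sq_of_mem_cls F.sq hu), cj_mul, ← ex, ← hy,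
      Layer.el_mul]
    rcases sixY_pair e _ hxM _ hyM hx hyk hyd.symm with e2 | e2
    · refine ⟨false, (h.layer.mul x y).2, ?_⟩
      rw [Fr.hv, lH, ← h.layer_inner]
      exact congrArg h.layer.el (Prod.ext e2.symm rfl)
    · refine ⟨true, (h.layer.mul x y).2, ?_⟩
      rw [Fr.hv, lH, ← h.layer_inner]
      exact congrArg h.layer.el (Prod.ext e2.symm rfl)
  have := (Subgroup.mem_normalizer_iff.1 (mem_normalizer_of_maps cH) (u⁻¹ * v)).2 hprod
  exact this

theorem Cyc.six_exchange (h : F.Cyc p false e) (hg : F.g.Both) (hd : F.lab = labTwo)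
    (hM : ∀ v k, h.layer.el (v, k) ∈ cls F.t ↔ v ∈ sixY e) :
    ∃ g, ∃ hgK : g ∈ h.NK, h.phi hgK eA4 = eA4 ∧ h.phi hgK eC4 = eC4 ∧
      h.phi hgK yT = yY e ∧ h.phi hgK (yY e) = yT := by
  obtain ⟨v1, v2, v3, v4, v5, v6, v7⟩ := sixY_vals e
  have mT : yT ∈ sixY e := by simp [sixY]
  have mTA : yTA ∈ sixY e := by simp [sixY]
  have mTC : yTC ∈ sixY e := by simp [sixY]
  have mY : yY e ∈ sixY e := by simp [sixY]
  obtain ⟨g0, hg0, e0⟩ := h.transit hg hd hM (sixY_sub e).2.2 ((hM (yY e) (false, false)).2 mY)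
    ⟨_, rfl⟩
  have hT0 : h.phi (inv_mem hg0) yT = yY e := by
    refine h.phi_eq _ (k := (false, false)) (k' := (false, false)) ?_
    rw [show h.layer.el (yT, (false, false)) = F.t by rw [yT, h.layer_inner]; exact F.el_t, ← e0,
      cj_cj, inv_mul_cancel]
    simp [cj]
  -- images of the neighbours of `t`
  have key : ∀ {g : G} (hgK : g ∈ h.NK), h.phi hgK yT = yY e → ∀ w, w = yTA ∨ w = yTC →
      h.phi hgK w = yAY e ∨ h.phi hgK w = yCY e := by
    intro g hgK hT w hw
    have hwM : w ∈ sixY e := by rcases hw with rfl | rfl <;> assumption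
    have hb : bilY false e yT w = (false, false) := by
      rcases hw with rfl | rfl <;> cases e <;> decide
    have hne : w ≠ yT := by rcases hw with rfl | rfl <;> decide
    have hb' := (h.phi_zero_iff hgK yT w).2 hb
    rw [hT] at hb'
    exact sixY_nbr e _ (h.phi_mem hM hgK hwM) hb' fun e' =>
      hne (h.phi_inj hgK (e'.trans hT.symm))
  -- adjust by the generator
  obtain ⟨g, hgK, hT, hTA, hTC⟩ : ∃ g, ∃ hgK : g ∈ h.NK, h.phi hgK yT = yY e ∧
      h.phi hgK yTA = yAY e ∧ h.phi hgK yTC = yCY e := by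
    have hne : h.phi (inv_mem hg0) yTA ≠ h.phi (inv_mem hg0) yTC := fun e' =>
      absurd (h.phi_inj _ e') (by decide)
    rcases key _ hT0 _ (Or.inl rfl) with a | a <;> rcases key _ hT0 _ (Or.inr rfl) with c | c
    · exact absurd (a.trans c.symm) hne
    · exact ⟨_, inv_mem hg0, hT0, a, c⟩
    · refine ⟨_, mul_mem h.p_mem_NK (inv_mem hg0), ?_, ?_, ?_⟩ <;>
        rw [h.phi_comp h.p_mem_NK (inv_mem hg0), h.phi_p]
      · rw [hT0, v1]
      · rw [a, v3]
      · rw [c, v2]
    · exact absurd (a.trans c.symm) hne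
  have fA : h.phi hgK eA4 = eA4 := by rw [← v6, h.phi_add, hT, hTA, v4, v6]
  have fC : h.phi hgK eC4 = eC4 := by rw [← v7, h.phi_add, hT, hTC, v5, v7]
  refine ⟨g, hgK, fA, fC, hT, ?_⟩
  have m1 : add4 (yY e) eA4 ∈ sixY e := by cases e <;> decide
  have m2 : add4 (yY e) eC4 ∈ sixY e := by cases e <;> decide
  have i1 := h.phi_mem hM hgK m1
  have i2 := h.phi_mem hM hgK m2
  rw [h.phi_add, fA] at i1
  rw [h.phi_add, fC] at i2
  refine (sixY_center e _ (h.phi_mem hM hgK mY) i1 i2).resolve_right fun e' => ?_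
  have := h.phi_inj hgK (e'.trans hT.symm)
  revert this
  cases e <;> decide

theorem Cyc.six_false (h : F.Cyc p false e) (hg : F.g.Both) (hG : NoTwo G) (hd : F.lab = labTwo)
    (hM : ∀ v k, h.layer.el (v, k) ∈ cls F.t ↔ v ∈ sixY e) : False := by
  classical
  obtain ⟨g, hgK, fA, -, fT, fY'⟩ := h.six_exchange hg hd hM
  set x := h.layer.el (yY e, (false, false)) with hx
  have hxA : x ∈ F.AG := (h.el_mem_AG hg _).2 rfl
  have h1 := h.six_oneBlock hg hd hM
  have hE := h.elem hg hd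
  have et : F.t = h.layer.el (yT, (false, false)) := by
    rw [yT, h.layer_inner]; exact F.el_t.symm
  have hH : ∀ k ∈ F.H1, cj g k ∈ F.H1 := by
    rintro _ ⟨j, w, rfl⟩
    obtain ⟨k', hk'⟩ := h.phi_spec hgK (((false, j), false), false) w
    have hj : h.phi hgK (((false, j), false), false) = (((false, j), false), false) := by
      cases j
      · obtain ⟨k'', h'⟩ := h.image_zero hgK (false, false)
        exact h.phi_eq hgK h'
      · exact fA
    refine ⟨j, k', ?_⟩
    rw [Fr.hv, lH, Fr.hv, lH, ← h.layer_inner, ← h.layer_inner, hk', hj]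
  obtain ⟨k1, hk1⟩ := h.phi_spec hgK yT (false, false)
  obtain ⟨k2, hk2⟩ := h.phi_spec hgK (yY e) (false, false)
  rw [fT, ← et] at hk1
  rw [fY', ← hx] at hk2
  have hzero : ∀ k, h.layer.el (h.layer.zero, k) ∈ F.H1 := fun k => ⟨false, k, by
    rw [Fr.hv, lH, ← h.layer_inner, h.layer_zero]⟩
  have hgL : g ∈ F.LG := by
    refine hE.mem_LG hxA hH ?_ ?_
    · rw [hk1, show h.layer.el (yY e, k1) = x * h.layer.el (h.layer.zero, k1) by
        rw [hx, Layer.el_split]; simp [W2.add], inv_mul_cancel_left]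
      exact hzero _
    · rw [hk2, show h.layer.el (yT, k2) = F.t * h.layer.el (h.layer.zero, k2) by
        rw [et, Layer.el_split]; simp [W2.add], inv_mul_cancel_left]
      exact hzero _
  have hmem0 : (false, (false, false)) ∈ F.tauOrb := Finset.mem_filter.2
    ⟨Finset.mem_univ _, 1, one_mem _, by simp [cj, tau, F.sq, hv_one]⟩
  have hmem1 : (false, (false, true)) ∈ F.tauOrb := Finset.mem_filter.2
    ⟨Finset.mem_univ _, g, hgL, by rw [hk1, h.tau_el]; rfl⟩
  have hsub : F.tauOrb ⊆ Finset.univ.filter fun y : Bool × W2 => okTau y = true := by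
    intro y hy
    obtain ⟨g', hg', e1⟩ := (Finset.mem_filter.1 hy).2
    obtain ⟨y', hy', e2⟩ := h.tau_ok hg hd (F.LG_AG hg' F.t_mem_AG)
    obtain ⟨a1, a2⟩ := F.hv_inj (e1.symm.trans e2)
    exact Finset.mem_filter.2 ⟨Finset.mem_univ _, (Prod.ext a1 a2 : y = y') ▸ hy'⟩
  have hle := (Finset.card_le_card hsub).trans okTau_card.le
  have hcard : F.tauOrb.card = 4 := by
    rcases sgm_orbits F.tauOrb F.tauOrb_closed hmem0 (Or.inr hmem1) with e1 | e1 | e1 | e1 <;> omega
  have h512 : 512 ∣ Nat.card G := by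
    have hST : 128 ∣ Nat.card F.StT := h.card_PG128 hg hd ▸ Subgroup.card_dvd_of_le F.PG_le_StT
    have := F.card_orbT
    rw [← F.card_tauOrb h1, hcard] at this
    exact (dvd_trans (mul_dvd_mul_left 4 hST) (dvd_of_eq this)).trans F.LG.card_subgroup_dvd_card
  have hNS : Nat.card F.NS = 128 := by rw [F.card_NS hg, hd]; rfl
  refine F.forbid hG F.NS (by rw [hNS]; exact h512) (r := 1) ?_
  have hn : F.nIn F.NS = 24 := by
    obtain ⟨hnd, hlen, -⟩ := sixY_sub e
    have hn' := F.card_cls_list h.layer h.el_inj (fun _ => true) hnd hM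
    rw [show (sixY e).countP (fun _ => true) = (sixY e).length by simp, hlen] at hn'
    refine Eq.trans (Nat.card_congr (Equiv.subtypeEquivRight fun u => and_congr_right fun hu => ?_)) hn'
    constructor
    · intro huN
      obtain ⟨y, hy⟩ := h.cls_mem hg hd hu huN
      exact ⟨y, rfl, hy⟩
    · rintro ⟨y, -, hy⟩
      exact h.group_le ⟨y, hy⟩
  rw [hn, hNS]

end Fr

end CfsgLib.InvTwoS6
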