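import Cfsg.Agent.Lib.InvTwoS6.CycMem
import Cfsg.Agent.Lib.InvTwoS6.Blocks

/-!
# The translations in the cyclic case
-/

set_option autoImplicit false

namespace CfsgLib.InvTwoS6

/-- The translations that occur. -/
def okTau (x : Bool × W2) : Bool :=
  decide (x = (false, (false, false))) || decide (x = (false, (false, true))) ||
    decide (x = (true, (true, false))) || decide (x = (true, (true, true)))

theorem okTau_exit : ∀ x : Bool × W2, okTau x = true →
    (x.1 = false ∧ x.2.1 = false) ∨ ((sgm x).1 = false ∧ (sgm x).2.1 = false) ∨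
      ((sgm (sgm x)).1 = false ∧ (sgm (sgm x)).2.1 = false) := by decide

theorem okTau_bad : ∀ x : Bool × W2, okTau x = false →
    x = (false, (true, false)) ∨ x = (false, (true, true)) ∨ sgm x = (false, (true, false)) ∨
      sgm (sgm x) = (false, (true, false)) := by decide

theorem cyc_fix : ∀ (e : Bool) (v : V4) (j : Bool), v.1.2 = false →
    bilY false e v (((false, j), false), false) = (false, false) := by
  decide +kernel

namespace Fr

variable {G : Type*} [Group G] {L : Type*} [Group L] {F : Fr G L} [Finite G]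
variable {p : G} {e : Bool}

theorem sigma_sgm {s : G} (s1 : cj s (F.hv false (true, false)) = F.hv true (false, false))
    (s2 : cj s (F.hv true (false, false)) = F.hv true (false, true))
    (s3 : cj s (F.hv false (false, true)) = F.hv true (true, true)) (y : Bool × W2) :
    cj s (F.hv y.1 y.2) = F.hv (sgm y).1 (sgm y).2 := by
  obtain ⟨j, l, m⟩ := y
  have hd' : F.hv j (l, m) = pw (F.hv true (false, false)) j *
      (pw (F.hv false (true, false)) l * pw (F.hv false (false, true)) m) := by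
    cases j <;> cases l <;> cases m <;> simp [hv_mul, W2.add, hv_one]
  rw [hd', cj_mul, cj_mul, cj_pw, cj_pw, cj_pw, s1, s2, s3]
  cases j <;> cases l <;> cases m <;> simp [hv_mul, W2.add, hv_one, sgm]

theorem Cyc.y_mem_AG (h : F.Cyc p false e) :
    p * p ∈ F.AG ∧ F.tau (p * p) = F.hv false (false, true) ∧
      ∀ (j : Bool) (w : W2), cj (p * p) (F.hv j w) = F.hv j w := by
  have hfix : ∀ (j : Bool) (w : W2), cj (p * p) (F.hv j w) = F.hv j w := fun j w => by
    rw [hv, h.cj_y_el]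
    congr 1
    obtain ⟨l, m⟩ := w
    cases j <;> cases l <;> cases m <;> rfl
  have ht : cj (p * p) F.t = F.t * F.hv false (false, true) := by
    rw [h.y_facts.1, hv_eq]; simp [wv]
  refine ⟨⟨by rw [b_hv]; exact hfix _ _, ⟨_, F.hv_mem _ _, ht⟩, ?_⟩,
    by rw [tau, ht, ← mul_assoc, F.sq, one_mul], hfix⟩
  rintro _ ⟨j, w, rfl⟩
  exact Or.inl (hfix j w)

theorem Cyc.tau_el (h : F.Cyc p false e) (x : V4 × W2) :
    F.tau (h.layer.el x) = F.hv false (false, x.1.2) := by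
  rw [tau, (h.el_cj_t x).1, ce_eq, pw_true, ← mul_assoc, F.sq, one_mul, hv_eq]
  simp

theorem Cyc.el_mem_AG (h : F.Cyc p false e) (hg : F.g.Both) (x : V4 × W2) :
    h.layer.el x ∈ F.AG ↔ x.1.1.2 = false := by
  obtain ⟨⟨⟨⟨i, j⟩, k⟩, d⟩, w⟩ := x
  rw [h.layer_el]
  have hy : pw (p * p) d ∈ F.AG := by
    cases d
    · exact one_mem _
    · exact h.y_mem_AG.1
  refine ⟨fun hm => ?_, fun hk => ?_⟩
  · cases k
    · rfl
    exfalso
    apply F.C_notMem_AG hg
    have h1 := mul_mem hm (inv_mem hy)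
    rw [mul_inv_cancel_right] at h1
    have h2 := mul_mem (F.el_E_mem_AG i j (false, false)) h1
    have h3 := mul_mem h2 (inv_mem (F.el_E_mem_AG false false w))
    rw [← el_inv, el_mul, el_mul] at h3
    convert h3 using 1
    rw [C_el]
    congr 1
    obtain ⟨l, m⟩ := w
    cases i <;> cases j <;> cases l <;> cases m <;> rfl
  · simp only at hk
    subst hk
    exact mul_mem (F.el_E_mem_AG i j w) hy

theorem Cyc.group_le_PG (h : F.Cyc p false e) : h.layer.group ≤ F.PG := by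
  rintro _ ⟨⟨⟨⟨⟨i, j⟩, k⟩, d⟩, w⟩, rfl⟩
  rw [h.layer_el]
  have hA : ∀ g ∈ F.AG, g ∈ F.PG := fun g hgA => Or.inl hgA
  have hC : F.C ∈ F.PG := Or.inr (by rw [F.rel.hC]; exact one_mem _)
  refine mul_mem ?_ ?_
  · cases k
    · exact hA _ (F.el_E_mem_AG i j w)
    · have := mul_mem (mul_mem (hA _ (F.el_E_mem_AG i j (false, false))) hC)
        (hA _ (F.el_E_mem_AG false false w))
      rw [C_el, el_mul, el_mul] at this
      convert this using 2
      obtain ⟨l, m⟩ := w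
      cases i <;> cases j <;> cases l <;> cases m <;> rfl
  · cases d
    · exact one_mem _
    · exact hA _ h.y_mem_AG.1

theorem Cyc.no_a (h : F.Cyc p false e) (hg : F.g.Both) (hd : F.lab = labTwo) {g : G}
    (hgA : g ∈ F.AG) (hgt : F.tau g = F.hv false (true, false)) : False := by
  obtain ⟨hC1, hC2, hC3⟩ := F.C_data
  have hCinv : F.C⁻¹ = F.C := inv_eq_of_mul_eq_one_right F.rel.hC
  have hgi := inv_mem hgA
  have gt : cj g F.t = F.t * F.a := by
    rw [cj_t_tau, hgt, hv_eq]; simp [wv]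
  have htau' : ∃ w, F.tau g⁻¹ = F.hv false w ∧ w.1 ≠ w.2 := by
    have h1 : F.tau (g⁻¹ * g) = 1 := by rw [inv_mul_cancel]; simp [tau, cj, F.sq]
    rw [tau_mul, hgt] at h1
    rcases hgi.2.2 _ (F.hv_mem false (true, false)) with e1 | e1 <;> rw [e1] at h1
    · refine ⟨(true, false), ?_, by decide⟩
      rw [eq_inv_of_mul_eq_one_left h1, inv_eq_of_mul_eq_one_right (F.hv_self _ _)]
    · rw [hv_b] at h1
      refine ⟨(false, true), ?_, by decide⟩
      rw [eq_inv_of_mul_eq_one_left h1, inv_eq_of_mul_eq_one_right (F.hv_self _ _)]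
      rfl
  obtain ⟨w, hw, -⟩ := htau'
  have hC0 : ∀ w : W2, cj F.C (F.hv false w) = F.hv false w := fun w => by
    rw [hC3]; congr 1; obtain ⟨l, m⟩ := w; cases l <;> cases m <;> rfl
  have he : cj (cj F.C g * g⁻¹) F.t = F.t := by
    rw [← cj_cj, cj_t_tau F g⁻¹, hw,
      show cj (cj F.C g) (F.t * F.hv false w) = cj F.C (cj g (cj F.C⁻¹ (F.t * F.hv false w))) by
        simp only [cj]; group, hCinv, cj_mul F.C F.t, hC1, hC0]
    rw [show cj g (F.t * F.hv false w) = F.t by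
      rw [← hw, ← cj_t_tau, cj_cj, mul_inv_cancel]; simp [cj], hC1]
  obtain ⟨i, j, w', he'⟩ := F.fix_of_AG hg (mul_mem (F.C_conj_AG hgA).1 hgi) he
  have hgC : cj g F.C = F.C * F.el (((i, j), false), w') := by
    rw [← he']
    simp only [cj, hCinv]
    calc g * F.C * g⁻¹ = F.C * F.C * (g * F.C * g⁻¹) := by rw [F.rel.hC, one_mul]
      _ = _ := by group
  have hgS : ∀ v ∈ F.S, cj g v ∈ F.S := by
    rintro _ ⟨⟨⟨⟨i', j'⟩, k'⟩, w''⟩, rfl⟩
    have hH : ∀ x ∈ F.H1, cj g x ∈ F.S := fun x hx => F.H1_le_S (F.cj_AG_H1 hgA hx)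
    show cj g (F.rel.layer3.el _) ∈ F.S
    rw [SRel.el3, cj_mul, cj_mul, cj_mul, cj_pw, cj_pw, cj_pw]
    have m1 : cj g F.t ∈ F.S := by
      rw [gt]; exact mul_mem F.t_mem ⟨C3.lbl (false, (true, false)), F.ce_a⟩
    have m2 : cj g F.A ∈ F.S := hH _ ⟨true, (false, false), by simp [hv_eq]⟩
    have m3 : cj g F.C ∈ F.S := by
      rw [hgC]; exact mul_mem ⟨_, F.C_el.symm⟩ ⟨_, rfl⟩
    have m4 : cj g (wv F.a F.z w'') ∈ F.S := hH _ ⟨false, w'', by rw [hv_eq]; simp⟩
    have hp : ∀ (x : G) (b : Bool), x ∈ F.S → pw x b ∈ F.S := fun x b hx => by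
      cases b
      · exact one_mem _
      · exact hx
    exact mul_mem (mul_mem (mul_mem (hp _ _ m1) (hp _ _ m2)) (hp _ _ m3)) m4
  have hgN : g ∈ F.NS := mem_normalizer_of_maps hgS
  have hm := F.eq_coset hgN h.mem (gt.trans h.pt.symm)
  have hga : cj g F.a = F.b := by
    have : g = p * (p⁻¹ * g) := (mul_inv_cancel_left _ _).symm
    rw [this, ← cj_cj, ← ce_a, F.cj_of_mem_S hm, ce_a, h.pa]
  have ha : F.a = F.hv false (true, false) := by simp [hv_eq, wv]
  rcases hgA.2.2 _ (F.hv_mem false (true, false)) with e1 | e1 <;>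
    rw [← ha, hga, b_hv] at e1
  · rw [ha] at e1; exact absurd (F.hv_inj e1).2 (by decide)
  · rw [ha, hv_mul] at e1; exact absurd (F.hv_inj e1).2 (by decide)

theorem Cyc.tau_ok (h : F.Cyc p false e) (hg : F.g.Both) (hd : F.lab = labTwo) {g : G}
    (hgA : g ∈ F.AG) : ∃ x : Bool × W2, okTau x = true ∧ F.tau g = F.hv x.1 x.2 := by
  obtain ⟨j, w, ew⟩ := F.tau_mem hgA
  cases hb : okTau (j, w)
  swap
  · exact ⟨(j, w), hb, ew.symm⟩
  exfalso
  obtain ⟨s, st, sb, sH, s1, s2, s3, -⟩ := F.exists_sigma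
  rcases okTau_bad _ hb with e1 | e1 | e1 | e1
  · simp only [Prod.mk.injEq] at e1
    obtain ⟨rfl, rfl⟩ := e1
    exact h.no_a hg hd hgA ew.symm
  · simp only [Prod.mk.injEq] at e1
    obtain ⟨rfl, rfl⟩ := e1
    obtain ⟨hy, hyt, hyfix⟩ := h.y_mem_AG
    refine h.no_a hg hd (mul_mem hy hgA) ?_
    rw [tau_mul, hyt, ← ew, hyfix, hv_mul]
    rfl
  · obtain ⟨h1, h2⟩ := F.cj_conj_AG st sb sH hgA
    refine h.no_a hg hd h1 ?_
    rw [h2, ← ew, sigma_sgm s1 s2 s3 (j, w), e1]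
  · obtain ⟨h1, h2⟩ := F.cj_conj_AG st sb sH hgA
    obtain ⟨h3, h4⟩ := F.cj_conj_AG st sb sH h1
    refine h.no_a hg hd h3 ?_
    rw [h4, h2, ← ew, sigma_sgm s1 s2 s3 (j, w), sigma_sgm s1 s2 s3, e1]

theorem Cyc.mem_group_of_PG (h : F.Cyc p false e) (hg : F.g.Both) (hd : F.lab = labTwo) {u : G}
    (hu : u ∈ F.PG) {m : Bool} (et : cj u F.t = F.ce (true, (false, m))) : u ∈ h.layer.group := by
  have hn : pw (p * p) m ∈ F.PG := by
    cases m
    · exact one_mem _
    · exact Or.inl h.y_mem_AG.1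
  have hnS : pw (p * p) m ∈ F.NS := by
    cases m
    · exact one_mem _
    · exact mul_mem h.mem h.mem
  have hnt : cj (pw (p * p) m) F.t = F.ce (true, (false, m)) := by
    have := (h.el_cj_t ((((false, false), false), m), (false, false))).1
    rwa [h.layer_el, el_one, one_mul] at this
  rcases h.decompose hg hd (F.mem_NS_of_PG hg hu hn hnS (et.trans hnt.symm)) with ⟨x, hx⟩ | ⟨x, hx⟩
  · exact ⟨x, hx⟩
  · exfalso
    rw [← hx, ← cj_cj, (h.el_cj_t x).1, ce_eq, cj_mul] at et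
    simp only [pw_true, h.pt, wv, pw_false, one_mul, cj_pw, F.fix_z h.mem] at et
    have e2 : F.ce (true, (true, x.1.2)) = F.ce (true, (false, m)) := by
      rw [← et, ce_eq]; simp [wv, mul_assoc]
    exact absurd (F.ce_injective e2) (by simp)

theorem Cyc.exit (h : F.Cyc p false e) (hg : F.g.Both) (hd : F.lab = labTwo) {u : G}
    (huA : u ∈ F.AG) :
    ∃ c : G, cj c F.t = F.t ∧ cj c F.b = F.b ∧ (∀ k ∈ F.H1, cj c k ∈ F.H1) ∧
      ∃ x : V4 × W2, x.1.1.2 = false ∧ h.layer.el x = cj c u := by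
  obtain ⟨s, st, sb, sH, s1, s2, s3, -⟩ := F.exists_sigma
  have fin : ∀ (c : G) (y : Bool × W2), cj c F.t = F.t → cj c F.b = F.b →
      (∀ k ∈ F.H1, cj c k ∈ F.H1) → cj c (F.tau u) = F.hv y.1 y.2 → y.1 = false → y.2.1 = false →
      ∃ x : V4 × W2, x.1.1.2 = false ∧ h.layer.el x = cj c u := by
    rintro c ⟨j, l, m⟩ ct cb cH e1 hj hl
    simp only at hj hl
    subst hj hl
    obtain ⟨hcA, hct⟩ := F.cj_conj_AG ct cb cH huA
    rw [e1] at hct
    obtain ⟨x, hx⟩ := h.mem_group_of_PG hg hd (Or.inl hcA) (m := m) (by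
      rw [cj_t_tau, hct, t_hv]; rfl)
    exact ⟨x, (h.el_mem_AG hg x).1 (hx ▸ hcA), hx⟩
  obtain ⟨y, hy, e1⟩ := h.tau_ok hg hd huA
  rcases okTau_exit y hy with ⟨a1, a2⟩ | ⟨a1, a2⟩ | ⟨a1, a2⟩
  · exact ⟨1, by simp [cj], by simp [cj], fun k hk => by simpa [cj] using hk,
      fin 1 y (by simp [cj]) (by simp [cj]) (fun k hk => by simpa [cj] using hk)
        (by rw [← e1]; simp [cj]) a1 a2⟩
  · exact ⟨s, st, sb, sH, fin s (sgm y) st sb sH (by rw [e1, sigma_sgm s1 s2 s3]) a1 a2⟩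
  · have t2 : cj (s * s) F.t = F.t := by rw [← cj_cj, st, st]
    have b2 : cj (s * s) F.b = F.b := by rw [← cj_cj, sb, sb]
    have H2 : ∀ k ∈ F.H1, cj (s * s) k ∈ F.H1 := fun k hk => by
      rw [← cj_cj]; exact sH _ (sH _ hk)
    exact ⟨s * s, t2, b2, H2, fin (s * s) (sgm (sgm y)) t2 b2 H2
      (by rw [e1, ← cj_cj, sigma_sgm s1 s2 s3, sigma_sgm s1 s2 s3]) a1 a2⟩

theorem Cyc.elem (h : F.Cyc p false e) (hg : F.g.Both) (hd : F.lab = labTwo) : F.Elem := by
  intro g hgA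
  obtain ⟨c, -, -, cH, x, hx, ex⟩ := h.exit hg hd hgA
  have hfix : ∀ k ∈ F.H1, cj (cj c g) k = k := by
    rintro _ ⟨j, w, rfl⟩
    rw [← ex]
    apply cj_of_comm
    rw [Fr.hv, lH, ← h.layer_inner, h.comm_iff]
    exact cyc_fix _ _ _ hx
  have hsq : cj c g * cj c g ∈ F.H1 := by
    rw [← ex, Layer.el_mul]
    refine ⟨false, (h.layer.mul x x).2, ?_⟩
    rw [Fr.hv, lH, ← h.layer_inner]
    congr 1
    refine Prod.ext ?_ rfl
    simp [Layer.mul, h.layer_add, add4_self]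
  have hback : ∀ k ∈ F.H1, cj c⁻¹ k ∈ F.H1 := fun k hk =>
    (Subgroup.mem_normalizer_iff.1 (inv_mem (mem_normalizer_of_maps cH)) k).1 hk
  refine ⟨fun k hk => ?_, ?_⟩
  · have := hfix _ (cH k hk)
    rw [show cj (cj c g) (cj c k) = cj c (cj g k) by simp only [cj]; group] at this
    exact cj_inj this
  · have := hback _ hsq
    rwa [← cj_mul, cj_cj, inv_mul_cancel, show cj 1 (g * g) = g * g by simp [cj]] at this

theorem Cyc.card_PG128 (h : F.Cyc p false e) (hg : F.g.Both) (hd : F.lab = labTwo) :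
    Nat.card F.PG = 128 := by
  classical
  obtain ⟨s, st, sb, sH, s1, s2, s3, -⟩ := F.exists_sigma
  rw [F.card_PG hg, F.card_AG hg]
  obtain ⟨hy, hyt, -⟩ := h.y_mem_AG
  obtain ⟨h1, h1t⟩ := F.cj_conj_AG st sb sH hy
  obtain ⟨h2, h2t⟩ := F.cj_conj_AG st sb sH h1
  have key : ∀ x : G, (∃ k ∈ F.AG, F.tau k = x) ↔
      ∃ y : {y : Bool × W2 // okTau y = true}, F.hv y.1.1 y.1.2 = x := by
    intro x
    constructor
    · rintro ⟨k, hk, rfl⟩
      obtain ⟨y, hy', e'⟩ := h.tau_ok hg hd hk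
      exact ⟨⟨y, hy'⟩, e'.symm⟩
    · rintro ⟨⟨y, hy'⟩, rfl⟩
      simp only [okTau, Bool.or_eq_true, decide_eq_true_eq] at hy'
      rcases hy' with ((rfl | rfl) | rfl) | rfl
      · exact ⟨1, one_mem _, by simp [tau, cj, F.sq, hv_one]⟩
      · exact ⟨_, hy, hyt⟩
      · refine ⟨_, h2, ?_⟩
        rw [h2t, h1t, hyt, sigma_sgm s1 s2 s3 (false, (false, true)), sigma_sgm s1 s2 s3]
        rfl
      · refine ⟨_, h1, ?_⟩
        rw [h1t, hyt, sigma_sgm s1 s2 s3 (false, (false, true))]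
        rfl
  have e4 : Nat.card {x : G // ∃ k ∈ F.AG, F.tau k = x} = 4 := by
    rw [← Nat.card_congr (Equiv.ofBijective
      (fun y : {y : Bool × W2 // okTau y = true} =>
        (⟨F.hv y.1.1 y.1.2, (key _).2 ⟨y, rfl⟩⟩ : {x : G // ∃ k ∈ F.AG, F.tau k = x}))
      ⟨fun y z e' => by
        obtain ⟨a1, a2⟩ := F.hv_inj (Subtype.ext_iff.1 e')
        exact Subtype.ext (Prod.ext a1 a2),
      fun ⟨x, hx⟩ => by
        obtain ⟨y, hy'⟩ := (key x).1 hx
        exact ⟨y, Subtype.ext hy'⟩⟩), Nat.card_eq_fintype_card]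
    rfl
  rw [e4]

end Fr

end CfsgLib.InvTwoS6
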