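import Cfsg.Agent.Lib.InvTwoS6.Model
import Mathlib.GroupTheory.Perm.Cycle.Type
import Mathlib.GroupTheory.Perm.Sign
import Mathlib.GroupTheory.Index
import Mathlib.Tactic.DeriveFintype

/-!
# What is used about the symmetric groups of degree six and seven

The Sylow 2-subgroup is presented by `a = (56)`, `a₁ = (13)`, `c₁ = (12)(34)`; then
`z = (13)(24)` and `b = (13)(24)(56)`.
-/

set_option autoImplicit false

namespace CfsgLib.InvTwoS6

variable {L : Type*} [Group L]

/-- Three elements spanning a Sylow 2-subgroup. -/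
structure Gens (L : Type*) where
  a : L
  a1 : L
  c1 : L

namespace Gens

variable (g : Gens L)

/-- The derived involution. -/
def z : L := g.a1 * g.c1 * g.a1 * g.c1

/-- The third central involution. -/
def b : L := g.a * g.z

/-- The normal form of the Sylow 2-subgroup: `((a₁, c₁), (a, z))`. -/
def uf (v : W2 × W2) : L := pw g.a1 v.1.1 * pw g.c1 v.1.2 * wv g.a g.z v.2

/-- The same generators seen from the other conjugacy class of Klein groups. -/
def swap : Gens L where
  a := g.a * g.z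
  a1 := g.c1 * g.a
  c1 := g.a1 * g.a

/-- Membership in the Sylow 2-subgroup. -/
def InU (x : L) : Prop := ∃ v : W2 × W2, g.uf v = x

/-- Membership in the elementary abelian subgroup `⟨a, z, a₁⟩`. -/
def InH (x : L) : Prop := ∃ (i : Bool) (k : W2), g.uf ((i, false), k) = x

/-- The properties used. -/
structure Side : Prop where
  sq_a : g.a * g.a = 1
  sq_a1 : g.a1 * g.a1 = 1
  sq_c1 : g.c1 * g.c1 = 1
  comm_a1 : g.a * g.a1 = g.a1 * g.a
  comm_c1 : g.a * g.c1 = g.c1 * g.a
  comm_z1 : g.z * g.a1 = g.a1 * g.z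
  inj : Function.Injective g.uf
  cardL : ∃ o : ℕ, Odd o ∧ Nat.card L = 16 * o
  classify : ∀ x : L, x * x = 1 → x = 1 ∨ IsConj g.a x ∨ IsConj g.b x ∨ IsConj g.z x
  ncab : ¬ IsConj g.a g.b
  ncaz : ¬ IsConj g.a g.z
  ncbz : ¬ IsConj g.b g.z
  sgn : ∃ s : L →* ℤˣ, s g.a = -1 ∧ s g.z = 1 ∧ s g.a1 = -1 ∧ s g.c1 = 1
  zclass : Nat.card {x : L // IsConj g.z x} % 4 = 1
  sqrule : ∀ x : L, x * g.a = g.a * x → g.InU (x * x) →
    x * x = 1 ∨ x * x = g.z ∨ x * x = g.c1 ∨ x * x = g.c1 * g.z
  root : ∃ x : L, x * g.a = g.a * x ∧ x * x = g.c1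
  normU : ∀ x : L, g.InU (x * g.a * x⁻¹) → g.InU (x * g.a1 * x⁻¹) → g.InU (x * g.c1 * x⁻¹) →
    g.InU x
  centH : ∀ x : L, x * g.a = g.a * x → x * g.z = g.z * x → x * g.a1 = g.a1 * x → g.InH x
  normH : Nat.card {x : L // g.InH (x * g.a * x⁻¹) ∧ g.InH (x * g.z * x⁻¹) ∧
    g.InH (x * g.a1 * x⁻¹)} = 48
  sigma : ∃ x : L, x * x * x = 1 ∧ x * g.a1 * x⁻¹ = g.a1 * g.z ∧
    x * (g.a1 * g.z) * x⁻¹ = g.a ∧ x * g.a * x⁻¹ = g.a1

theorem swap_z (h : g.Side) : g.swap.z = g.z := by
  have e1 : g.c1 * g.a * (g.a1 * g.a) = g.c1 * g.a1 := by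
    rw [← h.comm_a1, mul_assoc g.c1, ← mul_assoc g.a g.a, h.sq_a, one_mul]
  show g.c1 * g.a * (g.a1 * g.a) * (g.c1 * g.a) * (g.a1 * g.a) = g.a1 * g.c1 * g.a1 * g.c1
  rw [mul_assoc (g.c1 * g.a * (g.a1 * g.a)), e1]
  have hz2 : g.z * g.z = 1 := by
    calc g.z * g.z = g.z * g.a1 * (g.c1 * g.a1 * g.c1) := by simp only [z, mul_assoc]
      _ = g.a1 * g.z * (g.c1 * g.a1 * g.c1) := by rw [h.comm_z1]
      _ = g.a1 * g.a1 * (g.c1 * g.a1 * g.c1 * g.c1 * g.a1 * g.c1) := by
        simp only [z, mul_assoc]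
      _ = 1 := by simp [mul_assoc, h.sq_a1, h.sq_c1]
  calc g.c1 * g.a1 * (g.c1 * g.a1) = g.z⁻¹ := by
        simp only [z, mul_inv_rev, inv_eq_of_mul_eq_one_right h.sq_a1,
          inv_eq_of_mul_eq_one_right h.sq_c1, mul_assoc]
    _ = g.z := inv_eq_of_mul_eq_one_right hz2
    _ = _ := rfl

end Gens

/-- The class of a label of the Sylow 2-subgroup: `0` for the identity, `1` for `a`, `2` for `b`,
`3` for `z`, `4` for an element of order four. -/
def code : Bool → Bool → W2 → Fin 5
  | false, false, (false, false) => 0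
  | false, false, (true, false) => 1
  | false, false, (false, true) => 3
  | false, false, (true, true) => 2
  | true, false, (k, _) => cond k 3 1
  | false, true, (k, _) => cond k 2 3
  | true, true, _ => 4

/-- Representatives of the classes. -/
def Gens.rep (g : Gens L) : Fin 5 → L
  | 0 => 1
  | 1 => g.a
  | 2 => g.b
  | 3 => g.z
  | 4 => g.a1 * g.c1

/-- The properties together with the classes of the involutions of the Sylow 2-subgroup. -/
structure Gens.Both (g : Gens L) : Prop where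
  fst : g.Side
  codes : ∀ j k w, (j && k) = false → IsConj (g.rep (code j k w)) (g.uf ((j, k), w))

section Perm

open Equiv

/-- The concrete generators. -/
def permGens (n : ℕ) (h : 6 ≤ n) : Gens (Perm (Fin n)) where
  a := swap ⟨4, by omega⟩ ⟨5, by omega⟩
  a1 := swap ⟨0, by omega⟩ ⟨2, by omega⟩
  c1 := swap ⟨0, by omega⟩ ⟨1, by omega⟩ * swap ⟨2, by omega⟩ ⟨3, by omega⟩

theorem classify_perm {n : ℕ} (h7 : n ≤ 7) (x u v w : Perm (Fin n))
    (hu : u * u = 1) (hu' : u.support.card = 2) (hv : v * v = 1) (hv' : v.support.card = 6)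
    (hw : w * w = 1) (hw' : w.support.card = 4) (hx : x * x = 1) :
    x = 1 ∨ IsConj u x ∨ IsConj v x ∨ IsConj w x := by
  have key : ∀ y : Perm (Fin n), y * y = 1 →
      y.cycleType = Multiset.replicate (y.support.card / 2) 2 := fun y hy => by
    have h2 := Perm.cycleType_of_pow_prime_eq_one (σ := y) (p := 2) (by rw [pow_two, hy])
    have hs := y.sum_cycleType
    rw [h2, Multiset.sum_replicate, smul_eq_mul] at hs
    conv_lhs => rw [h2]
    congr 1
    omega
  have hle : x.support.card ≤ 7 := le_trans (Finset.card_le_univ _) (by simp; omega)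
  have hev : x.support.card % 2 = 0 := by
    have hs := x.sum_cycleType
    rw [key x hx, Multiset.sum_replicate, smul_eq_mul] at hs
    omega
  rcases (show x.support.card = 0 ∨ x.support.card = 2 ∨ x.support.card = 6 ∨
      x.support.card = 4 by omega) with e | e | e | e
  · exact Or.inl (Perm.support_eq_empty_iff.1 (Finset.card_eq_zero.1 e))
  · refine Or.inr (Or.inl (Perm.isConj_iff_cycleType_eq.2 ?_))
    rw [key x hx, key u hu, e, hu']
  · refine Or.inr (Or.inr (Or.inl (Perm.isConj_iff_cycleType_eq.2 ?_)))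
    rw [key x hx, key v hv, e, hv']
  · refine Or.inr (Or.inr (Or.inr (Perm.isConj_iff_cycleType_eq.2 ?_)))
    rw [key x hx, key w hw, e, hw']

theorem isConj_of_support {n : ℕ} {u v : Perm (Fin n)} (hu : u * u = 1) (hv : v * v = 1)
    (h : u.support.card = v.support.card) : IsConj u v := by
  have key : ∀ y : Perm (Fin n), y * y = 1 →
      y.cycleType = Multiset.replicate (y.support.card / 2) 2 := fun y hy => by
    have h2 := Perm.cycleType_of_pow_prime_eq_one (σ := y) (p := 2) (by rw [pow_two, hy])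
    have hs := y.sum_cycleType
    rw [h2, Multiset.sum_replicate, smul_eq_mul] at hs
    conv_lhs => rw [h2]
    congr 1
    omega
  exact Perm.isConj_iff_cycleType_eq.2 (by rw [key u hu, key v hv, h])

theorem not_isConj_of_support {n : ℕ} {u v : Perm (Fin n)}
    (h : u.support.card ≠ v.support.card) : ¬ IsConj u v := fun hc => by
  apply h
  rw [← u.sum_cycleType, ← v.sum_cycleType, Perm.isConj_iff_cycleType_eq.1 hc]

end Perm

end CfsgLib.InvTwoS6
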