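import Cfsg.Agent.Lib.InvTwoS6.Checks

/-!
# The symmetric groups of degree six and seven satisfy the properties
-/

set_option autoImplicit false
set_option maxRecDepth 100000
set_option maxHeartbeats 2000000

namespace CfsgLib.InvTwoS6

open Equiv PermLists

/-- The lists in degree 7, side A. -/
def lists7A : Lists where
  la := [0, 1, 2, 3, 5, 4, 6]
  la1 := [2, 1, 0, 3, 4, 5, 6]
  lc1 := [1, 0, 3, 2, 4, 5, 6]
  lz := [2, 3, 0, 1, 4, 5, 6]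
  one := [0, 1, 2, 3, 4, 5, 6]
  U := [[0, 1, 2, 3, 4, 5, 6], [0, 1, 2, 3, 5, 4, 6], [2, 3, 0, 1, 4, 5, 6], [2, 3, 0, 1, 5, 4, 6], [2, 1, 0, 3, 4, 5, 6], [2, 1, 0, 3, 5, 4, 6], [0, 3, 2, 1, 4, 5, 6], [0, 3, 2, 1, 5, 4, 6], [1, 0, 3, 2, 4, 5, 6], [1, 0, 3, 2, 5, 4, 6], [3, 2, 1, 0, 4, 5, 6], [3, 2, 1, 0, 5, 4, 6], [1, 2, 3, 0, 4, 5, 6], [1, 2, 3, 0, 5, 4, 6], [3, 0, 1, 2, 4, 5, 6], [3, 0, 1, 2, 5, 4, 6]]
  H := [[0, 1, 2, 3, 4, 5, 6], [2, 1, 0, 3, 4, 5, 6], [0, 1, 2, 3, 5, 4, 6], [2, 1, 0, 3, 5, 4, 6], [2, 3, 0, 1, 4, 5, 6], [0, 3, 2, 1, 4, 5, 6], [2, 3, 0, 1, 5, 4, 6], [0, 3, 2, 1, 5, 4, 6]]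
  sq4 := [[0, 1, 2, 3, 4, 5, 6], [2, 3, 0, 1, 4, 5, 6], [1, 0, 3, 2, 4, 5, 6], [3, 2, 1, 0, 4, 5, 6]]

theorem describes7A : lists7A.Describes (permGens 7 (by decide)) := by
  refine ⟨?_, ?_, ?_, ?_, ?_, ?_, ?_, ?_⟩ <;> decide +kernel

theorem side7A : (Gens.Side (permGens 7 (by decide))) :=
  side_of_checks (by decide) _ lists7A describes7A (by decide +kernel) (by decide +kernel)
    (by decide +kernel) (by decide +kernel) (by decide +kernel) (by decide +kernel)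
    (by decide +kernel) ⟨315, by decide, by decide +kernel⟩ (by decide +kernel) (by decide +kernel)
    (by decide +kernel) (by decide +kernel)
    (by refine ⟨?_, ?_, ?_, ?_⟩ <;> decide +kernel)
    ⟨Equiv.swap 0 2 * Equiv.swap 2 1 * Equiv.swap 1 3, by decide +kernel⟩
    ⟨Equiv.swap 0 1 * Equiv.swap 1 4 * (Equiv.swap 2 3 * Equiv.swap 3 5), by decide +kernel⟩
    (by decide +kernel) (by decide +kernel) (by decide +kernel)

end CfsgLib.InvTwoS6
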