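import Cfsg.Agent.Lib.InvTwoS6.DataSixA
import Cfsg.Agent.Lib.InvTwoS6.DataSixB
import Cfsg.Agent.Lib.InvTwoS6.DataSevenA
import Cfsg.Agent.Lib.InvTwoS6.DataSevenB

/-!
# Both sides in degree six and seven
-/

set_option autoImplicit false

namespace CfsgLib.InvTwoS6

theorem both6 : (permGens 6 (by decide)).Both := ⟨side6A, fun j k w h =>
  isConj_of_support (by revert h; revert j k w; decide +kernel) (by revert h; revert j k w; decide +kernel)
    (by revert h; revert j k w; decide +kernel)⟩

theorem both7 : (permGens 7 (by decide)).Both := ⟨side7A, fun j k w h =>
  isConj_of_support (by revert h; revert j k w; decide +kernel) (by revert h; revert j k w; decide +kernel)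
    (by revert h; revert j k w; decide +kernel)⟩

theorem both6' : (permGens 6 (by decide)).swap.Both := ⟨side6B, fun j k w h =>
  isConj_of_support (by revert h; revert j k w; decide +kernel) (by revert h; revert j k w; decide +kernel)
    (by revert h; revert j k w; decide +kernel)⟩

theorem both7' : (permGens 7 (by decide)).swap.Both := ⟨side7B, fun j k w h =>
  isConj_of_support (by revert h; revert j k w; decide +kernel) (by revert h; revert j k w; decide +kernel)
    (by revert h; revert j k w; decide +kernel)⟩

end CfsgLib.InvTwoS6
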