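import Cfsg.Agent.Lib.InvTwoS6.R1Model
import Mathlib.Data.List.Sublists

/-!
# Labels for the group of order 128 in the case of a four-group action
-/

set_option autoImplicit false

namespace CfsgLib.InvTwoS6

/-- The parameters of two commuting outer elements. -/
structure Par where
  d : Bool
  d' : Bool
  e : Bool
  e' : Bool
  c : W2
  deriving DecidableEq, Fintype

/-- The move of `p`. -/
def betaP (P : Par) (x : V3) : W2 := (xor x.1.1 (P.d && x.1.2), false)

/-- The move of `q`. -/
def betaQ (P : Par) (x : V3 × Bool) : W2 :=
  W2.add (W2.smul (xor x.1.1.1 (P.d' && x.1.2)) (true, true)) (W2.smul x.2 P.c)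

/-- The cocycle of `⟨t, a₁, c₁⟩`. -/
def f3 (u v : V3) : W2 :=
  W2.add (W2.add (W2.add (W2.add (false, false) (W2.smul u.1.2 (false, false)))
      (W2.smul (u.1.2 && v.1.2) (false, false))) (W2.smul u.2 (false, v.1.2)))
      (W2.smul (u.2 && v.2) (false, false))

/-- The cocycle with `p`. -/
def f4 (P : Par) (u v : V3 × Bool) : W2 :=
  W2.add (W2.add (f3 u.1 v.1) (W2.smul u.2 (betaP P v.1))) (W2.smul (u.2 && v.2) (false, P.e))

/-- The cocycle with `p` and `q`. -/
def f5 (P : Par) (u v : V5) : W2 :=
  W2.add (W2.add (f4 P u.1 v.1) (W2.smul u.2 (betaQ P v.1))) (W2.smul (u.2 && v.2) (false, P.e'))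

/-- The commutator of two labels. -/
def bilF (P : Par) (u v : V5) : W2 := W2.add (f5 P u v) (f5 P v u)

/-- All labels. -/
def all5 : List V5 :=
  [false, true].flatMap fun q => [false, true].flatMap fun p => [false, true].flatMap fun i =>
    [false, true].flatMap fun j => [false, true].map fun k => ((((i, j), k), p), q)

/-- The labels outside `S`. -/
def outF : List V5 := all5.filter fun v => v.1.2 || v.2

/-- The size of the kernel of a commutator map. -/
def kerCard (P : Par) (u : V5) : ℕ := all5.countP fun v => decide (bilF P u v = (false, false))

/-- The conjugates of `t` in `S`. -/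
def baseF : List V5 :=
  [((((true, false), false), false), false), ((((true, true), false), false), false),
    ((((true, false), true), false), false)]

/-- Possible further labels of conjugates of `t`. -/
def candF (P : Par) : List V5 :=
  outF.filter fun v => decide (f5 P v v = (false, false)) && decide (kerCard P v = 8)

/-- Functionals used for counting. -/
def funcsF : List (V5 → Bool) :=
  [fun v => v.1.1.1.1, fun v => v.1.1.1.2, fun v => v.1.1.2, fun v => v.1.2, fun v => v.2,
    fun v => xor v.1.1.1.1 v.1.1.1.2]

/-- The conditions on the set of labels of conjugates of `t`. -/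
def goodF (P : Par) (M : List V5) : Bool :=
  (M.all fun u => decide ((M.countP fun v => decide (bilF P u v = (false, false))) = 3)) &&
    funcsF.all fun χ => decide ((M.countP fun v => !χ v) % 2 = 0)

/-- Abbreviation for a label. -/
def lv (i j k p q : Bool) : V5 := ((((i, j), k), p), q)

/-- Twelve cosets. -/
def parTwelve : Par := ⟨false, false, false, false, (false, true)⟩
/-- Six cosets. -/
def parSix : Par := ⟨true, true, false, false, (false, true)⟩
/-- Eight cosets. -/
def parEightB : Par := ⟨false, true, false, false, (true, true)⟩
/-- Eight cosets, mirrored. -/
def parEightC : Par := ⟨true, false, false, false, (true, false)⟩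
/-- Eight cosets, second kind. -/
def parEightD : Par := ⟨false, false, false, true, (false, true)⟩
/-- Eight cosets, second kind, mirrored. -/
def parEightE : Par := ⟨false, false, true, false, (false, true)⟩

/-- The additional labels for twelve cosets. -/
def addTwelve : List V5 :=
  [lv false false false true false, lv false true false true false, lv false false true true false,
    lv false false false false true, lv false true false false true, lv false false true false true,
    lv true false false true true, lv true true false true true, lv true false true true true]

/-- The surviving configurations. -/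
def survF : List (Par × List V5) :=
  [(parTwelve, addTwelve),
   (parSix, [lv true true false true false, lv true false true false true,
      lv true false false true true]),
   (parEightB, [lv false false false true false, lv false true false true false,
      lv false false true true false, lv true false true false true, lv false false true true true]),
   (parEightC, [lv true true false true false, lv false false false false true,
      lv false true false false true, lv false false true false true, lv false true false true true]),
   (parEightD, [lv false false false true false, lv false true false true false,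
      lv false false true true false, lv false true true false true, lv true true true true true]),
   (parEightE, [lv false true true true false, lv false false false false true,
      lv false true false false true, lv false false true false true, lv true true true true true])]

/-- Exclusive or, for fast evaluation. -/
def xb (a b : Bool) : Bool := cond a (cond b false true) b

theorem xb_eq (a b : Bool) : xb a b = xor a b := by cases a <;> cases b <;> rfl

/-- Addition, for fast evaluation. -/
def addB (x y : W2) : W2 := (xb x.1 y.1, xb x.2 y.2)

theorem addB_eq (x y : W2) : addB x y = W2.add x y := by simp [addB, W2.add, xb_eq]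

/-- The cocycle, for fast evaluation. -/
def fB (P : Par) (u v : V5) : W2 :=
  addB (addB (addB (addB ((false, cond u.1.1.2 v.1.1.1.2 false))
      (W2.smul u.1.2 (xb v.1.1.1.1 (P.d && v.1.1.1.2), false))) (W2.smul (u.1.2 && v.1.2) (false, P.e)))
    (W2.smul u.2 (addB (W2.smul (xb v.1.1.1.1 (P.d' && v.1.1.2)) (true, true)) (W2.smul v.1.2 P.c))))
    (W2.smul (u.2 && v.2) (false, P.e'))

/-- The commutator, for fast evaluation. -/
def bilB (P : Par) (u v : V5) : W2 := addB (fB P u v) (fB P v u)

/-- A Boolean zero test. -/
def isZero (x : W2) : Bool := !x.1 && !x.2

/-- All parameters. -/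
def allPar : List Par :=
  [false, true].flatMap fun a => [false, true].flatMap fun b => [false, true].flatMap fun c =>
    [false, true].flatMap fun d => [false, true].flatMap fun e => [false, true].map fun f =>
      ⟨a, b, c, d, (e, f)⟩

theorem mem_allPar (P : Par) : P ∈ allPar := by
  obtain ⟨a, b, c, d, e, f⟩ := P
  cases a <;> cases b <;> cases c <;> cases d <;> cases e <;> cases f <;> decide

theorem kerCard_table : (allPar.all fun P => all5.all fun u =>
    let c := all5.countP fun v => isZero (bilB P u v)
    c == 8 || c == 16 || c == 32) = true := by
  decide +kernel

theorem bilF_surj0 : (allPar.all fun P => all5.all fun u =>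
    !((all5.countP fun v => isZero (bilB P u v)) == 8) ||
      ([(false, false), (true, false), (false, true), (true, true)] : List W2).all fun w =>
        all5.any fun v => isZero (addB (bilB P v u) w)) = true := by
  decide +kernel

theorem classifyF0 : ∀ P : Par, ((candF P).sublists.all fun O =>
    !((funcsF.all fun χ => decide (((baseF ++ O).countP fun v => !χ v) % 2 = 0)) &&
      ((baseF ++ O).all fun u => decide (((baseF ++ O).countP fun v => decide (bilF P u v = (false, false))) = 3))) || survF.any fun s => decide (s.1 = P) &&
      (O.all fun v => s.2.contains v) && s.2.all fun v => O.contains v) = true := by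
  decide +kernel

theorem classifyF : ∀ P : Par, ((candF P).sublists.all fun O =>
    !(goodF P (baseF ++ O)) || survF.any fun s => decide (s.1 = P) &&
      (O.all fun v => s.2.contains v) && s.2.all fun v => O.contains v) = true := by
  intro P
  simpa only [goodF, Bool.and_comm (funcsF.all _)] using classifyF0 P

theorem fB_eq (P : Par) (u v : V5) : fB P u v = f5 P u v := by
  obtain ⟨⟨⟨⟨i, j⟩, k⟩, π⟩, κ⟩ := u
  obtain ⟨⟨⟨⟨i', j'⟩, k'⟩, π'⟩, κ'⟩ := v
  simp only [fB, f5, f4, f3, betaP, betaQ, addB_eq, xb_eq]
  cases k <;> cases π <;> cases κ <;> simp [W2.smul, W2.add]

theorem bilB_eq (P : Par) (u v : V5) : bilB P u v = bilF P u v := by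
  rw [bilB, bilF, addB_eq, fB_eq, fB_eq]

theorem isZero_eq (x : W2) : isZero x = decide (x = (false, false)) := by
  obtain ⟨a, b⟩ := x
  cases a <;> cases b <;> rfl

theorem kerCard_eq (P : Par) (u : V5) :
    kerCard P u = all5.countP fun v => isZero (bilB P u v) := by
  simp only [kerCard, isZero_eq, bilB_eq]

theorem mem_all5 : ∀ v : V5, v ∈ all5 := by decide

theorem kerCard_vals : ∀ (P : Par) (u : V5),
    kerCard P u = 8 ∨ kerCard P u = 16 ∨ kerCard P u = 32 := fun P u => by
  have h := List.all_eq_true.1 (List.all_eq_true.1 kerCard_table P (mem_allPar P)) u (mem_all5 u)
  simpa [kerCard_eq, or_assoc] using h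

theorem addB_zero (x w : W2) : isZero (addB x w) = decide (x = w) := by
  obtain ⟨a, b⟩ := x
  obtain ⟨c, d⟩ := w
  cases a <;> cases b <;> cases c <;> cases d <;> rfl

theorem bilF_surj : ∀ (P : Par) (u : V5),
    (!decide (kerCard P u = 8) ||
      ([(false, false), (true, false), (false, true), (true, true)] : List W2).all fun w =>
        all5.any fun v => decide (bilF P v u = w)) = true := fun P u => by
  have h := List.all_eq_true.1 (List.all_eq_true.1 bilF_surj0 P (mem_allPar P)) u (mem_all5 u)
  simpa only [addB_zero, bilB_eq, kerCard_eq, Nat.beq_eq_true_eq, beq_eq_decide] using h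

end CfsgLib.InvTwoS6
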