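import Cfsg.Agent.Lib.InvTwoS6.Two
import Cfsg.Agent.Lib.InvTwoS6.FourData

/-!
# Normal forms when the normalizer of `S` acts trivially on `⟨a, z⟩`
-/

set_option autoImplicit false

namespace CfsgLib.InvTwoS6

/-- The parameters seen from the other side. -/
def Par.swap (P : Par) : Par := ⟨P.d', P.d, P.e', P.e, (P.c.1, xor P.c.1 P.c.2)⟩

theorem halfC_adjust : ∀ m : Bool,
    mul3 (mul3 (((false, m), false), (false, false)) (((false, false), true), (false, m)))
      (inv3 (((false, m), false), (false, false))) =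
      (((false, false), true), (false, false)) := by
  decide

theorem halfA_adjust : ∀ l m : Bool,
    mul3 (mul3 (((false, false), m), (false, false)) (((false, true), false), (l, m)))
      (inv3 (((false, false), m), (false, false))) =
      (((false, true), false), (l, false)) ∧
    mul3 (mul3 (((false, false), m), (false, false)) (((false, false), true), (false, false)))
      (inv3 (((false, false), m), (false, false))) =
      (((false, false), true), (false, false)) := by
  decide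

namespace Fr

variable {G : Type*} [Group G] {L : Type*} [Group L] (F : Fr G L) [Finite G]

theorem A_el : F.A = F.el (((false, true), false), (false, false)) := by simp [SRel.el3]

theorem C_el : F.C = F.el (((false, false), true), (false, false)) := by simp [SRel.el3]

theorem cj_el_el (u v : V3 × W2) : cj (F.el u) (F.el v) = F.el (mul3 (mul3 u v) (inv3 u)) := by
  rw [← el_mul, ← el_mul, el_inv]
  rfl

/-- An element moving `t` to `t a` in the normal form. -/
structure Half (p : G) (δ ε : Bool) : Prop where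
  mem : p ∈ F.NS
  pt : cj p F.t = F.t * F.a
  pa : cj p F.a = F.a
  pA : cj p F.A = F.A * pw F.a δ
  pC : cj p F.C = F.C
  sq : p * p = pw F.z ε

theorem exists_half (hg : F.g.Both) (hd : F.lab = labTwo) {g : G} (hgn : g ∈ F.NS)
    (hgt : cj g F.t = F.t * F.a) (hga : cj g F.a = F.a) : ∃ p δ ε, F.Half p δ ε := by
  obtain ⟨x, hxa, hxc⟩ := F.side.root
  have hCS : F.ρ (x * x) = F.C := by rw [hxc]; rfl
  have hCel : ∀ (w : W2) (v : V3 × W2), v = (((false, false), true), (false, false)) →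
      F.el v ≠ F.ce (false, w) := fun w v hv e => by
    have e' := congrArg isCen (F.el_injective e)
    rw [hv] at e'
    exact absurd e' (by simp [isCen, C3.lbl, cenV])
  obtain ⟨m, hm⟩ := F.cj_root hgn hxa hgt hga (hCS ▸ ⟨_, F.C_el.symm⟩)
    (fun h => hCel (false, false) _ rfl (by rw [← C_el, ← hCS, h]; simp [ce_eq, wv]))
    (fun h => hCel (false, true) _ rfl (by rw [← C_el, ← hCS, h, ce_z]))
  rw [hCS] at hm
  -- fix `C`
  set g1 := F.el (((false, m), false), (false, false)) * g with hg1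
  have hg1n : g1 ∈ F.NS := mul_mem ((Subgroup.le_normalizer : F.S ≤ F.NS) ⟨_, rfl⟩) hgn
  have h1C : cj g1 F.C = F.C := by rw [hg1, ← cj_cj, hm, cj_el_el, halfC_adjust, ← C_el]
  have hcen : ∀ (u : V3 × W2) (c : C3), cj (F.el u) (F.ce c) = F.ce c :=
    fun u c => F.cj_of_mem_S ⟨u, rfl⟩ c
  have h1t : cj g1 F.t = F.t * F.a := by rw [hg1, ← cj_cj, hgt, t_mul_a, hcen]
  have h1a : cj g1 F.a = F.a := by rw [hg1, ← cj_cj, hga, ← ce_a, hcen]
  -- the image of `A`
  obtain ⟨v, hv, nv⟩ := F.cj_isNC hg hd hg1n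
    (v := (((false, true), false), (false, false))) rfl
  have hne := F.cj_isNC_ne hg1n hv (C_el F ▸ h1C : cj g1 (F.el (((false, false), true),
    (false, false))) = F.el (((false, false), true), (false, false))) rfl rfl nv rfl (by decide)
  obtain ⟨l, m', rfl⟩ : ∃ l m', v = (((false, true), false), (l, m')) := by
    obtain ⟨⟨⟨i, j⟩, k⟩, l, m'⟩ := v
    refine ⟨l, m', ?_⟩
    revert nv hne
    cases i <;> cases j <;> cases k <;> simp [isNC]
  -- fix `A` up to `a`
  set g2 := F.el (((false, false), m'), (false, false)) * g1 with hg2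
  have hg2n : g2 ∈ F.NS := mul_mem ((Subgroup.le_normalizer : F.S ≤ F.NS) ⟨_, rfl⟩) hg1n
  have h2t : cj g2 F.t = F.t * F.a := by rw [hg2, ← cj_cj, h1t, t_mul_a, hcen]
  have h2a : cj g2 F.a = F.a := by rw [hg2, ← cj_cj, h1a, ← ce_a, hcen]
  have h2C : cj g2 F.C = F.C := by
    rw [hg2, ← cj_cj, h1C, C_el, cj_el_el, (halfA_adjust l m').2]
  have h2A : cj g2 F.A = F.A * pw F.a l := by
    rw [hg2, ← cj_cj, A_el, hv, cj_el_el, (halfA_adjust l m').1]
    cases l <;> simp [SRel.el3, wv]
  -- the square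
  have hsqS : g2 * g2 ∈ F.S := F.mem_S_of_cj (mul_mem hg2n hg2n) (by
    rw [← cj_cj, h2t, cj_mul, h2t, h2a, mul_assoc, F.rel.ha, mul_one])
  obtain ⟨v, hv2⟩ := F.mem_S_iff.1 hsqS
  have hA2 : cj (g2 * g2) F.A = F.A := by
    rw [← cj_cj, h2A, cj_mul, cj_pw, h2A, h2a]
    cases l <;> simp [mul_assoc, F.rel.ha]
  obtain ⟨i, w, rfl⟩ := F.central_label (v := v) (hv2 ▸ comm_of_cj hA2)
    (hv2 ▸ comm_of_cj (show cj (g2 * g2) F.C = F.C by rw [← cj_cj, h2C, h2C]))
  have hv2' : g2 * g2 = F.ce (i, w) := hv2.symm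
  have hi : i = false := by
    have e : cj g2 (F.ce (i, w)) = F.ce (i, w) := by rw [← hv2']; simp [cj, mul_assoc]
    rw [ce_eq, cj_mul, cj_pw, h2t, wv, cj_mul, cj_pw, cj_pw, h2a, F.fix_z hg2n,
      t_mul_a] at e
    cases i
    · rfl
    · rw [pw_true, show pw F.a w.1 * pw F.z w.2 = F.ce (false, w) from wv_eq F w, ce_mul] at e
      simp only [pw_true] at e
      rw [← F.ce_t, ce_mul] at e
      have := F.ce_injective e
      revert this
      obtain ⟨l, m⟩ := w
      cases l <;> cases m <;> decide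
  subst hi
  obtain ⟨w1, w2⟩ := w
  cases w1
  · exact ⟨g2, l, w2, hg2n, h2t, h2a, h2A, h2C, by rw [hv2']; simp [ce_eq, wv]⟩
  · have ht : F.t ∈ F.S := F.t_mem
    refine ⟨g2 * F.t, l, w2, mul_mem hg2n ((Subgroup.le_normalizer : F.S ≤ F.NS) ht), ?_, ?_, ?_,
      ?_, ?_⟩
    · rw [← cj_cj, show cj F.t F.t = F.t by simp [cj], h2t]
    · rw [← cj_cj, cj_of_comm F.rel.ta, h2a]
    · rw [← cj_cj, cj_of_comm F.rel.At.symm, h2A]
    · rw [← cj_cj, cj_of_comm F.rel.Ct.symm, h2C]
    · rw [show g2 * F.t * (g2 * F.t) = cj g2 F.t * (g2 * g2) * F.t by simp only [cj]; group, h2t,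
        hv2', t_mul_a, ← F.ce_t, ce_mul, ce_mul]
      cases w2 <;> simp [C3.add, W2.add, ce_eq, wv]

/-- Two elements in the normal form. -/
structure Ext (p q : G) (P : Par) : Prop where
  hp : F.Half p P.d P.e
  mem : q ∈ F.NS
  qt : cj q F.t = F.t * F.b
  qa : cj q F.a = F.a
  qA : cj q F.A = F.A
  qC : cj q F.C = F.C * pw F.b P.d'
  qsq : q * q = pw F.z P.e'
  comm : q * p = p * q * wv F.a F.z P.c

theorem exists_ext (hg : F.g.Both) (hg' : F.g.swap.Both) (hd : F.lab = labTwo)
    (hfix : ∀ g ∈ F.NS, cj g F.a = F.a) : ∃ p q P, F.Ext p q P := by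
  obtain ⟨g, hgn, hgt⟩ := F.exists_cj_t hg hd (true, false)
  obtain ⟨p, d, e, hp⟩ := F.exists_half hg hd hgn (by rw [hgt, t_mul_a]) (hfix g hgn)
  obtain ⟨g', hgn', hgt'⟩ := F.exists_cj_t hg hd (true, true)
  have hfb : ∀ x ∈ F.NS, cj x F.b = F.b := fun x hx => by
    rw [b_eq, cj_mul, hfix x hx, F.fix_z hx]
  obtain ⟨q, d', e', hq⟩ := (F.swap hg'.fst).exists_half hg' (F.swap_lab hd) (g := g')
    (F.swap_NS ▸ hgn') (by rw [swap_t, swap_a, hgt', t_mul_b]) (by rw [swap_a]; exact hfb g' hgn')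
  have hqn : q ∈ F.NS := F.swap_NS (hB := hg'.fst) ▸ hq.mem
  have qt : cj q F.t = F.t * F.b := by have := hq.pt; rwa [swap_t, swap_a] at this
  have qa := hfix q hqn
  have qA : cj q F.A = F.A := by
    have := hq.pC
    rw [swap_C, cj_mul, qa] at this
    exact mul_right_cancel this
  have qC : cj q F.C = F.C * pw F.b d' := by
    have := hq.pA
    rw [swap_A, swap_a, cj_mul, qa] at this
    have hab : pw F.b d' * F.a = F.a * pw F.b d' := by
      cases d'
      · simp
      · rw [pw_true, b_eq, mul_assoc, ← F.rel.haz]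
    rw [mul_assoc, ← hab, ← mul_assoc] at this
    exact mul_right_cancel this
  have qsq : q * q = pw F.z e' := by rw [hq.sq, swap_z]
  -- the commutator
  set x := (p * q)⁻¹ * (q * p) with hx
  have hxn : x ∈ F.NS := mul_mem (inv_mem (mul_mem hp.mem hqn)) (mul_mem hqn hp.mem)
  have same : ∀ y, cj (p * q) y = cj (q * p) y → cj x y = y := fun y h => by
    rw [hx, ← cj_cj, ← h, cj_cj, inv_mul_cancel]
    simp [cj]
  have hxt : cj x F.t = F.t := same _ (by
    rw [← cj_cj, ← cj_cj, qt, hp.pt, cj_mul, cj_mul, hp.pt, hfb p hp.mem, qt, qa, t_mul_a, b_ce,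
      ← ce_t, ← ce_a, ce_mul, ce_mul, ce_mul]
    rfl)
  have hxS := F.mem_S_of_cj hxn hxt
  obtain ⟨v, hv⟩ := F.mem_S_iff.1 hxS
  have hxA : cj x F.A = F.A := same _ (by
    rw [← cj_cj, ← cj_cj, qA, hp.pA, cj_mul, cj_pw, qA, qa])
  have hxC : cj x F.C = F.C := same _ (by
    rw [← cj_cj, ← cj_cj, qC, hp.pC, cj_mul, cj_pw, hp.pC, hfb p hp.mem, qC])
  obtain ⟨i, w, rfl⟩ := F.central_label (v := v) (hv ▸ comm_of_cj hxA) (hv ▸ comm_of_cj hxC)
  have hv' : x = F.ce (i, w) := hv.symm
  have hqp : q * p = p * q * F.ce (i, w) := by rw [← hv', hx]; group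
  have hi : i = false := by
    have h1 : p⁻¹ * q * p = q * F.ce (i, w) := by rw [mul_assoc, hqp]; group
    have h2 : p⁻¹ * (q * q) * p = q * q := by
      have hc : cj p (q * q) = q * q := by rw [qsq, cj_pw, F.fix_z hp.mem]
      rw [mul_assoc, ← comm_of_cj hc, ← mul_assoc, inv_mul_cancel, one_mul]
    rw [show p⁻¹ * (q * q) * p = (p⁻¹ * q * p) * (p⁻¹ * q * p) by group, h1,
      show q * F.ce (i, w) * (q * F.ce (i, w)) =
        cj q (F.ce (i, w)) * (q * q) * F.ce (i, w) by simp only [cj]; group] at h2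
    have h3 : q * q = F.ce (false, (false, e')) := by
      rw [qsq]; cases e' <;> simp [ce_eq, wv]
    have h4 : cj q (F.ce (i, w)) = F.ce (i, W2.add w (W2.smul i (true, true))) := by
      rw [ce_eq, ce_eq, cj_mul, cj_pw, qt, wv, cj_mul, cj_pw, cj_pw, qa, F.fix_z hqn]
      cases i
      · simp [W2.add, W2.smul, wv]
      · rw [pw_true, show pw F.a w.1 * pw F.z w.2 = F.ce (false, w) from wv_eq F w, b_ce,
          ← F.ce_t, ce_mul, ce_mul, ce_t, pw_true,
          show F.t * wv F.a F.z (W2.add w (W2.smul true (true, true))) =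
            F.ce (true, W2.add w (W2.smul true (true, true))) by rw [ce_eq]; rfl]
        congr 1
        obtain ⟨l, m⟩ := w
        cases l <;> cases m <;> rfl
    rw [h3, h4, ce_mul, ce_mul] at h2
    have := F.ce_injective h2
    revert this
    obtain ⟨l, m⟩ := w
    cases i <;> cases l <;> cases m <;> cases e' <;> simp [C3.add, W2.add, W2.smul]
  subst hi
  exact ⟨p, q, ⟨d, d', e, e', w⟩, hp, hqn, qt, qa, qA, qC, qsq, by rw [hqp, wv_eq]⟩

variable {F} {p q : G} {P : Par}

theorem Ext.pb (h : F.Ext p q P) : cj p F.b = F.b := by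
  rw [b_eq, cj_mul, h.hp.pa, F.fix_z h.hp.mem]

theorem Ext.qb (h : F.Ext p q P) : cj q F.b = F.b := by
  rw [b_eq, cj_mul, h.qa, F.fix_z h.mem]

/-- The same data seen from the other side. -/
theorem Ext.swapped (h : F.Ext p q P) (hB : F.g.swap.Side) : (F.swap hB).Ext q p P.swap := by
  have hab : ∀ e : Bool, pw F.b e * F.a = F.a * pw F.b e := fun e => by
    cases e
    · simp
    · rw [pw_true, b_eq, mul_assoc, ← F.rel.haz]
  refine ⟨⟨F.swap_NS ▸ h.mem, ?_, ?_, ?_, ?_, ?_⟩, F.swap_NS ▸ h.hp.mem, ?_, ?_, ?_, ?_, ?_, ?_⟩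
  · rw [swap_t, swap_a]; exact h.qt
  · rw [swap_a]; exact h.qb
  · rw [swap_A, swap_a, cj_mul, h.qC, h.qa, mul_assoc, hab, ← mul_assoc]; rfl
  · rw [swap_C, cj_mul, h.qA, h.qa]
  · rw [h.qsq, swap_z]; rfl
  · rw [swap_t, swap_b]; exact h.hp.pt
  · rw [swap_a]; exact h.pb
  · rw [swap_A, cj_mul, h.hp.pC, h.hp.pa]
  · rw [swap_C, swap_b, cj_mul, h.hp.pA, h.hp.pa]
    show _ = F.A * F.a * pw F.a P.d
    cases P.d <;> simp [mul_assoc]
  · rw [h.hp.sq, swap_z]; rfl
  · have hinv : (wv F.a F.z P.c)⁻¹ = wv F.a F.z P.c := inv_eq_of_mul_eq_one_right (by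
      rw [wv_mul F.rel.ha F.rel.hz F.rel.haz]
      simp [W2.add, wv])
    rw [swap_a, swap_z, show p * q = q * p * (wv F.a F.z P.c)⁻¹ by rw [h.comm]; group, hinv]
    congr 1
    show wv F.a F.z P.c = wv F.b F.z (P.c.1, xor P.c.1 P.c.2)
    obtain ⟨c1, c2⟩ := P.c
    cases c1 <;> cases c2 <;> simp [wv, b_eq, mul_assoc, F.rel.hz]

/-! ### The normal form -/

theorem Ext.cj_p_el (h : F.Ext p q P) (v : V3 × W2) :
    cj p (F.el v) = F.el (v.1, W2.add v.2 (betaP P v.1)) := by
  obtain ⟨⟨⟨i, j⟩, k⟩, l, m⟩ := v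
  have e1 : cj p F.t = F.el (((true, false), false), (true, false)) := by
    rw [h.hp.pt]; simp [SRel.el3, wv]
  have e2 : cj p F.A = F.el (((false, true), false), (P.d, false)) := by
    rw [h.hp.pA]; cases P.d <;> simp [SRel.el3, wv]
  have e3 : cj p F.C = F.el (((false, false), true), (false, false)) := by rw [h.hp.pC, C_el]
  rw [show F.el (((i, j), k), (l, m)) = pw F.t i * pw F.A j * pw F.C k * (pw F.a l * pw F.z m) from
    SRel.el3 _ _, cj_mul, cj_mul, cj_mul, cj_mul, cj_pw, cj_pw, cj_pw, cj_pw, cj_pw, e1, e2, e3,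
    h.hp.pa, F.fix_z h.hp.mem, el_pw, el_pw, el_pw,
    show pw F.a l * pw F.z m = F.el (((false, false), false), (l, m)) by simp [SRel.el3, wv],
    el_mul, el_mul, el_mul]
  congr 1
  obtain ⟨d, d', e, e', c⟩ := P
  cases i <;> cases j <;> cases k <;> cases l <;> cases m <;> cases d <;> rfl

theorem Ext.cj_q_el (h : F.Ext p q P) (v : V3 × W2) :
    cj q (F.el v) = F.el (v.1, W2.add v.2 (betaQ P (v.1, false))) := by
  obtain ⟨⟨⟨i, j⟩, k⟩, l, m⟩ := v
  have e1 : cj q F.t = F.el (((true, false), false), (true, true)) := by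
    rw [h.qt]; simp [SRel.el3, wv, b_eq]
  have e2 : cj q F.A = F.el (((false, true), false), (false, false)) := by rw [h.qA, A_el]
  have e3 : cj q F.C = F.el (((false, false), true), (P.d', P.d')) := by
    rw [h.qC]; cases P.d' <;> simp [SRel.el3, wv, b_eq]
  rw [show F.el (((i, j), k), (l, m)) = pw F.t i * pw F.A j * pw F.C k * (pw F.a l * pw F.z m) from
    SRel.el3 _ _, cj_mul, cj_mul, cj_mul, cj_mul, cj_pw, cj_pw, cj_pw, cj_pw, cj_pw, e1, e2, e3,
    h.qa, F.fix_z h.mem, el_pw, el_pw, el_pw,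
    show pw F.a l * pw F.z m = F.el (((false, false), false), (l, m)) by simp [SRel.el3, wv],
    el_mul, el_mul, el_mul]
  congr 1
  obtain ⟨d, d', e, e', c1, c2⟩ := P
  cases i <;> cases j <;> cases k <;> cases l <;> cases m <;> cases d' <;> cases c1 <;>
    cases c2 <;> rfl

/-- The normal form with `p` and `q`. -/
def Ext.layer (h : F.Ext p q P) : Layer V5 (wv F.a F.z) :=
  (F.rel.layer3.extend p (false, P.e) (betaP P) (by rw [h.hp.sq]; simp [wv])
    (fun k => commute_wv (comm_of_cj h.hp.pa) (comm_of_cj (F.fix_z h.hp.mem)) k)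
    (fun x => by
      have e := h.cj_p_el (x, (false, false))
      rw [show F.el (x, (false, false)) = F.rel.layer3.Φ x by simp [el, Layer.el],
        show W2.add (false, false) (betaP P x) = betaP P x by simp [W2.add]] at e
      calc p * F.rel.layer3.Φ x = cj p (F.rel.layer3.Φ x) * p := by simp [cj]
        _ = F.rel.layer3.Φ x * wv F.a F.z (betaP P x) * p := by rw [e]; rfl
        _ = _ := by
          rw [mul_assoc, ← commute_wv (comm_of_cj h.hp.pa) (comm_of_cj (F.fix_z h.hp.mem)),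
            ← mul_assoc])).extend q (false, P.e') (betaQ P) (by rw [h.qsq]; simp [wv])
    (fun k => commute_wv (comm_of_cj h.qa) (comm_of_cj (F.fix_z h.mem)) k)
    (fun x => by
      obtain ⟨x, e⟩ := x
      have hw := commute_wv (comm_of_cj h.qa) (comm_of_cj (F.fix_z h.mem))
      have hwp := commute_wv (comm_of_cj h.hp.pa) (comm_of_cj (F.fix_z h.hp.mem))
      have ex := h.cj_q_el (x, (false, false))
      rw [show F.el (x, (false, false)) = F.rel.layer3.Φ x by simp [el, Layer.el],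
        show W2.add (false, false) (betaQ P (x, false)) = betaQ P (x, false) by
          simp [W2.add]] at ex
      have hqx : q * F.rel.layer3.Φ x = F.rel.layer3.Φ x * q * wv F.a F.z (betaQ P (x, false)) := by
        calc q * F.rel.layer3.Φ x = cj q (F.rel.layer3.Φ x) * q := by simp [cj]
          _ = F.rel.layer3.Φ x * wv F.a F.z (betaQ P (x, false)) * q := by rw [ex]; rfl
          _ = _ := by rw [mul_assoc, ← hw, ← mul_assoc]
      show q * (F.rel.layer3.Φ x * pw p e) = F.rel.layer3.Φ x * pw p e * q * wv F.a F.z (betaQ P (x, e))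
      rw [← mul_assoc, hqx]
      cases e
      · simp
      · rw [pw_true, mul_assoc _ _ p, ← hwp, ← mul_assoc, mul_assoc _ q p, h.comm]
        have hb : betaQ P (x, true) = W2.add P.c (betaQ P (x, false)) := by
          obtain ⟨⟨i, j⟩, k⟩ := x
          obtain ⟨d, d', e, e', c1, c2⟩ := P
          cases i <;> cases k <;> cases d' <;> cases c1 <;> cases c2 <;> rfl
        rw [hb, ← wv_mul F.rel.ha F.rel.hz F.rel.haz]
        simp only [mul_assoc])

theorem Ext.layer_f (h : F.Ext p q P) (u v : V5) : h.layer.f u v = f5 P u v := rfl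

theorem Ext.layer_add (h : F.Ext p q P) (u v : V5) : h.layer.add u v = add5 u v := rfl

theorem Ext.layer_el (h : F.Ext p q P) (x : V5 × W2) :
    h.layer.el x = F.rel.layer3.Φ x.1.1.1 * pw p x.1.1.2 * pw q x.1.2 * wv F.a F.z x.2 := rfl

theorem Ext.layer_inner (h : F.Ext p q P) (v : V3) (k : W2) :
    h.layer.el (((v, false), false), k) = F.el (v, k) := by
  rw [Ext.layer_el]
  simp only [pw_false, mul_one]
  rfl

theorem Ext.card_NS (hg : F.g.Both) (hd : F.lab = labTwo) : Nat.card F.NS = 128 := by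
  rw [F.card_NS hg, hd]; rfl

theorem Ext.layer_group (h : F.Ext p q P) (hg : F.g.Both) (hd : F.lab = labTwo) :
    h.layer.group = F.NS ∧ Function.Injective h.layer.el := by
  have hsurj : ∀ g ∈ F.NS, ∃ x, h.layer.el x = g := fun g hgn => by
    obtain ⟨⟨l, m⟩, hw⟩ := F.cj_t hg hd hgn
    set y := pw p (xor l m) * pw q m with hy
    have hyn : y ∈ F.NS := by
      refine mul_mem ?_ ?_
      · cases xor l m
        · exact one_mem _
        · exact h.hp.mem
      · cases m
        · exact one_mem _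
        · exact h.mem
    have hyt : cj y F.t = cj g F.t := by
      rw [hw, hy, ← cj_cj]
      have c1 : ∀ x : G, cj (1 : G) x = x := fun x => by simp [cj]
      cases l <;> cases m <;>
        simp only [Bool.xor_false, Bool.xor_true, Bool.not_false, Bool.not_true, pw_true, pw_false,
          c1, h.qt, cj_mul, h.hp.pt, h.pb] <;>
        simp [ce_eq, wv, b_eq, mul_assoc, ← mul_assoc F.a F.a, F.rel.ha]
    obtain ⟨v, hv⟩ := F.mem_S_iff.1 (F.eq_coset hgn hyn hyt.symm)
    have e0 : g = h.layer.el (((((false, false), false), xor l m), m), (false, false)) *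
        h.layer.el (((v.1, false), false), v.2) := by
      have e1 : h.layer.el (((((false, false), false), xor l m), m), (false, false)) = y := by
        simp [Ext.layer_el, hy, F.rel.layer3.map_zero,
          show F.rel.layer3.Φ ((false, false), false) = 1 from F.rel.layer3.map_zero]
      rw [e1, Ext.layer_inner, hv, mul_inv_cancel_left]
    exact ⟨_, (e0.trans (Layer.el_mul _ _ _)).symm⟩
  have hmem : ∀ x, h.layer.el x ∈ F.NS := fun x => by
    rw [Ext.layer_el]
    refine mul_mem (mul_mem (mul_mem ?_ ?_) ?_) ?_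
    · exact (Subgroup.le_normalizer : F.S ≤ F.NS) ⟨(x.1.1.1, (false, false)), by simp [el, Layer.el]⟩
    · cases x.1.1.2
      · exact one_mem _
      · exact h.hp.mem
    · cases x.1.2
      · exact one_mem _
      · exact h.mem
    · exact (Subgroup.le_normalizer : F.S ≤ F.NS) ⟨C3.lbl (false, x.2), (F.wv_eq x.2).symm⟩
  refine ⟨le_antisymm (by rintro _ ⟨x, rfl⟩; exact hmem x) (fun g hgn => hsurj g hgn), ?_⟩
  let f : V5 × W2 → F.NS := fun x => ⟨h.layer.el x, hmem x⟩
  have hf : Function.Surjective f := fun g => by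
    obtain ⟨x, hx⟩ := hsurj g.1 g.2
    exact ⟨x, Subtype.ext hx⟩
  have hbij := (Nat.bijective_iff_surjective_and_card f).2 ⟨hf, by
    rw [Ext.card_NS hg hd, Nat.card_eq_fintype_card]; rfl⟩
  exact fun x y e => hbij.1 (Subtype.ext e)

end Fr

end CfsgLib.InvTwoS6
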