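import Cfsg.Agent.Lib.InvTwoS6.FourNorm
import Mathlib.GroupTheory.IndexNormal

/-!
# The configurations with six or eight cosets
-/

set_option autoImplicit false

namespace CfsgLib.InvTwoS6

/-- Sums of labels. -/
def sum5 (l : List V5) : V5 := l.foldr add5 ((((false, false), false), false), false)

/-- The list with six cosets. -/
def addSix : List V5 :=
  [lv true true false true false, lv true false true false true, lv true false false true true]

theorem six_span : ∀ v : V5, ((baseF ++ addSix).sublists.any fun l => decide (sum5 l = v)) = true := by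
  decide +kernel

theorem six_counts : (baseF ++ addSix).Nodup ∧ (baseF ++ addSix).length = 6 ∧
    (baseF ++ addSix).countP (inTau parSix (true, false)) = 0 ∧
    (baseF ++ addSix).countP (inTau parSix (false, true)) = 0 ∧
    ∀ v ∈ baseF ++ addSix, v.1.1.1.1 = true := by
  decide +kernel

theorem shift_back : ∀ e k : W2, k = W2.add e (W2.add (false, false) (W2.add k e)) := by decide

theorem tChar_add : ∀ u v : V5, (add5 u v).1.1.1.1 = xor u.1.1.1.1 v.1.1.1.1 := fun _ _ => rfl

theorem card_tChar : (all5.countP fun v : V5 => !v.1.1.1.1) = 16 := by decide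

namespace Fr

variable {G : Type*} [Group G] {L : Type*} [Group L] {F : Fr G L} [Finite G]
variable {p q : G} {P : Par}

theorem Ext.six_false (h : F.Ext p q parSix) (hg : F.g.Both) (hG : NoTwo G) (hd : F.lab = labTwo)
    (hiff : ∀ v, v ∈ h.outO ↔ v ∈ addSix) : False := by
  classical
  obtain ⟨hnd, hlen, cA, cZ, hch⟩ := six_counts
  have hperm := h.memM_perm hnd hiff
  have hnN : F.nIn F.NS = 24 := by rw [h.card_cls_NS hg hd, hperm.length_eq, hlen]
  have hnP : F.nIn F.PG = 24 := by
    rw [h.card_cls_PG hg hd, hperm.length_eq, hlen, hperm.countP_eq, cA, hperm.countP_eq, cZ]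
  by_cases h512 : 512 ∣ Nat.card G
  · exact F.forbid hG F.NS (by rw [Ext.card_NS hg hd]; exact h512) (r := 1)
      (by rw [hnN, Ext.card_NS hg hd])
  obtain ⟨hgr, hinj⟩ := h.layer_group hg hd
  -- conjugates of `t` in the extended translations lie in the normalizer
  have hin : ∀ u ∈ cls F.t, u ∈ F.PG → u ∈ F.NS := by
    intro u hu hP
    let f : {u : G // u ∈ cls F.t ∧ u ∈ F.NS} → {u : G // u ∈ cls F.t ∧ u ∈ F.PG} := fun v =>
      ⟨v.1, v.2.1, h.NS_le_PG hg hd v.2.2⟩
    have hf : Function.Injective f := fun a b e =>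
      Subtype.ext (congrArg (fun z => z.1) e : a.1 = b.1)
    obtain ⟨v, hv⟩ := ((Nat.bijective_iff_injective_and_card f).2
      ⟨hf, hnN.trans hnP.symm⟩).2 ⟨u, hu, hP⟩
    exact (show v.1 = u from Subtype.ext_iff.1 hv) ▸ v.2.2
  -- an involution exchanging two of the cosets
  obtain ⟨s, st, sb, sH, s1, -, -, -⟩ := F.exists_sigma
  obtain ⟨hp, hpt⟩ := h.p_mem
  obtain ⟨hr, hrt⟩ := F.cj_conj_AG st sb sH hp
  rw [hpt, s1] at hrt
  set r := cj s (pw F.C parSix.d * p) with hrdef
  have hp2 : (pw F.C parSix.d * p) * (pw F.C parSix.d * p) = 1 := by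
    rw [show pw F.C parSix.d * p * (pw F.C parSix.d * p) = F.C * (cj p F.C) * (p * p) by
      simp only [parSix, pw_true, cj]; group, h.hp.pC, h.hp.sq, F.rel.hC]
    simp [parSix]
  have hr2 : r * r = 1 := by rw [hrdef, ← cj_mul, hp2]; simp [cj]
  have hrN : r ∉ F.NS := fun hm => by
    obtain ⟨w, hw⟩ := F.cj_t hg hd hm
    rw [cj_t_tau, hrt, t_hv] at hw
    exact absurd (F.el_injective hw) (by simp [C3.lbl, cenV])
  have hnorm : ∀ x ∈ F.NS, cj r x ∈ F.NS := by
    have hle : F.NS ≤ F.PG := h.NS_le_PG hg hd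
    have hidx : (F.NS.subgroupOf F.PG).index = 2 := by
      have hm := (F.NS.subgroupOf F.PG).card_mul_index
      rw [Nat.card_congr (Subgroup.subgroupOfEquivOfLe hle).toEquiv, Ext.card_NS hg hd,
        h.card_PG256 hg] at hm
      omega
    have hN := Subgroup.normal_of_index_eq_two hidx
    intro x hx
    exact Subgroup.mem_subgroupOf.1 (hN.conj_mem ⟨x, hle hx⟩
      (Subgroup.mem_subgroupOf.2 hx) ⟨r, Or.inl hr⟩)
  -- the kernel of the character
  have h0 : (!(h.layer.zero).1.1.1.1) = true := rfl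
  set D := h.layer.sub (fun v => !v.1.1.1.1) h0 (fun u v hu hv => by
    simp only [Bool.not_eq_true'] at hu hv ⊢
    rw [h.layer_add, tChar_add, hu, hv]; rfl) with hD
  have hmemch : ∀ u ∈ cls F.t, u ∈ F.NS → ∃ x : V5 × W2, x.1.1.1.1.1 = true ∧ h.layer.el x = u := by
    intro u hu huN
    rw [← hgr] at huN
    obtain ⟨x, rfl⟩ := huN
    exact ⟨x, hch _ ((hperm.mem_iff).1 ((h.mem_cls_iff hg hd x.1 x.2).1 hu)), rfl⟩
  have hexp : ∀ v : V5, ∀ k : W2, ∃ x : V5 × W2,
      cj r (h.layer.el (v, k)) = h.layer.el x ∧ x.1.1.1.1.1 = v.1.1.1.1 := by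
    have hmem : ∀ u ∈ baseF ++ addSix, ∀ k : W2, ∃ x : V5 × W2,
        cj r (h.layer.el (u, k)) = h.layer.el x ∧ x.1.1.1.1.1 = u.1.1.1.1 := by
      intro u hu k
      have hcl : h.layer.el (u, k) ∈ cls F.t := (h.mem_cls_iff hg hd u k).2 (hperm.mem_iff.2 hu)
      obtain ⟨x, hx, e⟩ := hmemch _ (cj_mem_cls (g := r) hcl)
        (hnorm _ (by rw [← hgr]; exact ⟨_, rfl⟩))
      exact ⟨x, e.symm, by rw [hx, hch u hu]⟩
    have hzero : ∀ k : W2, ∃ x : V5 × W2,
        cj r (h.layer.el (h.layer.zero, k)) = h.layer.el x ∧ x.1.1.1.1.1 = false := by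
      intro k
      have htm : ((((true, false), false), false), false) ∈ baseF ++ addSix := by decide
      obtain ⟨x, hx, hx'⟩ := hmem _ htm (false, false)
      obtain ⟨y, hy, hy'⟩ := hmem _ htm k
      have e : h.layer.el (h.layer.zero, k) =
          h.layer.el (((((true, false), false), false), false), (false, false)) *
            h.layer.el (((((true, false), false), false), false), k) := by
        rw [Layer.el_mul]
        congr 1
        obtain ⟨k1, k2⟩ := k
        cases k1 <;> cases k2 <;> rfl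
      refine ⟨h.layer.mul x y, by rw [e, cj_mul, hx, hy, Layer.el_mul], ?_⟩
      simp only [Layer.mul, h.layer_add, tChar_add, hx', hy']
      rfl
    intro v
    obtain ⟨l, hl, hv⟩ := List.any_eq_true.1 (six_span v)
    have hlM := (List.mem_sublists.1 hl).subset
    rw [← of_decide_eq_true hv]
    clear hl hv
    induction l with
    | nil => exact hzero
    | cons u l ih =>
      intro k
      obtain ⟨x, hx, hx'⟩ := hmem u (hlM List.mem_cons_self) (false, false)
      obtain ⟨y, hy, hy'⟩ := ih (fun a ha => hlM (List.mem_cons_of_mem _ ha))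
        (W2.add k (h.layer.f u (sum5 l)))
      have e : h.layer.el (sum5 (u :: l), k) =
          h.layer.el (u, (false, false)) *
            h.layer.el (sum5 l, W2.add k (h.layer.f u (sum5 l))) := by
        rw [Layer.el_mul]
        congr 1
        simp only [Layer.mul, h.layer_add]
        refine Prod.ext rfl ?_
        exact shift_back _ _
      refine ⟨h.layer.mul x y, by rw [e, cj_mul, hx, hy, Layer.el_mul], ?_⟩
      simp only [Layer.mul, h.layer_add, tChar_add, hx', hy']
      rfl
  have hDr : ∀ x ∈ D, cj r x ∈ D := by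
    rintro _ ⟨⟨v, k⟩, hx, rfl⟩
    obtain ⟨y, hy, hy'⟩ := hexp v k
    exact ⟨y, by simp only [hy'] at hx ⊢; exact hx, hy.symm⟩
  have hri : r⁻¹ = r := inv_eq_of_mul_eq_one_right hr2
  set M := ofClosed {g | g ∈ D ∨ r * g ∈ D} (Or.inl (one_mem _)) (by
    have hn : ∀ g ∈ D, r * g * r ∈ D := fun g hgD => by
      have := hDr g hgD
      rwa [cj, hri] at this
    rintro x (hx | hx) y (hy | hy)
    · exact Or.inl (mul_mem hx hy)
    · refine Or.inr ?_
      have := mul_mem (hn x hx) hy
      rwa [show r * x * r * (r * y) = r * (x * y) by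
        rw [mul_assoc (r * x), ← mul_assoc r r, hr2, one_mul, mul_assoc]] at this
    · refine Or.inr ?_
      have := mul_mem hx hy
      rwa [mul_assoc] at this
    · refine Or.inl ?_
      have := mul_mem (hn _ hx) hy
      rwa [show r * (r * x) * r * (r * y) = x * y by
        rw [← mul_assoc r r x, hr2, one_mul, mul_assoc x, ← mul_assoc r r, hr2, one_mul]] at this)
    with hM
  have hDN : ∀ x ∈ D, x ∈ F.NS := by
    rintro _ ⟨x, -, rfl⟩
    rw [← hgr]; exact ⟨x, rfl⟩
  have hDcard : Nat.card D = 64 := by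
    rw [hD, Layer.card_sub _ hinj, card_pred5, card_tChar]
  have hMcard : Nat.card M = 128 := by
    let f : Bool × D → M := fun x => ⟨pw r x.1 * x.2.1, by
      cases x.1
      · exact Or.inl (by rw [pw_false, one_mul]; exact x.2.2)
      · exact Or.inr (by rw [pw_true, ← mul_assoc, hr2, one_mul]; exact x.2.2)⟩
    rw [← Nat.card_congr (Equiv.ofBijective f ⟨?_, ?_⟩), Nat.card_prod, hDcard,
      Nat.card_eq_fintype_card, Fintype.card_bool]
    · rintro ⟨i, x, hx⟩ ⟨i', y, hy⟩ e
      have e' : pw r i * x = pw r i' * y := Subtype.ext_iff.1 e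
      cases i <;> cases i' <;> simp only [pw_true, pw_false, one_mul, mul_right_inj] at e'
      · subst e'; rfl
      · exfalso
        apply hrN
        have := mul_mem (hDN _ hx) (inv_mem (hDN _ hy))
        rwa [e', mul_inv_cancel_right] at this
      · exfalso
        apply hrN
        have := mul_mem (hDN _ hy) (inv_mem (hDN _ hx))
        rwa [← e', mul_inv_cancel_right] at this
      · subst e'; rfl
    · rintro ⟨g, hgD | hgD⟩
      · exact ⟨(false, ⟨g, hgD⟩), Subtype.ext (one_mul g)⟩
      · refine ⟨(true, ⟨r * g, hgD⟩), Subtype.ext ?_⟩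
        show r * (r * g) = g
        rw [← mul_assoc, hr2, one_mul]
  have hempty : F.nIn M = 0 := by
    haveI : IsEmpty {u : G // u ∈ cls F.t ∧ u ∈ M} := by
      constructor
      rintro ⟨u, hu, hm | hm⟩
      · obtain ⟨x, hx, e⟩ := hm
        obtain ⟨y, hy, e'⟩ := hmemch u hu (hDN u ⟨x, hx, e⟩)
        rw [hinj (e.trans e'.symm)] at hx
        simp [hy] at hx
      · have hP : u ∈ F.PG := by
          have := mul_mem (show r ∈ F.PG from Or.inl hr) (h.NS_le_PG hg hd (hDN _ hm))
          rwa [← mul_assoc, hr2, one_mul] at this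
        apply hrN
        have := mul_mem (hDN _ hm) (inv_mem (hin u hu hP))
        rwa [mul_inv_cancel_right] at this
    exact Nat.card_of_isEmpty
  obtain ⟨k, hk⟩ := h.dvd256 hg
  obtain ⟨j, rfl⟩ : ∃ j, k = 2 * j + 1 := by
    refine ⟨k / 2, ?_⟩
    rcases Nat.mod_two_eq_zero_or_one k with e | e
    · exact absurd ⟨k / 2, by omega⟩ h512
    · omega
  exact F.forbid_two hG M (m := j) (by rw [hk, hMcard]; ring) (r := 0) (by rw [hempty]; ring)

theorem Ext.eight_false (h : F.Ext p q P) (hg : F.g.Both) (hG : NoTwo G) (hd : F.lab = labTwo)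
    {l : List V5} (hiff : ∀ v, v ∈ h.outO ↔ v ∈ l) (hnd : (baseF ++ l).Nodup)
    (hlen : (baseF ++ l).length = 8) (cA : (baseF ++ l).countP (inTau P (true, false)) = 2)
    (cZ : (baseF ++ l).countP (inTau P (false, true)) = 0) : False := by
  have hperm := h.memM_perm hnd hiff
  have h1024 : 1024 ∣ Nat.card G := by
    have := h.dvd_orbit hg hd
    rwa [hperm.length_eq, hlen] at this
  exact F.forbid hG F.PG (by rw [h.card_PG256 hg]; exact h1024) (r := 1) (by
    rw [h.card_cls_PG hg hd, hperm.length_eq, hlen, hperm.countP_eq, cA, hperm.countP_eq, cZ,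
      h.card_PG256 hg])

end Fr

end CfsgLib.InvTwoS6
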