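import Cfsg.Agent.Lib.InvTwoS6.FourTwelve
import Cfsg.Agent.Lib.InvTwoS6.FourSmall

/-!
# No group with a four-group action on the cosets
-/

set_option autoImplicit false

namespace CfsgLib.InvTwoS6

theorem survF_twelve : ∀ s ∈ survF, s.1 = parTwelve → s.2 = addTwelve := by decide

theorem survF_B : ∀ s ∈ survF, s.1 = parEightB → (baseF ++ s.2).Nodup ∧
    (baseF ++ s.2).length = 8 ∧ (baseF ++ s.2).countP (inTau parEightB (true, false)) = 2 ∧
    (baseF ++ s.2).countP (inTau parEightB (false, true)) = 0 := by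
  decide +kernel

theorem survF_D : ∀ s ∈ survF, s.1 = parEightD → (baseF ++ s.2).Nodup ∧
    (baseF ++ s.2).length = 8 ∧ (baseF ++ s.2).countP (inTau parEightD (true, false)) = 2 ∧
    (baseF ++ s.2).countP (inTau parEightD (false, true)) = 0 := by
  decide +kernel

theorem survF_params : ∀ s ∈ survF, s.1 = parTwelve ∨ (s.1 = parSix ∧ s.2 = addSix) ∨
    s.1 = parEightB ∨ s.1 = parEightD ∨ s.1.swap = parEightB ∨ s.1.swap = parEightD := by
  decide

namespace Fr

variable {G : Type*} [Group G] {L : Type*} [Group L] {F : Fr G L} [Finite G]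
variable {p q : G} {P : Par}

theorem Ext.el_split (h : F.Ext p q P) (v : V5) (k : W2) :
    h.layer.el (v, k) = h.layer.el (v, (false, false)) * wv F.a F.z k := by
  rw [h.layer_el, h.layer_el, wv_zero, mul_one]

theorem Ext.inW_of_phi (h : F.Ext p q parTwelve) (hg : F.g.Both) (hd : F.lab = labTwo) {g : G}
    (hgK : g ∈ Subgroup.normalizer (F.NS : Set G)) {u v : V5}
    (e : h.phi hg hd hgK u = v) :
    F.InW ((h.layer.el (v, (false, false)))⁻¹ * cj g (h.layer.el (u, (false, false)))) := by
  obtain ⟨k, hk⟩ := h.phi_spec hg hd hgK u (false, false)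
  rw [e] at hk
  exact ⟨k, by rw [hk, h.el_split v k, inv_mul_cancel_left]⟩

theorem Ext.twelve_false (h : F.Ext p q parTwelve) (hg : F.g.Both) (hg' : F.g.swap.Both)
    (hG : NoTwo G) (hd : F.lab = labTwo) (hiff : ∀ v, v ∈ h.outO ↔ v ∈ addTwelve) : False := by
  obtain ⟨g, hgK, fA, fC, x, hxl, e1, e2⟩ := h.exists_exchange hg hd hiff
  have eT : h.layer.el (eT5, (false, false)) = F.t := by
    rw [eT5, lv, h.layer_inner]; exact F.el_t
  have eA : h.layer.el (eA5, (false, false)) = F.A := by rw [eA5, lv, h.layer_inner, A_el]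
  have eC : h.layer.el (eC5, (false, false)) = F.C := by rw [eC5, lv, h.layer_inner, C_el]
  have hA := h.inW_of_phi hg hd hgK fA
  have hC := h.inW_of_phi hg hd hgK fC
  have ht := h.inW_of_phi hg hd hgK e1
  have hx := h.inW_of_phi hg hd hgK e2
  rw [eA] at hA; rw [eC] at hC; rw [eT] at ht hx
  have hX : F.Exchange (h.layer.el (x, (false, false))) g := by
    refine ⟨?_, hA, hC, ht, hx⟩
    rintro _ ⟨w, rfl⟩
    obtain ⟨k', hk'⟩ := h.image_W hg hd hgK w
    have e : ∀ k, h.layer.el (h.layer.zero, k) = wv F.a F.z k := fun k => by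
      rw [Layer.el, h.layer.map_zero, one_mul]
    rw [e, e] at hk'
    exact ⟨k', hk'.symm⟩
  simp only [List.mem_cons, List.not_mem_nil, or_false] at hxl
  have hmem : ∀ v ∈ addTwelve, h.layer.el (v, (false, false)) ∈ cls F.t := fun v hv =>
    (h.mem_cls_iff hg hd v _).2 (List.mem_append_right _ ((hiff v).2 hv))
  rcases hxl with rfl | rfl | rfl
  · exact h.twelve_core hg hd hG hiff (hmem _ (by decide)) ((h.el_mem_AG hg _).2 rfl)
      (Or.inl (by rw [h.tau_el]; rfl)) hX
  · -- the other side
    have hB := hg'.fst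
    have h' : (F.swap hB).Ext q p parTwelve := h.swapped hB
    have hd' := F.swap_lab (hB := hB) hd
    obtain ⟨s, hs, hs1, hiff'⟩ := h'.classify hg' hG hd'
    rw [survF_twelve s hs hs1] at hiff'
    have eq1 : h.layer.el (lv false false false false true, (false, false)) = q := by
      simp [h.layer_el, lv, F.rel.layer3.map_zero,
        show F.rel.layer3.Φ ((false, false), false) = 1 from F.rel.layer3.map_zero]
    have eq2 : h'.layer.el (lv false false false true false, (false, false)) = q := by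
      simp [h'.layer_el, lv,
        show (F.swap hB).rel.layer3.Φ ((false, false), false) = 1 from
          (F.swap hB).rel.layer3.map_zero]
    rw [eq1] at hX
    have hX' := hX.swapped hB
    rw [← eq2] at hX'
    refine h'.twelve_core hg' hd' hG hiff' ?_ ((h'.el_mem_AG hg' _).2 rfl)
      (Or.inl (by rw [h'.tau_el]; rfl)) hX'
    exact (h'.mem_cls_iff hg' hd' _ _).2 (List.mem_append_right _ ((hiff' _).2 (by decide)))
  · exact h.twelve_core hg hd hG hiff (hmem _ (by decide)) ((h.el_mem_AG hg _).2 rfl)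
      (Or.inr (by rw [h.tau_el]; rfl)) hX

theorem Ext.false_of_ext (h : F.Ext p q P) (hg : F.g.Both) (hg' : F.g.swap.Both) (hG : NoTwo G)
    (hd : F.lab = labTwo) : False := by
  obtain ⟨s, hs, hs1, hiff⟩ := h.classify hg hG hd
  rcases survF_params s hs with e | ⟨e, e2⟩ | e | e | e | e
  · rw [survF_twelve s hs e] at hiff
    obtain rfl : P = parTwelve := hs1.symm.trans e
    exact h.twelve_false hg hg' hG hd hiff
  · obtain rfl : P = parSix := hs1.symm.trans e
    rw [e2] at hiff
    exact h.six_false hg hG hd hiff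
  · obtain rfl : P = parEightB := hs1.symm.trans e
    obtain ⟨a1, a2, a3, a4⟩ := survF_B s hs e
    exact h.eight_false hg hG hd hiff a1 a2 a3 a4
  · obtain rfl : P = parEightD := hs1.symm.trans e
    obtain ⟨a1, a2, a3, a4⟩ := survF_D s hs e
    exact h.eight_false hg hG hd hiff a1 a2 a3 a4
  · have h' := h.swapped (hB := hg'.fst)
    rw [← hs1, e] at h'
    have hd' := F.swap_lab (hB := hg'.fst) hd
    obtain ⟨s', hs', hs1', hiff'⟩ := h'.classify hg' hG hd'
    obtain ⟨a1, a2, a3, a4⟩ := survF_B s' hs' hs1'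
    exact h'.eight_false hg' hG hd' hiff' a1 a2 a3 a4
  · have h' := h.swapped (hB := hg'.fst)
    rw [← hs1, e] at h'
    have hd' := F.swap_lab (hB := hg'.fst) hd
    obtain ⟨s', hs', hs1', hiff'⟩ := h'.classify hg' hG hd'
    obtain ⟨a1, a2, a3, a4⟩ := survF_D s' hs' hs1'
    exact h'.eight_false hg' hG hd' hiff' a1 a2 a3 a4

/-- The action of the normalizer of `S` on `⟨a, z⟩` is nontrivial. -/
theorem four_false (F : Fr G L) (hg : F.g.Both) (hg' : F.g.swap.Both) (hG : NoTwo G)
    (hd : F.lab = labTwo) (hfix : ∀ g ∈ F.NS, cj g F.a = F.a) : False := by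
  obtain ⟨p, q, P, h⟩ := F.exists_ext hg hg' hd hfix
  exact h.false_of_ext hg hg' hG hd

end Fr

end CfsgLib.InvTwoS6
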