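import Cfsg.Agent.Lib.InvTwoS6.AGroup

/-!
# The translations in the case of a four-group action
-/

set_option autoImplicit false

namespace CfsgLib.InvTwoS6

namespace Fr

variable {G : Type*} [Group G] {L : Type*} [Group L] {F : Fr G L} [Finite G]
variable {p q : G} {P : Par}

theorem mul_mem_AG_of_fix {g k : G} (hgA : g ∈ F.AG) (hk : k ∈ F.AG)
    (hfix : cj g (F.tau k) = F.tau k) : F.tau (g * k) = F.tau g * F.tau k ∧ g * k ∈ F.AG :=
  ⟨by rw [tau_mul, hfix], mul_mem hgA hk⟩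

theorem Ext.cj_q_hv (h : F.Ext p q P) (j : Bool) (w : W2) : cj q (F.hv j w) = F.hv j w := by
  rw [hv, h.cj_q_el]
  congr 1
  obtain ⟨l, m⟩ := w
  cases j <;> cases l <;> cases m <;> simp [lH, betaQ, W2.add, W2.smul]

theorem Ext.q_mem (h : F.Ext p q P) : q ∈ F.AG ∧ F.tau q = F.hv false (true, true) := by
  have ht : cj q F.t = F.t * F.hv false (true, true) := by rw [h.qt, b_hv]
  refine ⟨⟨h.qb, ⟨_, F.hv_mem _ _, ht⟩, ?_⟩, by rw [tau, ht, ← mul_assoc, F.sq, one_mul]⟩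
  rintro _ ⟨j, w, rfl⟩
  exact Or.inl (h.cj_q_hv j w)

/-- The corrected first element. -/
theorem Ext.p_mem (h : F.Ext p q P) :
    pw F.C P.d * p ∈ F.AG ∧ F.tau (pw F.C P.d * p) = F.hv false (true, false) := by
  obtain ⟨hC1, hC2, hC3⟩ := F.C_data
  have hp : ∀ (j : Bool) (w : W2),
      cj p (F.hv j w) = F.hv j (W2.add w (P.d && j, false)) := fun j w => by
    rw [hv, h.cj_p_el]
    congr 1
    simp [lH, betaP]
  have hC : ∀ x, cj (pw F.C P.d) x = if P.d then cj F.C x else x := fun x => by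
    cases P.d <;> simp [cj]
  have ht : cj (pw F.C P.d * p) F.t = F.t * F.hv false (true, false) := by
    rw [← cj_cj, h.hp.pt, show F.a = F.hv false (true, false) by simp [hv_eq, wv], hC]
    cases P.d
    · simp
    · simp only [if_true]
      rw [cj_mul, hC1, hC3]
      rfl
  refine ⟨⟨?_, ⟨_, F.hv_mem _ _, ht⟩, ?_⟩, by rw [tau, ht, ← mul_assoc, F.sq, one_mul]⟩
  · rw [← cj_cj, h.pb, hC]; cases P.d <;> simp [hC2]
  · rintro _ ⟨j, ⟨l, m⟩, rfl⟩
    rw [← cj_cj, hp, hC, hv_b]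
    obtain ⟨d, d', e, e', c⟩ := P
    cases d
    · left
      simp only [Bool.false_and, W2.add, Bool.xor_false, Bool.false_eq_true, if_false]
    · simp only [if_true, hC3]
      cases j
      · left
        congr 1
        cases l <;> cases m <;> rfl
      · right
        congr 1
        cases l <;> cases m <;> rfl

theorem Ext.tau_surj (h : F.Ext p q P) {x : G} (hx : x ∈ F.H1) : ∃ k ∈ F.AG, F.tau k = x := by
  obtain ⟨s, st, sb, sH, s1, s2, -, -⟩ := F.exists_sigma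
  obtain ⟨hp, hpt⟩ := h.p_mem
  obtain ⟨hr, hrt⟩ := F.cj_conj_AG st sb sH hp
  rw [hpt, s1] at hrt
  obtain ⟨hr', hrt'⟩ := F.cj_conj_AG st sb sH hr
  rw [hrt, s2] at hrt'
  obtain ⟨hq, hqt⟩ := h.q_mem
  have addb : ∀ (j : Bool) (w : W2) (k : G), k ∈ F.AG → F.tau k = F.hv j w →
      ∃ k' ∈ F.AG, F.tau k' = F.hv j (W2.add w (true, true)) := fun j w k hk e => by
    refine ⟨q * k, mul_mem hq hk, ?_⟩
    rw [tau_mul, e, h.cj_q_hv, hqt, hv_mul, Bool.false_xor]
    congr 1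
    obtain ⟨l, m⟩ := w
    cases l <;> cases m <;> rfl
  obtain ⟨j, ⟨l, m⟩, rfl⟩ := hx
  have h0 : F.tau 1 = F.hv false (false, false) := by simp [tau, cj, F.sq, hv_one]
  cases j <;> cases l <;> cases m
  · exact ⟨1, one_mem _, h0⟩
  · exact addb false (true, false) _ hp hpt
  · exact ⟨_, hp, hpt⟩
  · exact addb false (false, false) _ (one_mem _) h0
  · exact ⟨_, hr, hrt⟩
  · exact ⟨_, hr', hrt'⟩
  · exact addb true (false, true) _ hr' hrt'
  · exact addb true (false, false) _ hr hrt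

theorem Ext.card_AG (h : F.Ext p q P) (hg : F.g.Both) : Nat.card F.AG = 128 := by
  rw [F.card_AG hg]
  have e : {x : G // ∃ k ∈ F.AG, F.tau k = x} ≃ F.H1 :=
    Equiv.subtypeEquivRight fun x =>
      ⟨fun ⟨k, hk, e⟩ => e ▸ F.tau_mem hk, fun hx => h.tau_surj hx⟩
  rw [Nat.card_congr e, card_H1]

theorem Ext.card_PG256 (h : F.Ext p q P) (hg : F.g.Both) : Nat.card F.PG = 256 := by
  rw [F.card_PG hg, h.card_AG hg]

theorem Ext.dvd256 (h : F.Ext p q P) (hg : F.g.Both) : 256 ∣ Nat.card G :=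
  h.card_PG256 hg ▸ F.PG.card_subgroup_dvd_card

theorem Ext.el_decomp (h : F.Ext p q P) (x : V5 × W2) :
    ∃ y ∈ F.AG, h.layer.el x = pw F.C (xor x.1.1.1.2 (P.d && x.1.1.2)) * y := by
  obtain ⟨⟨⟨⟨⟨i, j⟩, k⟩, π⟩, κ⟩, w⟩ := x
  obtain ⟨hp, -⟩ := h.p_mem
  obtain ⟨hq, -⟩ := h.q_mem
  have hC : F.C * F.C = 1 := F.rel.hC
  have hconj : ∀ (e : Bool) (g : G), g ∈ F.AG → pw F.C e * g * pw F.C e ∈ F.AG := fun e g hgA => by
    cases e
    · simpa using hgA
    · have := (F.C_conj_AG hgA).1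
      rwa [cj, inv_eq_of_mul_eq_one_right hC] at this
  have e1 : pw F.C (xor k (P.d && π)) * pw F.C (xor k (P.d && π)) = 1 := by
    cases xor k (P.d && π) <;> simp [hC]
  refine ⟨pw F.C (xor k (P.d && π)) * h.layer.el (((((i, j), k), π), κ), w), ?_, by
    rw [← mul_assoc, e1, one_mul]⟩
  have hE : F.rel.layer3.Φ ((i, j), k) = F.el (((i, j), false), (false, false)) * pw F.C k := by
    simp only [SRel.el3, wv_zero, pw_false, mul_one]
    rfl
  rw [h.layer_el]
  simp only [hE]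
  have hy : pw F.C (xor k (P.d && π)) * (F.el (((i, j), false), (false, false)) * pw F.C k *
      pw p π * pw q κ * wv F.a F.z w) =
      pw F.C (xor k (P.d && π)) * F.el (((i, j), false), (false, false)) *
        pw F.C (xor k (P.d && π)) * (pw (pw F.C P.d * p) π * pw q κ * wv F.a F.z w) := by
    cases k <;> cases π <;> cases P.d <;> simp [mul_assoc, hC, ← mul_assoc F.C F.C]
  rw [hy]
  refine mul_mem (hconj _ _ (F.el_E_mem_AG i j _)) (mul_mem (mul_mem ?_ ?_) ?_)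
  · cases π
    · exact one_mem _
    · exact hp
  · cases κ
    · exact one_mem _
    · exact hq
  · rw [wv_eq]
    exact F.el_E_mem_AG false false w

theorem Ext.el_mem_AG (h : F.Ext p q P) (hg : F.g.Both) (x : V5 × W2) :
    h.layer.el x ∈ F.AG ↔ x.1.1.1.2 = (P.d && x.1.1.2) := by
  obtain ⟨y, hy, e⟩ := h.el_decomp x
  rw [e]
  generalize x.1.1.1.2 = k
  generalize (P.d && x.1.1.2) = k'
  refine ⟨fun hm => ?_, fun hk => ?_⟩
  · by_contra hne
    have hC : F.C * y ∈ F.AG := by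
      rwa [show xor k k' = true by revert hne; cases k <;> cases k' <;> decide, pw_true] at hm
    refine F.C_notMem_AG hg ?_
    simpa using mul_mem hC (inv_mem hy)
  · subst hk; simpa using hy

theorem Ext.NS_le_PG (h : F.Ext p q P) (hg : F.g.Both) (hd : F.lab = labTwo) : F.NS ≤ F.PG := by
  intro g hgn
  rw [← (h.layer_group hg hd).1] at hgn
  obtain ⟨x, rfl⟩ := hgn
  obtain ⟨y, hy, e⟩ := h.el_decomp x
  rw [e]
  cases xor x.1.1.1.2 (P.d && x.1.1.2)
  · exact Or.inl (by simpa using hy)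
  · exact Or.inr (by rw [pw_true, ← mul_assoc, F.rel.hC, one_mul]; exact hy)

theorem Ext.tau_el (h : F.Ext p q P) (x : V5 × W2) :
    F.tau (h.layer.el x) = F.hv false (xor x.1.1.2 x.1.2, x.1.2) := by
  rw [h.layer_el, tau, show F.rel.layer3.Φ x.1.1.1 * pw p x.1.1.2 * pw q x.1.2 * wv F.a F.z x.2 =
    F.el (x.1.1.1, (false, false)) * (pw p x.1.1.2 * pw q x.1.2) * F.ce (false, x.2) by
      rw [F.wv_eq]; simp [el, Layer.el, mul_assoc]]
  have hw : cj (F.ce (false, x.2)) F.t = F.t := by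
    rw [← ce_t]; exact F.cj_of_mem_S ⟨_, rfl⟩ _
  rw [← cj_cj, hw, ← cj_cj, ← cj_cj]
  have hb := h.pb
  have c1 : ∀ y : G, cj (1 : G) y = y := fun y => by simp [cj]
  have e : cj (pw p x.1.1.2) (cj (pw q x.1.2) F.t) =
      F.ce (true, (xor x.1.1.2 x.1.2, x.1.2)) := by
    cases x.1.1.2 <;> cases x.1.2 <;>
      simp only [pw_true, pw_false, c1, h.qt, cj_mul, h.hp.pt, hb] <;>
      simp [ce_eq, wv, b_eq, mul_assoc, ← mul_assoc F.a F.a, F.rel.ha]
  rw [e, F.cj_of_mem_S ⟨_, rfl⟩, hv_eq, ce_eq, ← mul_assoc, pw_true, F.sq, one_mul]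
  simp

end Fr

end CfsgLib.InvTwoS6
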