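import Cfsg.Agent.Lib.InvTwoS6.FourNorm

/-!
# The action of the normalizer of `NS` on labels
-/

set_option autoImplicit false

namespace CfsgLib.InvTwoS6

/-- The label with a nontrivial `a₁`-coordinate only. -/
def eA5 : V5 := lv false true false false false
/-- The label with a nontrivial `c₁`-coordinate only. -/
def eC5 : V5 := lv false false true false false
/-- The label of `t`. -/
def eT5 : V5 := lv true false false false false
/-- The four cosets `t, p, q, t p q`. -/
def rTwelve : List V5 :=
  [eT5, lv false false false true false, lv false false false false true,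
    lv true false false true true]

theorem twelve_values : ∀ k : W2, (all5.any fun u => all5.any fun v =>
    decide (bilF parTwelve u v = k)) = true := by
  decide +kernel

theorem twelve_nbr : (rTwelve.all fun v => (baseF ++ addTwelve).all fun u =>
    !decide (bilF parTwelve v u = (false, false)) || decide (u = v) || decide (u = add5 v eA5) ||
      decide (u = add5 v eC5)) = true := by
  decide +kernel

theorem twelve_inR : ((baseF ++ addTwelve).all fun v =>
    !(baseF ++ addTwelve).contains (add5 v eA5) || !(baseF ++ addTwelve).contains (add5 v eC5) ||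
      !decide (bilF parTwelve v (add5 v eA5) = (false, false)) ||
      !decide (bilF parTwelve v (add5 v eC5) = (false, false)) || rTwelve.contains v) = true := by
  decide +kernel

theorem twelve_R : ∀ v ∈ rTwelve, v ∈ baseF ++ addTwelve ∧ add5 v eA5 ∈ baseF ++ addTwelve ∧
    add5 v eC5 ∈ baseF ++ addTwelve ∧ bilF parTwelve v (add5 v eA5) = (false, false) ∧
    bilF parTwelve v (add5 v eC5) = (false, false) := by
  decide +kernel

theorem twelve_four : (rTwelve.all fun a => rTwelve.all fun b => rTwelve.all fun c =>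
    rTwelve.all fun d =>
      decide (a = b) || decide (a = c) || decide (a = d) || decide (b = c) || decide (b = d) ||
      decide (c = d) || !decide (bilF parTwelve a d = (false, true)) || decide (a = eT5) ||
      (decide (a = lv false false false true false) && decide (b = eT5)) ||
      (decide (a = lv false false false false true) && decide (c = eT5)) ||
      (decide (a = lv true false false true true) && decide (d = eT5)) ||
      (decide (a = lv false false false true false) && decide (b = lv true false false true true) &&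
        decide (d = lv false false false false true) && decide (c = eT5)) ||
      (decide (a = lv false false false false true) && decide (c = lv true false false true true) &&
        decide (d = lv false false false true false) && decide (b = eT5))) = true := by
  decide +kernel

theorem shift_comm : ∀ a b c d : W2,
    W2.add a (W2.add c d) = W2.add (W2.add a b) (W2.add b (W2.add d c)) := by decide

theorem w2_mid : ∀ a b : W2, W2.add a (W2.add b (false, false)) = W2.add b a := by decide

theorem add5_cancel : ∀ u v : V5, add5 u (add5 u v) = v := by decide +kernel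

theorem add5_right : ∀ u v w : V5, add5 u v = w → v = add5 u w := fun u v w h => by
  rw [← h, add5_cancel]

namespace Fr

variable {G : Type*} [Group G] {L : Type*} [Group L] {F : Fr G L} [Finite G]
variable {p q : G} {P : Par}

theorem Ext.el_commutator (h : F.Ext p q P) (x y : V5 × W2) :
    h.layer.el x * h.layer.el y =
      h.layer.el (h.layer.zero, bilF P x.1 y.1) * (h.layer.el y * h.layer.el x) := by
  rw [Layer.el_mul, Layer.el_mul, Layer.el_mul]
  congr 1
  simp only [Layer.mul, h.layer_add, h.layer_f, h.layer_zero]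
  refine Prod.ext ?_ ?_
  · simp only
    rw [add5_comm y.1 x.1, add5_comm _ (add5 x.1 y.1), add5_mem_ker]
  · simp only
    have hz : ∀ v : V5, f5 P ((((false, false), false), false), false) v = (false, false) := fun v => by
      obtain ⟨d, d', e, e', c⟩ := P
      simp [f5, f4, f3, betaP, betaQ, W2.add, W2.smul]
    rw [hz, bilF]
    generalize f5 P x.1 y.1 = a
    generalize f5 P y.1 x.1 = b
    generalize x.2 = c
    generalize y.2 = d
    revert a b c d
    decide

theorem Ext.image_exists (h : F.Ext p q P) (hg : F.g.Both) (hd : F.lab = labTwo) {g : G}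
    (hgK : g ∈ Subgroup.normalizer (F.NS : Set G)) (x : V5 × W2) :
    ∃ y, cj g (h.layer.el x) = h.layer.el y := by
  have hgr := (h.layer_group hg hd).1
  have hm : h.layer.el x ∈ F.NS := by rw [← hgr]; exact ⟨_, rfl⟩
  have := (Subgroup.mem_normalizer_iff.1 hgK _).1 hm
  rw [← hgr] at this
  obtain ⟨y, hy⟩ := this
  exact ⟨y, hy.symm⟩

/-- The map induced on labels. -/
noncomputable def Ext.phi (h : F.Ext p q P) (hg : F.g.Both) (hd : F.lab = labTwo) {g : G}
    (hgK : g ∈ Subgroup.normalizer (F.NS : Set G)) (v : V5) : V5 :=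
  (h.image_exists hg hd hgK (v, (false, false))).choose.1

section Twelve

variable (h : F.Ext p q parTwelve) (hg : F.g.Both) (hd : F.lab = labTwo)
include hg hd

theorem Ext.image_W {g : G} (hgK : g ∈ Subgroup.normalizer (F.NS : Set G)) (k : W2) :
    ∃ k', cj g (h.layer.el (h.layer.zero, k)) = h.layer.el (h.layer.zero, k') := by
  obtain ⟨u, -, hu⟩ := List.any_eq_true.1 (twelve_values k)
  obtain ⟨v, -, hv⟩ := List.any_eq_true.1 hu
  have e := congrArg (cj g) (h.el_commutator (u, (false, false)) (v, (false, false)))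
  obtain ⟨x, hx⟩ := h.image_exists hg hd hgK (u, (false, false))
  obtain ⟨y, hy⟩ := h.image_exists hg hd hgK (v, (false, false))
  rw [of_decide_eq_true hv, cj_mul, cj_mul, cj_mul, hx, hy, h.el_commutator x y,
    mul_left_inj] at e
  exact ⟨_, e.symm⟩

theorem Ext.phi_spec {g : G} (hgK : g ∈ Subgroup.normalizer (F.NS : Set G)) (v : V5) (k : W2) :
    ∃ k', cj g (h.layer.el (v, k)) = h.layer.el (h.phi hg hd hgK v, k') := by
  set y := (h.image_exists hg hd hgK (v, (false, false))).choose with hy
  have hy' : cj g (h.layer.el (v, (false, false))) = h.layer.el y :=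
    (h.image_exists hg hd hgK (v, (false, false))).choose_spec
  obtain ⟨k', hk'⟩ := h.image_W hg hd hgK k
  refine ⟨W2.add k' y.2, ?_⟩
  have hz : ∀ (u : V5) (a b : W2), h.layer.el (h.layer.zero, a) * h.layer.el (u, b) =
      h.layer.el (u, W2.add a b) := fun u a b => by
    rw [Layer.el_mul]
    congr 1
    simp only [Layer.mul, h.layer_add, h.layer_f, h.layer_zero]
    refine Prod.ext (by simp only; rw [add5_comm, add5_mem_ker]) ?_
    simp [f5, f4, f3, betaP, betaQ, W2.add, W2.smul, parTwelve]
  have e : h.layer.el (v, k) = h.layer.el (h.layer.zero, k) * h.layer.el (v, (false, false)) := by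
    rw [hz]; congr; simp [W2.add]
  rw [e, cj_mul, hk', hy', show y = (y.1, y.2) from rfl, hz]
  rfl

theorem Ext.phi_eq {g : G} (hgK : g ∈ Subgroup.normalizer (F.NS : Set G)) {v v' : V5} {k k' : W2}
    (e : cj g (h.layer.el (v, k)) = h.layer.el (v', k')) : h.phi hg hd hgK v = v' := by
  obtain ⟨k'', h'⟩ := h.phi_spec hg hd hgK v k
  exact congrArg Prod.fst (h.el_inj hg hd (h'.symm.trans e))

theorem Ext.phi_add {g : G} (hgK : g ∈ Subgroup.normalizer (F.NS : Set G)) (u v : V5) :
    h.phi hg hd hgK (add5 u v) = add5 (h.phi hg hd hgK u) (h.phi hg hd hgK v) := by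
  obtain ⟨a, ha⟩ := h.phi_spec hg hd hgK u (false, false)
  obtain ⟨b, hb⟩ := h.phi_spec hg hd hgK v (false, false)
  have e := congrArg (cj g) (h.layer.el_mul (u, (false, false)) (v, (false, false)))
  rw [cj_mul, ha, hb, Layer.el_mul] at e
  exact h.phi_eq hg hd hgK e.symm

theorem Ext.phi_inj {g : G} (hgK : g ∈ Subgroup.normalizer (F.NS : Set G)) :
    Function.Injective (h.phi hg hd hgK) := fun u v e => by
  obtain ⟨a, ha⟩ := h.phi_spec hg hd hgK u (false, false)
  obtain ⟨b, hb⟩ := h.phi_spec hg hd hgK v (false, false)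
  obtain ⟨d, hdW⟩ := h.image_W hg hd (inv_mem hgK) (W2.add a b)
  have hz : ∀ (w : V5) (k k' : W2), h.layer.el (w, k) * h.layer.el (h.layer.zero, k') =
      h.layer.el (w, W2.add k k') := fun w k k' => by
    rw [Layer.el_mul]
    congr 1
    simp only [Layer.mul, h.layer_add, h.layer_f, h.layer_zero]
    refine Prod.ext (by simp only; rw [add5_mem_ker]) ?_
    simp [f5, f4, f3, betaP, betaQ, W2.add, W2.smul, parTwelve]
  have e1 : cj g (h.layer.el (v, (false, false))) =
      cj g (h.layer.el (u, (false, false)) * h.layer.el (h.layer.zero, d)) := by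
    rw [cj_mul, hb, ha, ← hdW, cj_cj, mul_inv_cancel, show ∀ x : G, cj 1 x = x from
      fun x => by simp [cj], hz, e, add_diff]
  have e2 := cj_inj e1
  rw [hz] at e2
  exact (congrArg Prod.fst (h.el_inj hg hd e2)).symm

theorem Ext.phi_comp {g g' : G} (hgK : g ∈ Subgroup.normalizer (F.NS : Set G))
    (hgK' : g' ∈ Subgroup.normalizer (F.NS : Set G)) (v : V5) :
    h.phi hg hd (mul_mem hgK hgK') v = h.phi hg hd hgK (h.phi hg hd hgK' v) := by
  obtain ⟨a, ha⟩ := h.phi_spec hg hd hgK' v (false, false)
  obtain ⟨b, hb⟩ := h.phi_spec hg hd hgK (h.phi hg hd hgK' v) a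
  exact h.phi_eq hg hd _ (k := (false, false)) (k' := b) (by rw [← cj_cj, ha, hb])

theorem Ext.phi_inv {g : G} (hgK : g ∈ Subgroup.normalizer (F.NS : Set G)) {u v : V5}
    (e : h.phi hg hd hgK u = v) : h.phi hg hd (inv_mem hgK) v = u := by
  obtain ⟨a, ha⟩ := h.phi_spec hg hd hgK u (false, false)
  rw [e] at ha
  exact h.phi_eq hg hd _ (k := a) (k' := (false, false))
    (by rw [← ha, cj_cj, inv_mul_cancel]; simp [cj])

theorem Ext.phi_bil {g : G} (hgK : g ∈ Subgroup.normalizer (F.NS : Set G)) (u v : V5) :
    cj g (h.layer.el (h.layer.zero, bilF parTwelve u v)) = h.layer.el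
      (h.layer.zero, bilF parTwelve (h.phi hg hd hgK u) (h.phi hg hd hgK v)) := by
  obtain ⟨a, ha⟩ := h.phi_spec hg hd hgK u (false, false)
  obtain ⟨b, hb⟩ := h.phi_spec hg hd hgK v (false, false)
  have e := congrArg (cj g) (h.el_commutator (u, (false, false)) (v, (false, false)))
  rw [cj_mul, cj_mul, cj_mul, ha, hb, h.el_commutator, mul_left_inj] at e
  exact e.symm

theorem Ext.phi_zero_iff {g : G} (hgK : g ∈ Subgroup.normalizer (F.NS : Set G)) (u v : V5)
    (hb : bilF parTwelve u v = (false, false)) :
    bilF parTwelve (h.phi hg hd hgK u) (h.phi hg hd hgK v) = (false, false) := by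
  have e := h.phi_bil hg hd hgK u v
  rw [hb, Layer.el_zero, show cj g (1 : G) = 1 by simp [cj], ← h.layer.el_zero] at e
  exact (congrArg Prod.snd (h.el_inj hg hd e)).symm

theorem Ext.phi_mem {g : G} (hgK : g ∈ Subgroup.normalizer (F.NS : Set G)) {v : V5}
    (hv : v ∈ h.memM) : h.phi hg hd hgK v ∈ h.memM := by
  obtain ⟨a, ha⟩ := h.phi_spec hg hd hgK v (false, false)
  exact (h.mem_cls_iff hg hd _ a).1 (ha ▸ cj_mem_cls ((h.mem_cls_iff hg hd v _).2 hv))

/-- An element exchanging `t` with one of `p`, `q`, `t p q` and fixing `a₁`, `c₁` modulo `⟨a, z⟩`. -/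
theorem Ext.exists_exchange (hiff : ∀ v, v ∈ h.outO ↔ v ∈ addTwelve) :
    ∃ g, ∃ hgK : g ∈ Subgroup.normalizer (F.NS : Set G),
      h.phi hg hd hgK eA5 = eA5 ∧ h.phi hg hd hgK eC5 = eC5 ∧
      ∃ x ∈ [lv false false false true false, lv false false false false true,
        lv true false false true true], h.phi hg hd hgK eT5 = x ∧ h.phi hg hd hgK x = eT5 := by
  classical
  have hM : ∀ v, v ∈ h.memM ↔ v ∈ baseF ++ addTwelve := fun v =>
    (h.memM_perm (by decide) hiff).mem_iff
  have hgr := (h.layer_group hg hd).1
  -- an element moving `t` to a given coset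
  have hmove : ∀ v ∈ rTwelve, ∃ g, ∃ hgK : g ∈ Subgroup.normalizer (F.NS : Set G),
      h.phi hg hd hgK eT5 = v := fun v hv => by
    obtain ⟨g, hgK, e⟩ := h.transit hg hd ((h.mem_cls_iff hg hd v (false, false)).2
      ((hM v).2 (twelve_R v hv).1)) (by rw [← hgr]; exact ⟨_, rfl⟩)
    refine ⟨g, hgK, h.phi_eq hg hd hgK (k := (false, false)) (k' := (false, false)) ?_⟩
    rw [show h.layer.el (eT5, (false, false)) = F.t by
      rw [eT5, lv, h.layer_inner]; exact F.el_t, e]
  -- such elements permute `A` and `C`
  have hAC : ∀ {g : G} (hgK : g ∈ Subgroup.normalizer (F.NS : Set G)),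
      h.phi hg hd hgK eT5 ∈ rTwelve →
      (h.phi hg hd hgK eA5 = eA5 ∧ h.phi hg hd hgK eC5 = eC5) ∨
        (h.phi hg hd hgK eA5 = eC5 ∧ h.phi hg hd hgK eC5 = eA5) := by
    intro g hgK hv
    set v := h.phi hg hd hgK eT5 with hvdef
    have key : ∀ e, e = eA5 ∨ e = eC5 →
        h.phi hg hd hgK e = eA5 ∨ h.phi hg hd hgK e = eC5 := by
      intro e he
      have hTm : eT5 ∈ rTwelve := by decide
      obtain ⟨-, hA', hC', bA, bC⟩ := twelve_R eT5 hTm
      have h1 : add5 eT5 e ∈ baseF ++ addTwelve ∧
          bilF parTwelve eT5 (add5 eT5 e) = (false, false) := by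
        rcases he with rfl | rfl
        · exact ⟨hA', bA⟩
        · exact ⟨hC', bC⟩
      have h2 := (hM _).1 (h.phi_mem hg hd hgK ((hM _).2 h1.1))
      have h3 := h.phi_zero_iff hg hd hgK _ _ h1.2
      have hn := twelve_nbr
      simp only [List.all_eq_true, Bool.or_eq_true, Bool.not_eq_true', decide_eq_false_iff_not,
        decide_eq_true_eq] at hn
      rw [h.phi_add hg hd hgK] at h2 h3
      rcases hn v hv _ h2 with ((hh | hh) | hh) | hh
      · exact absurd h3 hh
      · exfalso
        have e0 := h.phi_inj hg hd hgK (hh.trans hvdef |> fun hh' =>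
          ((h.phi_add hg hd hgK eT5 e).trans hh'))
        revert e0
        rcases he with rfl | rfl <;> decide
      · exact Or.inl (add5_right _ _ _ hh |>.trans (add5_cancel _ _))
      · exact Or.inr (add5_right _ _ _ hh |>.trans (add5_cancel _ _))
    have hne : h.phi hg hd hgK eA5 ≠ h.phi hg hd hgK eC5 := fun e =>
      absurd (h.phi_inj hg hd hgK e) (by decide)
    rcases key _ (Or.inl rfl) with e1 | e1 <;> rcases key _ (Or.inr rfl) with e2 | e2
    · exact absurd (e1.trans e2.symm) hne
    · exact Or.inl ⟨e1, e2⟩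
    · exact Or.inr ⟨e1, e2⟩
    · exact absurd (e1.trans e2.symm) hne
  -- an element fixing both and moving `t`
  have hinR : ∀ {g : G} (hgK : g ∈ Subgroup.normalizer (F.NS : Set G)),
      h.phi hg hd hgK eA5 = eA5 → h.phi hg hd hgK eC5 = eC5 →
      ∀ v ∈ rTwelve, h.phi hg hd hgK v ∈ rTwelve := by
    intro g hgK fA fC v hv
    obtain ⟨m0, mA, mC, bA, bC⟩ := twelve_R v hv
    have hn := twelve_inR
    simp only [List.all_eq_true, Bool.or_eq_true, Bool.not_eq_true', decide_eq_false_iff_not,
      ← Bool.not_eq_true, List.contains_iff_mem] at hn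
    have i1 := (hM _).1 (h.phi_mem hg hd hgK ((hM _).2 m0))
    have i2 := (hM _).1 (h.phi_mem hg hd hgK ((hM _).2 mA))
    have i3 := (hM _).1 (h.phi_mem hg hd hgK ((hM _).2 mC))
    have i4 := h.phi_zero_iff hg hd hgK _ _ bA
    have i5 := h.phi_zero_iff hg hd hgK _ _ bC
    rw [h.phi_add hg hd hgK, fA] at i2 i4
    rw [h.phi_add hg hd hgK, fC] at i3 i5
    rcases hn _ i1 with (((hh | hh) | hh) | hh) | hh
    · exact absurd i2 hh
    · exact absurd i3 hh
    · exact absurd (decide_eq_true i4) hh
    · exact absurd (decide_eq_true i5) hh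
    · exact hh
  obtain ⟨g, hgK, fA, fC, fne⟩ : ∃ g, ∃ hgK : g ∈ Subgroup.normalizer (F.NS : Set G),
      h.phi hg hd hgK eA5 = eA5 ∧ h.phi hg hd hgK eC5 = eC5 ∧ h.phi hg hd hgK eT5 ≠ eT5 := by
    obtain ⟨g1, hg1, e1⟩ := hmove (lv false false false true false) (by decide)
    obtain ⟨g2, hg2, e2⟩ := hmove (lv false false false false true) (by decide)
    rcases hAC hg1 (by rw [e1]; decide) with ⟨a1, c1⟩ | ⟨a1, c1⟩
    · exact ⟨g1, hg1, a1, c1, by rw [e1]; decide⟩
    rcases hAC hg2 (by rw [e2]; decide) with ⟨a2, c2⟩ | ⟨a2, c2⟩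
    · exact ⟨g2, hg2, a2, c2, by rw [e2]; decide⟩
    refine ⟨g2⁻¹ * g1, mul_mem (inv_mem hg2) hg1, ?_, ?_, ?_⟩
    · rw [h.phi_comp hg hd (inv_mem hg2) hg1, a1, h.phi_inv hg hd hg2 a2]
    · rw [h.phi_comp hg hd (inv_mem hg2) hg1, c1, h.phi_inv hg hd hg2 c2]
    · rw [h.phi_comp hg hd (inv_mem hg2) hg1, e1]
      intro e
      have := h.phi_inv hg hd (inv_mem hg2) e
      have e' : h.phi hg hd hg2 eT5 = lv false false false true false := by
        simpa only [inv_inv] using this
      rw [e2] at e'
      exact absurd e' (by decide)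
  -- adjust to an exchange
  have hR := hinR hgK fA fC
  set f := h.phi hg hd hgK with hf
  have hzfix : bilF parTwelve (f eT5) (f (lv true false false true true)) = (false, true) := by
    have e := h.phi_bil hg hd hgK eT5 (lv true false false true true)
    have e0 := h.phi_bil hg hd hgK eA5 eC5
    rw [← hf] at e e0
    rw [fA, fC] at e0
    have hv1 : bilF parTwelve eT5 (lv true false false true true) = bilF parTwelve eA5 eC5 := by
      decide
    rw [hv1, e0] at e
    refine (congrArg Prod.snd (h.el_inj hg hd e)).symm.trans ?_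
    show bilF parTwelve eA5 eC5 = _
    decide
  have h4 := twelve_four
  simp only [List.all_eq_true, Bool.or_eq_true, Bool.and_eq_true, Bool.not_eq_true',
    decide_eq_false_iff_not, decide_eq_true_eq] at h4
  have hcases := h4 (f eT5) (hR _ (by decide)) (f (lv false false false true false))
    (hR _ (by decide)) (f (lv false false false false true)) (hR _ (by decide))
    (f (lv true false false true true)) (hR _ (by decide))
  have inj := h.phi_inj hg hd hgK
  rw [← hf] at inj
  simp only [inj.eq_iff, hzfix, not_true, or_false, fne,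
    show (eT5 = lv false false false true false) = False from eq_false (by decide),
    show (eT5 = lv false false false false true) = False from eq_false (by decide),
    show (eT5 = lv true false false true true) = False from eq_false (by decide),
    show (lv false false false true false = lv false false false false true) = False from
      eq_false (by decide),
    show (lv false false false true false = lv true false false true true) = False from
      eq_false (by decide),
    show (lv false false false false true = lv true false false true true) = False from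
      eq_false (by decide), false_or] at hcases
  rcases hcases with (((⟨e1, e2⟩ | ⟨e1, e2⟩) | ⟨e1, e2⟩) | ⟨⟨⟨e1, e2⟩, e3⟩, e4⟩) |
    ⟨⟨⟨e1, e2⟩, e3⟩, e4⟩
  · exact ⟨g, hgK, fA, fC, _, by simp, e1, e2⟩
  · exact ⟨g, hgK, fA, fC, _, by simp, e1, e2⟩
  · exact ⟨g, hgK, fA, fC, _, by simp, e1, e2⟩
  · refine ⟨g * g, mul_mem hgK hgK, ?_, ?_, lv true false false true true, by simp, ?_, ?_⟩ <;>
      rw [h.phi_comp hg hd hgK hgK, ← hf]
    · rw [fA, fA]
    · rw [fC, fC]
    · rw [e1, e2]
    · rw [e3, e4]
  · refine ⟨g * g, mul_mem hgK hgK, ?_, ?_, lv true false false true true, by simp, ?_, ?_⟩ <;>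
      rw [h.phi_comp hg hd hgK hgK, ← hf]
    · rw [fA, fA]
    · rw [fC, fC]
    · rw [e1, e2]
    · rw [e3, e4]

end Twelve

end Fr

end CfsgLib.InvTwoS6
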