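import Cfsg.Agent.Lib.InvTwoS6.FourGroups

/-!
# The conjugates of `t` in the normalizer of `S`
-/

set_option autoImplicit false

namespace CfsgLib.InvTwoS6

theorem add5_comm : ∀ u v : V5, add5 u v = add5 v u := by decide +kernel

theorem add5_self : ∀ u : V5, add5 u u = ((((false, false), false), false), false) := by decide

theorem bil_zero_iff : ∀ a b c d : W2,
    (W2.add a (W2.add c d) = W2.add b (W2.add d c)) ↔ W2.add a b = (false, false) := by decide

theorem sq_zero : ∀ a c : W2, W2.add a (W2.add c c) = (false, false) → a = (false, false) := by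
  decide

theorem shift_zero : ∀ a b x y : W2,
    W2.add a (W2.add x y) = W2.add b (W2.add (W2.add y (W2.add a b)) x) := by decide

theorem add_diff : ∀ k k' : W2, W2.add k (W2.add k k') = k' := by decide

theorem inner_base5 : ∀ v : V3, (v ∈ ([((true, false), false), ((true, true), false),
    ((true, false), true)] : List V3)) ↔ ((v, false), false) ∈ baseF := by decide

theorem baseF_inner : ∀ v ∈ baseF, v.1.2 = false ∧ v.2 = false := by decide

theorem candF_outer : ∀ v : V5, (v ∈ outF ↔ (v.1.2 = true ∨ v.2 = true)) := by decide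

theorem all5_nodup : all5.Nodup := by decide

theorem card_pred5 (χ : V5 → Bool) : Fintype.card {v : V5 // χ v = true} = all5.countP χ := by
  rw [List.countP_eq_length_filter, ← List.toFinset_card_of_nodup (all5_nodup.filter _),
    Fintype.card_subtype]
  congr 1
  ext v
  simp [mem_all5]

theorem funcsF_linear : (funcsF.all fun χ => all5.all fun u => all5.all fun v =>
    decide (χ (add5 u v) = xor (χ u) (χ v))) = true := by
  decide +kernel

theorem funcsF_kernel : (funcsF.all fun χ => decide ((all5.countP fun v => !χ v) = 16)) = true := by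
  decide +kernel

namespace Fr

variable {G : Type*} [Group G] {L : Type*} [Group L] {F : Fr G L} [Finite G]
variable {p q : G} {P : Par}

theorem Ext.layer_zero (h : F.Ext p q P) :
    h.layer.zero = ((((false, false), false), false), false) := rfl

theorem Ext.el_inj (h : F.Ext p q P) (hg : F.g.Both) (hd : F.lab = labTwo) :
    Function.Injective h.layer.el := (h.layer_group hg hd).2

theorem Ext.comm_iff (h : F.Ext p q P) (hg : F.g.Both) (hd : F.lab = labTwo) (x y : V5 × W2) :
    h.layer.el x * h.layer.el y = h.layer.el y * h.layer.el x ↔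
      bilF P x.1 y.1 = (false, false) := by
  rw [Layer.el_mul, Layer.el_mul, (h.el_inj hg hd).eq_iff]
  simp only [Layer.mul, Prod.mk.injEq, h.layer_add, h.layer_f, add5_comm x.1 y.1, true_and,
    bil_zero_iff, bilF]

/-- The centralizer of a label. -/
def Ext.kerSub (h : F.Ext p q P) (hg : F.g.Both) (hd : F.lab = labTwo) (u : V5) : Subgroup G :=
  h.layer.sub (fun v => decide (bilF P u v = (false, false)))
    (decide_eq_true ((h.comm_iff hg hd (u, (false, false)) (h.layer.zero, (false, false))).1 (by
      rw [Layer.el_zero, mul_one, one_mul])))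
    fun x y hx hy => decide_eq_true ((h.comm_iff hg hd (u, (false, false))
      (h.layer.mul (x, (false, false)) (y, (false, false)))).1 (by
      have h1 := (h.comm_iff hg hd (u, (false, false)) (x, (false, false))).2 (of_decide_eq_true hx)
      have h2 := (h.comm_iff hg hd (u, (false, false)) (y, (false, false))).2 (of_decide_eq_true hy)
      rw [← Layer.el_mul, ← mul_assoc, h1, mul_assoc, h2, mul_assoc]))

theorem Ext.kerSub_spec (h : F.Ext p q P) (hg : F.g.Both) (hd : F.lab = labTwo) (u : V5 × W2) :
    Nat.card (h.kerSub hg hd u.1) = kerCard P u.1 * 4 ∧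
      ∀ x ∈ h.kerSub hg hd u.1, x * h.layer.el u = h.layer.el u * x := by
  refine ⟨?_, ?_⟩
  · rw [Ext.kerSub, Layer.card_sub _ (h.el_inj hg hd), card_pred5]
    rfl
  · rintro _ ⟨x, hx, rfl⟩
    exact ((h.comm_iff hg hd u x).2 (of_decide_eq_true hx)).symm

theorem Ext.kerCard_mem (h : F.Ext p q P) (hg : F.g.Both) (hd : F.lab = labTwo) {u : V5 × W2}
    (hu : h.layer.el u ∈ cls F.t) : kerCard P u.1 = 8 := by
  obtain ⟨h1, h2⟩ := h.kerSub_spec hg hd u
  rcases kerCard_vals P u.1 with e | e | e
  · exact e
  · have := F.card_le_of_two hu (k := 6) (by rw [h1, e]; rfl) h2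
    omega
  · have := F.card_le_of_two hu (k := 7) (by rw [h1, e]; rfl) h2
    omega

theorem Ext.saturated (h : F.Ext p q P) (hg : F.g.Both) (hd : F.lab = labTwo) {v : V5} {k k' : W2}
    (hu : h.layer.el (v, k) ∈ cls F.t) : h.layer.el (v, k') ∈ cls F.t := by
  have h8 : kerCard P v = 8 := h.kerCard_mem hg hd (u := (v, k)) hu
  have hs := bilF_surj P v
  rw [h8] at hs
  simp only [decide_true, Bool.not_true, Bool.false_or, List.all_eq_true, List.any_eq_true,
    decide_eq_true_eq] at hs
  obtain ⟨y, -, hy⟩ := hs (W2.add k k') (by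
    generalize W2.add k k' = w
    revert w; decide)
  have e : h.layer.el (y, (false, false)) * h.layer.el (v, k) =
      h.layer.el (v, k') * h.layer.el (y, (false, false)) := by
    rw [Layer.el_mul, Layer.el_mul]
    congr 1
    simp only [Layer.mul, h.layer_add, h.layer_f, add5_comm y v, Prod.mk.injEq, true_and]
    rw [← add_diff k k', ← hy, bilF]
    exact shift_zero _ _ _ _
  have e' : h.layer.el (v, k') = cj (h.layer.el (y, (false, false))) (h.layer.el (v, k)) := by
    rw [cj, e, mul_inv_cancel_right]
  exact e' ▸ cj_mem_cls hu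

open scoped Classical in
/-- The labels outside `S` of conjugates of `t`. -/
noncomputable def Ext.outO (h : F.Ext p q P) : List V5 :=
  (candF P).filter fun v => decide (h.layer.el (v, (false, false)) ∈ cls F.t)

/-- The labels of conjugates of `t`. -/
noncomputable def Ext.memM (h : F.Ext p q P) : List V5 := baseF ++ h.outO

theorem Ext.mem_cls_iff (h : F.Ext p q P) (hg : F.g.Both) (hd : F.lab = labTwo) (v : V5) (k : W2) :
    h.layer.el (v, k) ∈ cls F.t ↔ v ∈ h.memM := by
  classical
  obtain ⟨⟨x, π⟩, κ⟩ := v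
  by_cases hin : π = false ∧ κ = false
  · obtain ⟨rfl, rfl⟩ := hin
    have hn : ((x, false), false) ∉ h.outO := fun hm => by
      have := (candF_outer _).1 (List.mem_of_mem_filter (List.mem_of_mem_filter hm))
      simp at this
    rw [Ext.memM, List.mem_append, or_iff_left hn, h.layer_inner, F.mem_cls_el hg, hd, inS_two,
      inner_base5]
  · have hb : ((x, π), κ) ∉ baseF := fun hm => hin (baseF_inner _ hm)
    rw [Ext.memM, List.mem_append, or_iff_right hb, Ext.outO, List.mem_filter, decide_eq_true_iff]
    refine ⟨fun hu => ⟨?_, h.saturated hg hd hu⟩, fun hu => h.saturated hg hd hu.2⟩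
    rw [candF, List.mem_filter, candF_outer, Bool.and_eq_true, decide_eq_true_iff,
      decide_eq_true_iff]
    refine ⟨?_, ?_, h.kerCard_mem hg hd (u := (((x, π), κ), k)) hu⟩
    · revert hin; cases π <;> cases κ <;> simp
    · have h1 := sq_of_mem_cls F.sq hu
      rw [Layer.el_mul, ← h.layer.el_zero] at h1
      have h2 := congrArg Prod.snd (h.el_inj hg hd h1)
      simp only [Layer.mul, h.layer_f] at h2
      exact sq_zero _ k h2

theorem Ext.memM_nodup (h : F.Ext p q P) : h.memM.Nodup := by
  classical
  refine List.nodup_append.2 ⟨by decide, List.Nodup.filter _ (List.Nodup.filter _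
    (List.Nodup.filter _ all5_nodup)), ?_⟩
  intro a ha b hb e
  subst e
  have := (candF_outer a).1 (List.mem_of_mem_filter (List.mem_of_mem_filter hb))
  rw [(baseF_inner a ha).1, (baseF_inner a ha).2] at this
  simp at this

theorem Ext.nIn_S (h : F.Ext p q P) (hg : F.g.Both) (hd : F.lab = labTwo) : F.nIn F.S = 12 := by
  classical
  have hS : h.layer.sub (fun v => !v.1.2 && !v.2) (by rw [h.layer_zero]; rfl) (fun u v hu hv => by
      simp only [Bool.and_eq_true, Bool.not_eq_true'] at hu hv
      simp [Ext.layer_add, add5, hu, hv]) = F.S := by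
    ext g
    constructor
    · rintro ⟨⟨⟨⟨x, π⟩, κ⟩, k⟩, hx, rfl⟩
      simp only [Bool.and_eq_true, Bool.not_eq_true'] at hx
      obtain ⟨rfl, rfl⟩ := hx
      exact ⟨(x, k), (h.layer_inner x k).symm⟩
    · rintro ⟨⟨x, k⟩, rfl⟩
      exact ⟨(((x, false), false), k), rfl, h.layer_inner x k⟩
  rw [← hS, F.nIn_sub_list _ (h.el_inj hg hd) _ h.memM_nodup (h.mem_cls_iff hg hd),
    Ext.memM, List.countP_append]
  have h0 : h.outO.countP (fun v : V5 => !v.1.2 && !v.2) = 0 := by
    rw [List.countP_eq_zero]
    intro v hv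
    have := (candF_outer v).1 (List.mem_of_mem_filter (List.mem_of_mem_filter hv))
    rcases this with e | e <;> simp [e]
  rw [h0]
  rfl

theorem Ext.degree (h : F.Ext p q P) (hg : F.g.Both) (hd : F.lab = labTwo) {v : V5}
    (hv : v ∈ h.memM) :
    (h.memM.countP fun u => decide (bilF P v u = (false, false))) = 3 := by
  have hu := (h.mem_cls_iff hg hd v (false, false)).2 hv
  obtain ⟨h1, h2⟩ := h.kerSub_spec hg hd (v, (false, false))
  obtain ⟨g, -, hgQ⟩ := F.exists_conj_S hu (Q := h.kerSub hg hd v)
    (by rw [h1, h.kerCard_mem hg hd hu]) h2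
  have hcard : F.nIn (h.kerSub hg hd v) = F.nIn F.S :=
    Nat.card_congr ((MulAut.conj g).toEquiv.subtypeEquiv fun x => by
      rw [show (MulAut.conj g).toEquiv x = g * x * g⁻¹ from rfl, ← hgQ]
      refine and_congr_left fun _ => ?_
      rw [show g * x * g⁻¹ = g⁻¹⁻¹ * x * g⁻¹ by rw [inv_inv], conj_mem_cls_iff])
  rw [Ext.kerSub, F.nIn_sub_list _ (h.el_inj hg hd) _ h.memM_nodup (h.mem_cls_iff hg hd),
    h.nIn_S hg hd] at hcard
  omega

theorem Ext.parity (h : F.Ext p q P) (hg : F.g.Both) (hG : NoTwo G) (hd : F.lab = labTwo)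
    {χ : V5 → Bool} (hχ : χ ∈ funcsF) : (h.memM.countP fun v => !χ v) % 2 = 0 := by
  have hlin : ∀ u v, χ (add5 u v) = xor (χ u) (χ v) := fun u v => by
    have := funcsF_linear
    simp only [List.all_eq_true, decide_eq_true_eq] at this
    exact this χ hχ u (mem_all5 u) v (mem_all5 v)
  have h16 : (all5.countP fun v => !χ v) = 16 := by
    have := funcsF_kernel
    simp only [List.all_eq_true, decide_eq_true_eq] at this
    exact this χ hχ
  have h0 : (!χ h.layer.zero) = true := by
    have := hlin h.layer.zero h.layer.zero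
    rw [show add5 h.layer.zero h.layer.zero = h.layer.zero from (add5_self _).trans rfl,
      Bool.xor_self] at this
    rw [this]; rfl
  have hadd : ∀ u v, (!χ u) = true → (!χ v) = true → (!χ (h.layer.add u v)) = true :=
    fun u v hu hv => by
      simp only [Bool.not_eq_true'] at hu hv ⊢
      rw [h.layer_add, hlin, hu, hv]; rfl
  by_contra hodd
  have hH : Nat.card (h.layer.sub (fun v => !χ v) h0 hadd) = 64 := by
    rw [Layer.card_sub _ (h.el_inj hg hd), card_pred5, h16]
  refine F.forbid hG _ (r := (h.memM.countP fun v => !χ v) / 2) (by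
    rw [hH]; exact h.dvd256 hg) ?_
  rw [hH, F.nIn_sub_list _ (h.el_inj hg hd) _ h.memM_nodup (h.mem_cls_iff hg hd)]
  omega

/-- The possible configurations. -/
theorem Ext.classify (h : F.Ext p q P) (hg : F.g.Both) (hG : NoTwo G) (hd : F.lab = labTwo) :
    ∃ s ∈ survF, s.1 = P ∧ ∀ v, v ∈ h.outO ↔ v ∈ s.2 := by
  classical
  have hgood : goodF P h.memM = true := by
    simp only [goodF, Bool.and_eq_true, List.all_eq_true, decide_eq_true_eq]
    exact ⟨fun v hv => h.degree hg hd hv, fun χ hχ => h.parity hg hG hd hχ⟩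
  have hc := classifyF P
  rw [List.all_eq_true] at hc
  have := hc h.outO (List.mem_sublists.2 List.filter_sublist)
  rw [show baseF ++ h.outO = h.memM from rfl, hgood] at this
  simp only [Bool.not_true, Bool.false_or, List.any_eq_true, Bool.and_eq_true, decide_eq_true_eq,
    List.all_eq_true, List.contains_iff_mem] at this
  obtain ⟨s, hs, ⟨h1, h2⟩, h3⟩ := this
  exact ⟨s, hs, h1, fun v => ⟨h2 v, h3 v⟩⟩

end Fr

end CfsgLib.InvTwoS6
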