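import Cfsg.Agent.Lib.InvTwoS6.FourMem

/-!
# Fusion in the normalizer of the group of order 128, and counts in the translations
-/

set_option autoImplicit false

namespace CfsgLib.InvTwoS6

theorem add5_mem_ker : ∀ u : V5, add5 u ((((false, false), false), false), false) = u := by decide

/-- Membership of a label among the translations, with a prescribed translation. -/
def inTau (P : Par) (w : W2) (v : V5) : Bool :=
  decide (v.1.1.2 = (P.d && v.1.2)) && decide ((xor v.1.2 v.2, v.2) = w)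

namespace Fr

variable {G : Type*} [Group G] {L : Type*} [Group L] {F : Fr G L} [Finite G]
variable {p q : G} {P : Par}

/-- Fusion in the normalizer of `NS`. -/
theorem Ext.transit (h : F.Ext p q P) (hg : F.g.Both) (hd : F.lab = labTwo) {u : G}
    (hu : u ∈ cls F.t) (huN : u ∈ F.NS) :
    ∃ g ∈ Subgroup.normalizer (F.NS : Set G), cj g F.t = u := by
  rw [← (h.layer_group hg hd).1] at huN
  obtain ⟨x, rfl⟩ := huN
  obtain ⟨h1, h2⟩ := h.kerSub_spec hg hd x
  obtain ⟨g, hgt, hgQ⟩ := F.exists_conj_S hu (Q := h.kerSub hg hd x.1)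
    (by rw [h1, h.kerCard_mem hg hd hu]) h2
  refine ⟨g⁻¹, inv_mem (mem_normalizer_of_maps fun y hy => ?_), by rw [cj, inv_inv]; exact hgt⟩
  have hyQ : ∀ w ∈ h.kerSub hg hd x.1, y * w * y⁻¹ ∈ h.kerSub hg hd x.1 := by
    rintro _ ⟨w, hw, rfl⟩
    rw [← (h.layer_group hg hd).1] at hy
    obtain ⟨y', rfl⟩ := hy
    refine ⟨(w.1, W2.add w.2 (bilF P y'.1 w.1)), hw, ?_⟩
    rw [eq_mul_inv_iff_mul_eq, Layer.el_mul, Layer.el_mul]
    congr 1
    simp only [Layer.mul, h.layer_add, h.layer_f, add5_comm y'.1 w.1, Prod.mk.injEq, true_and, bilF]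
    generalize f5 P y'.1 w.1 = e
    generalize f5 P w.1 y'.1 = e'
    generalize y'.2 = k
    generalize w.2 = k'
    revert e e' k k'
    decide
  show g * y * g⁻¹ ∈ F.NS
  refine mem_normalizer_of_maps fun s hs => ?_
  have hsQ : g⁻¹ * s * g ∈ h.kerSub hg hd x.1 :=
    (hgQ _).2 (by rwa [show g * (g⁻¹ * s * g) * g⁻¹ = s by group])
  have := (hgQ _).1 (hyQ _ hsQ)
  rwa [show g * (y * (g⁻¹ * s * g) * y⁻¹) * g⁻¹ = g * y * g⁻¹ * s * (g * y * g⁻¹)⁻¹ by group]
    at this

theorem Ext.card_cls_NS (h : F.Ext p q P) (hg : F.g.Both) (hd : F.lab = labTwo) :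
    F.nIn F.NS = 4 * h.memM.length := by
  obtain ⟨hgr, hinj⟩ := h.layer_group hg hd
  rw [show h.memM.length = h.memM.countP fun _ => true by simp,
    ← F.card_cls_list h.layer hinj (fun _ => true) h.memM_nodup (h.mem_cls_iff hg hd)]
  refine Nat.card_congr (Equiv.subtypeEquivRight fun u => and_congr_right fun _ => ?_)
  rw [← hgr]
  exact ⟨fun ⟨x, hx⟩ => ⟨x, rfl, hx⟩, fun ⟨x, _, hx⟩ => ⟨x, hx⟩⟩

theorem Ext.dvd_orbit (h : F.Ext p q P) (hg : F.g.Both) (hd : F.lab = labTwo) :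
    128 * h.memM.length ∣ Nat.card G := by
  set K := Subgroup.normalizer (F.NS : Set G) with hK
  set Q := K ⊓ Subgroup.centralizer ({F.t} : Set G) with hQ
  have ht : F.t ∈ F.NS := (Subgroup.le_normalizer : F.S ≤ F.NS) F.t_mem
  have h1 := card_orbit_mul K Q F.t {u | u ∈ cls F.t ∧ u ∈ F.NS} (fun u => by
    constructor
    · rintro ⟨hu, huN⟩
      obtain ⟨g, hgK, e⟩ := h.transit hg hd hu huN
      exact ⟨g⁻¹, inv_mem hgK, by rw [inv_inv]; exact e⟩
    · rintro ⟨k, hk, rfl⟩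
      refine ⟨⟨k, rfl⟩, ?_⟩
      have := (Subgroup.mem_normalizer_iff.1 (inv_mem hk) F.t).1 ht
      rwa [inv_inv] at this) (fun x => by
    rw [hQ, Subgroup.mem_inf, Subgroup.mem_centralizer_singleton_iff])
  have hn : Nat.card {u : G // u ∈ ({u | u ∈ cls F.t ∧ u ∈ F.NS} : Set G)} = F.nIn F.NS := rfl
  rw [hn, h.card_cls_NS hg hd] at h1
  have hS : F.S ≤ Q := le_inf
    (le_trans (Subgroup.le_normalizer : F.S ≤ F.NS) Subgroup.le_normalizer)
    fun x hx => Subgroup.mem_centralizer_singleton_iff.2 (F.commute_t_of_mem hx)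
  have h32 : 32 ∣ Nat.card Q := F.card_S ▸ Subgroup.card_dvd_of_le hS
  refine dvd_trans ?_ (h1 ▸ K.card_subgroup_dvd_card)
  obtain ⟨k, hk⟩ := h32
  exact ⟨k, by rw [hk]; ring⟩

theorem Ext.mem_NS (h : F.Ext p q P) (hg : F.g.Both) (hd : F.lab = labTwo) {u : G}
    (hu : u ∈ F.PG) {w : W2} (e : cj u F.t = F.ce (true, w)) : u ∈ F.NS := by
  obtain ⟨n, hn, hn'⟩ := F.exists_cj_t hg hd w
  exact F.mem_NS_of_PG hg hu (h.NS_le_PG hg hd hn) hn (e.trans hn'.symm)

theorem Ext.cj_t_of_tau {u : G} {w : W2} (e : F.tau u = F.hv false w) :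
    cj u F.t = F.ce (true, w) := by
  rw [cj_t_tau, e, t_hv]
  rfl

theorem Ext.nTau_inner (h : F.Ext p q P) (hg : F.g.Both) (hd : F.lab = labTwo) (w : W2) :
    F.nTau (F.hv false w) = 4 * h.memM.countP (inTau P w) := by
  obtain ⟨hgr, hinj⟩ := h.layer_group hg hd
  rw [← F.card_cls_list h.layer hinj _ h.memM_nodup (h.mem_cls_iff hg hd)]
  refine Nat.card_congr (Equiv.subtypeEquivRight fun u => and_congr_right fun _ => ?_)
  constructor
  · rintro ⟨huA, hut⟩
    have hN := h.mem_NS hg hd (Or.inl huA) (Ext.cj_t_of_tau hut)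
    rw [← hgr] at hN
    obtain ⟨x, rfl⟩ := hN
    refine ⟨x, ?_, rfl⟩
    rw [h.tau_el] at hut
    simp only [inTau, Bool.and_eq_true, decide_eq_true_eq]
    exact ⟨(h.el_mem_AG hg x).1 huA, (F.hv_inj hut).2⟩
  · rintro ⟨x, hx, rfl⟩
    simp only [inTau, Bool.and_eq_true, decide_eq_true_eq] at hx
    exact ⟨(h.el_mem_AG hg x).2 hx.1, by rw [h.tau_el, hx.2]⟩

/-- The conjugates of `t` in the translations extended by `c₁`. -/
theorem Ext.card_cls_PG (h : F.Ext p q P) (hg : F.g.Both) (hd : F.lab = labTwo) :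
    F.nIn F.PG = 4 * h.memM.length + 8 * h.memM.countP (inTau P (true, false)) +
      8 * h.memM.countP (inTau P (false, true)) := by
  classical
  have hsplit : ∀ u : G, u ∈ cls F.t → u ∈ F.PG →
      u ∈ F.NS ∨ (u ∈ F.AG ∧ ∃ w, F.tau u = F.hv true w) := by
    intro u hu hP
    rcases hP with hA | hC
    · obtain ⟨j, w, e⟩ := F.tau_mem hA
      cases j
      · exact Or.inl (h.mem_NS hg hd (Or.inl hA) (Ext.cj_t_of_tau e.symm))
      · exact Or.inr ⟨hA, w, e.symm⟩
    · obtain ⟨w, e⟩ := F.cj_t_of_cls hu hC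
      exact Or.inl (h.mem_NS hg hd (Or.inr hC) e)
  have hdisj : ∀ u : G, u ∈ F.NS → ∀ w, F.tau u ≠ F.hv true w := fun u hu w e => by
    obtain ⟨w', hw'⟩ := F.cj_t hg hd hu
    rw [cj_t_tau, e, t_hv] at hw'
    exact absurd (F.el_injective hw') (by simp [C3.lbl, cenV])
  let f : {u : G // u ∈ cls F.t ∧ u ∈ F.NS} ⊕
      (Σ w : W2, {u : G // u ∈ cls F.t ∧ u ∈ F.AG ∧ F.tau u = F.hv true w}) →
      {u : G // u ∈ cls F.t ∧ u ∈ F.PG} :=
    Sum.elim (fun u => ⟨u.1, u.2.1, h.NS_le_PG hg hd u.2.2⟩)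
      (fun u => ⟨u.2.1, u.2.2.1, Or.inl u.2.2.2.1⟩)
  have hf : Function.Bijective f := by
    refine ⟨fun x y e => ?_, fun ⟨u, hu, hP⟩ => ?_⟩
    · have e' : (f x).1 = (f y).1 := congrArg Subtype.val e
      rcases x with ⟨x, hx⟩ | ⟨w, x, hx⟩ <;> rcases y with ⟨y, hy⟩ | ⟨w', y, hy⟩ <;>
        simp only [f, Sum.elim_inl, Sum.elim_inr] at e' <;> subst e'
      · rfl
      · exact absurd hy.2.2 (hdisj _ hx.2 _)
      · exact absurd hx.2.2 (hdisj _ hy.2 _)
      · obtain ⟨-, rfl⟩ := F.hv_inj (hx.2.2.symm.trans hy.2.2)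
        rfl
    · rcases hsplit u hu hP with hN | ⟨hA, w, e⟩
      · exact ⟨Sum.inl ⟨u, hu, hN⟩, rfl⟩
      · exact ⟨Sum.inr ⟨w, u, hu, hA, e⟩, rfl⟩
  obtain ⟨s, st, sb, sH, s1, s2, s3, s4⟩ := F.exists_sigma
  have s5 : cj s (F.hv true (false, true)) = F.hv false (true, false) := by
    rw [show F.hv true (false, true) = F.hv true (false, false) * F.hv false (false, true) by
      rw [hv_mul]; rfl, cj_mul, s2, s3, hv_mul]
    rfl
  have s6 : cj s (F.hv true (true, false)) = F.hv false (false, true) := by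
    rw [show F.hv true (true, false) = F.hv true (false, false) * F.hv false (true, false) by
      rw [hv_mul]; rfl, cj_mul, s2, s1, hv_mul]
    rfl
  have le := F.nTau_le st sb sH
  have a1 := le (F.hv false (true, false)); rw [s1] at a1
  have a2 := le (F.hv true (false, false)); rw [s2] at a2
  have a3 := le (F.hv true (false, true)); rw [s5] at a3
  have z1 := le (F.hv false (false, true)); rw [s3] at z1
  have z2 := le (F.hv true (true, true)); rw [s4] at z2
  have z3 := le (F.hv true (true, false)); rw [s6] at z3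
  have hW : (Finset.univ : Finset W2) =
      {(false, false), (false, true), (true, false), (true, true)} := by decide
  rw [nIn, ← Nat.card_congr (Equiv.ofBijective f hf), Nat.card_sum, Nat.card_sigma, hW,
    Finset.sum_insert (by decide), Finset.sum_insert (by decide), Finset.sum_insert (by decide),
    Finset.sum_singleton]
  have hNS : Nat.card {u : G // u ∈ cls F.t ∧ u ∈ F.NS} = 4 * h.memM.length :=
    h.card_cls_NS hg hd
  have ha := h.nTau_inner hg hd (true, false)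
  have hz := h.nTau_inner hg hd (false, true)
  simp only [nTau] at a1 a2 a3 z1 z2 z3 ha hz
  omega

theorem Ext.memM_perm (h : F.Ext p q P) {l : List V5} (hl : (baseF ++ l).Nodup)
    (hiff : ∀ v, v ∈ h.outO ↔ v ∈ l) : h.memM.Perm (baseF ++ l) :=
  (List.perm_ext_iff_of_nodup h.memM_nodup hl).2 fun v => by
    simp only [Ext.memM, List.mem_append, hiff]

end Fr

end CfsgLib.InvTwoS6
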