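import Cfsg.Agent.Lib.InvTwoS6.FourImage
import Cfsg.Agent.Lib.InvTwoS6.Blocks

/-!
# The configuration with twelve cosets
-/

set_option autoImplicit false

namespace CfsgLib.InvTwoS6

theorem twelve_fix : ∀ (v : V5) (j : Bool), v.1.1.2 = false →
    bilF parTwelve v ((((false, j), false), false), false) = (false, false) := by
  decide +kernel

theorem twelve_counts : (baseF ++ addTwelve).Nodup ∧ (baseF ++ addTwelve).length = 12 ∧
    (baseF ++ addTwelve).countP (inTau parTwelve (true, false)) = 2 ∧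
    (baseF ++ addTwelve).countP (inTau parTwelve (false, true)) = 2 := by
  decide +kernel

theorem twelve_block : ((baseF ++ addTwelve).all fun u => (baseF ++ addTwelve).all fun v =>
    decide (u.1.1.2 = true) || decide (v.1.1.2 = true) || !decide (u.1.2 = v.1.2) ||
      !decide (u.2 = v.2) || (let s := add5 u v
        !s.1.1.1.1 && !s.1.1.2 && !s.1.2 && !s.2)) = true := by
  decide +kernel

theorem Gens.b_rep {L : Type*} [Group L] {g : Gens L} (hs : g.Side) {n : Fin 5}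
    (h : IsConj g.b (g.rep n)) : n = 2 ∨ n = 4 := by
  fin_cases n <;> simp only [Gens.rep] at h
  · exfalso
    refine hs.ncaz ?_
    have hb : g.a * g.z = 1 := isConj_one_left.1 h
    rw [show g.a = g.z by rw [eq_inv_of_mul_eq_one_left hb, hs.z_inv]]
  · exact absurd h.symm hs.ncab
  · exact Or.inl rfl
  · exact absurd h hs.ncbz
  · exact Or.inr rfl

theorem Gens.a_rep {L : Type*} [Group L] {g : Gens L} (hs : g.Side) {n : Fin 5}
    (h : IsConj g.a (g.rep n)) : n = 1 ∨ n = 4 := by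
  fin_cases n <;> simp only [Gens.rep] at h
  · exfalso
    obtain ⟨s, sa, -⟩ := hs.sgn
    rw [isConj_one_left.1 h, map_one] at sa
    exact absurd sa (by decide)
  · exact Or.inl rfl
  · exact absurd h hs.ncab
  · exact absurd h hs.ncaz
  · exact Or.inr rfl

theorem tau_exit : ∀ x : Bool × W2, x.1 = false ∨ (sgm x).1 = false ∨ (sgm (sgm x)).1 = false := by
  decide

namespace Fr

variable {G : Type*} [Group G] {L : Type*} [Group L] {F : Fr G L} [Finite G]
variable {p q : G}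

/-- Membership in `⟨a, z⟩`. -/
def InW (F : Fr G L) (y : G) : Prop := ∃ w, wv F.a F.z w = y

theorem InW.mem_H1 {y : G} (h : InW F y) : y ∈ F.H1 := by
  obtain ⟨w, rfl⟩ := h
  exact ⟨false, w, by rw [hv_eq]; simp⟩

theorem InW.mul {x y : G} (hx : InW F x) (hy : InW F y) : InW F (x * y) := by
  obtain ⟨w, rfl⟩ := hx
  obtain ⟨w', rfl⟩ := hy
  exact ⟨_, (wv_mul F.rel.ha F.rel.hz F.rel.haz w w').symm⟩

theorem inW_wv (w : W2) : InW F (wv F.a F.z w) := ⟨w, rfl⟩

/-- An element exchanging `t` and `x` modulo `⟨a, z⟩`. -/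
structure Exchange (F : Fr G L) (x h : G) : Prop where
  hW : ∀ y, InW F y → InW F (cj h y)
  hA : InW F (F.A⁻¹ * cj h F.A)
  hC : InW F (F.C⁻¹ * cj h F.C)
  ht : InW F (x⁻¹ * cj h F.t)
  hx : InW F (F.t⁻¹ * cj h x)

theorem inW_swap (hB : F.g.swap.Side) {y : G} : InW (F.swap hB) y ↔ InW F y := by
  have e : ∀ w : W2, wv (F.swap hB).a (F.swap hB).z w = wv F.a F.z (w.1, xor w.1 w.2) := fun w => by
    rw [swap_a, swap_z, b_eq]
    obtain ⟨l, m⟩ := w
    cases l <;> cases m <;> simp [wv, mul_assoc, F.rel.hz]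
  constructor
  · rintro ⟨w, rfl⟩
    exact ⟨_, (e w).symm⟩
  · rintro ⟨⟨l, m⟩, rfl⟩
    refine ⟨(l, xor l m), ?_⟩
    rw [e]
    cases l <;> cases m <;> rfl

theorem Exchange.swapped {x h : G} (hE : Exchange F x h) (hB : F.g.swap.Side) :
    Exchange (F.swap hB) x h := by
  have ha : InW F F.a := ⟨(true, false), by simp [wv]⟩
  have hi : ∀ y, InW F y → InW F y⁻¹ := fun y ⟨w, hw⟩ => by
    refine ⟨w, ?_⟩
    rw [← hw]
    refine (inv_eq_of_mul_eq_one_right ?_).symm
    rw [wv_mul F.rel.ha F.rel.hz F.rel.haz]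
    simp [W2.add, wv]
  refine ⟨fun y hy => (inW_swap hB).2 (hE.hW y ((inW_swap hB).1 hy)), (inW_swap hB).2 ?_,
    (inW_swap hB).2 ?_, (inW_swap hB).2 hE.ht, (inW_swap hB).2 hE.hx⟩
  · rw [swap_A, cj_mul, mul_inv_rev,
      show F.a⁻¹ * F.C⁻¹ * (cj h F.C * cj h F.a) = F.a⁻¹ * (F.C⁻¹ * cj h F.C) * cj h F.a by group]
    exact ((hi _ ha).mul hE.hC).mul (hE.hW _ ha)
  · rw [swap_C, cj_mul, mul_inv_rev,
      show F.a⁻¹ * F.A⁻¹ * (cj h F.A * cj h F.a) = F.a⁻¹ * (F.A⁻¹ * cj h F.A) * cj h F.a by group]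
    exact ((hi _ ha).mul hE.hA).mul (hE.hW _ ha)

variable (h : F.Ext p q parTwelve) (hg : F.g.Both) (hd : F.lab = labTwo)
include h hg hd

theorem Ext.exit {u : G} (huA : u ∈ F.AG) :
    ∃ c : G, cj c F.t = F.t ∧ cj c F.b = F.b ∧ (∀ k ∈ F.H1, cj c k ∈ F.H1) ∧
      ∃ x : V5 × W2, x.1.1.1.2 = false ∧ h.layer.el x = cj c u := by
  obtain ⟨s, st, sb, sH, s1, s2, s3, -⟩ := F.exists_sigma
  have hdec : ∀ y : Bool × W2, cj s (F.hv y.1 y.2) = F.hv (sgm y).1 (sgm y).2 := by
    rintro ⟨j, l, m⟩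
    have hd' : F.hv j (l, m) = pw (F.hv true (false, false)) j *
        (pw (F.hv false (true, false)) l * pw (F.hv false (false, true)) m) := by
      cases j <;> cases l <;> cases m <;> simp [hv_mul, W2.add, hv_one]
    rw [hd', cj_mul, cj_mul, cj_pw, cj_pw, cj_pw, s1, s2, s3]
    cases j <;> cases l <;> cases m <;> simp [hv_mul, W2.add, hv_one, sgm]
  have fin : ∀ (c : G) (w : W2), cj c F.t = F.t → cj c F.b = F.b →
      (∀ k ∈ F.H1, cj c k ∈ F.H1) → cj c (F.tau u) = F.hv false w →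
      ∃ x : V5 × W2, x.1.1.1.2 = false ∧ h.layer.el x = cj c u := by
    intro c w ct cb cH e
    obtain ⟨hcA, hct⟩ := F.cj_conj_AG ct cb cH huA
    rw [e] at hct
    have hN := h.mem_NS hg hd (Or.inl hcA) (Ext.cj_t_of_tau hct)
    rw [← (h.layer_group hg hd).1] at hN
    obtain ⟨x, hx⟩ := hN
    exact ⟨x, by have := (h.el_mem_AG hg x).1 (hx ▸ hcA); simpa [parTwelve] using this, hx⟩
  obtain ⟨j, w, e⟩ := F.tau_mem huA
  rcases tau_exit (j, w) with hh | hh | hh
  · refine ⟨1, by simp [cj], by simp [cj], fun k hk => by simpa [cj] using hk, fin 1 w (by simp [cj])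
      (by simp [cj]) (fun k hk => by simpa [cj] using hk) ?_⟩
    obtain rfl : j = false := hh
    rw [← e]; simp [cj]
  · exact ⟨s, st, sb, sH, fin s (sgm (j, w)).2 st sb sH (by rw [← e, hdec (j, w), hh])⟩
  · have t2 : cj (s * s) F.t = F.t := by rw [← cj_cj, st, st]
    have b2 : cj (s * s) F.b = F.b := by rw [← cj_cj, sb, sb]
    have H2 : ∀ k ∈ F.H1, cj (s * s) k ∈ F.H1 := fun k hk => by
      rw [← cj_cj]; exact sH _ (sH _ hk)
    exact ⟨s * s, t2, b2, H2, fin (s * s) (sgm (sgm (j, w))).2 t2 b2 H2 (by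
      rw [← e, ← cj_cj, hdec (j, w), hdec, hh])⟩

theorem Ext.elem : F.Elem := by
  intro g hgA
  obtain ⟨c, -, -, cH, x, hx, e⟩ := h.exit hg hd hgA
  have hfix : ∀ k ∈ F.H1, cj (cj c g) k = k := by
    rintro _ ⟨j, w, rfl⟩
    rw [← e]
    apply cj_of_comm
    rw [Fr.hv, lH, ← h.layer_inner, h.comm_iff hg hd]
    exact twelve_fix _ _ hx
  have hsq : cj c g * cj c g ∈ F.H1 := by
    rw [← e, Layer.el_mul]
    refine ⟨false, (h.layer.mul x x).2, ?_⟩
    rw [Fr.hv, lH, ← h.layer_inner]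
    congr 1
    refine Prod.ext ?_ rfl
    simp [Layer.mul, h.layer_add, add5_self]
  have hback : ∀ k ∈ F.H1, cj c⁻¹ k ∈ F.H1 := fun k hk =>
    (Subgroup.mem_normalizer_iff.1 (inv_mem (mem_normalizer_of_maps cH)) k).1 hk
  refine ⟨fun k hk => ?_, ?_⟩
  · have := hfix _ (cH k hk)
    rw [show cj (cj c g) (cj c k) = cj c (cj g k) by simp only [cj]; group] at this
    exact cj_inj this
  · have := hback _ hsq
    rwa [← cj_mul, cj_cj, inv_mul_cancel, show cj 1 (g * g) = g * g by simp [cj]] at this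

theorem Ext.oneBlock (hiff : ∀ v, v ∈ h.outO ↔ v ∈ addTwelve) : F.OneBlock := by
  intro u v hu huA hv hvA heq
  have hperm := h.memM_perm twelve_counts.1 hiff
  obtain ⟨c, ct, cb, cH, x, hx, e⟩ := h.exit hg hd huA
  obtain ⟨hcv, hcvt⟩ := F.cj_conj_AG ct cb cH hvA
  obtain ⟨hcu, hcut⟩ := F.cj_conj_AG ct cb cH huA
  have hte : F.tau (cj c v) = F.tau (h.layer.el x) := by rw [hcvt, ← heq, ← hcut, e]
  rw [h.tau_el] at hte
  have hN := h.mem_NS hg hd (Or.inl hcv) (Ext.cj_t_of_tau hte)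
  rw [← (h.layer_group hg hd).1] at hN
  obtain ⟨y, hy⟩ := hN
  have hy' : y.1.1.1.2 = false := by
    have := (h.el_mem_AG hg y).1 (hy ▸ hcv); simpa [parTwelve] using this
  rw [← hy, h.tau_el] at hte
  have hw := (F.hv_inj hte).2
  simp only [Prod.mk.injEq] at hw
  have hxM := (hperm.mem_iff).1 ((h.mem_cls_iff hg hd x.1 x.2).1
    (show h.layer.el x ∈ _ from e ▸ cj_mem_cls hu))
  have hyM := (hperm.mem_iff).1 ((h.mem_cls_iff hg hd y.1 y.2).1
    (show h.layer.el y ∈ _ from hy ▸ cj_mem_cls hv))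
  have hb := twelve_block
  simp only [List.all_eq_true, Bool.or_eq_true, Bool.and_eq_true, Bool.not_eq_true',
    decide_eq_false_iff_not, decide_eq_true_eq] at hb
  have h2 : x.1.2 = y.1.2 := hw.2.symm
  have h1 : x.1.1.2 = y.1.1.2 := by
    have := hw.1
    revert this h2
    cases x.1.2 <;> cases y.1.2 <;> cases x.1.1.2 <;> cases y.1.1.2 <;> simp
  rcases hb _ hxM _ hyM with (((hh | hh) | hh) | hh) | hh
  · rw [hx] at hh; exact absurd hh (by decide)
  · rw [hy'] at hh; exact absurd hh (by decide)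
  · exact absurd h1 hh
  · exact absurd h2 hh
  · obtain ⟨⟨⟨ht0, hk0⟩, hp0⟩, hq0⟩ := hh
    have hm : cj c (u⁻¹ * v) ∈ F.H1 := by
      have hinv : cj c u⁻¹ = cj c u := by
        rw [inv_eq_of_mul_eq_one_right (sq_of_mem_cls F.sq hu)]
      rw [cj_mul, hinv, ← e, ← hy, Layer.el_mul]
      refine ⟨(h.layer.mul x y).1.1.1.1.2, (h.layer.mul x y).2, ?_⟩
      rw [Fr.hv, lH, ← h.layer_inner]
      congr 1
      refine Prod.ext ?_ rfl
      show _ = add5 x.1 y.1
      rw [show (h.layer.mul x y).1 = add5 x.1 y.1 from rfl]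
      generalize hs : add5 x.1 y.1 = s at ht0 hk0 hp0 hq0 ⊢
      obtain ⟨⟨⟨⟨i, j⟩, k⟩, π⟩, κ⟩ := s
      simp only at ht0 hk0 hp0 hq0
      subst ht0 hk0 hp0 hq0
      rfl
    have := (Subgroup.mem_normalizer_iff.1 (inv_mem (mem_normalizer_of_maps cH)) _).1 hm
    rwa [show c⁻¹ * cj c (u⁻¹ * v) * c⁻¹⁻¹ = u⁻¹ * v by simp only [cj]; group] at this

theorem Ext.fix_b_of_LG {c : G} (hcL : c ∈ F.LG) (hct : cj c F.t = F.t) : cj c F.b = F.b := by
  obtain ⟨i, l, rfl⟩ := F.cent c (comm_of_cj hct)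
  obtain ⟨j, w, e⟩ := F.LG_H1 hcL (show F.b ∈ F.H1 by rw [b_hv]; exact F.hv_mem _ _)
  rw [show F.b = F.ρ F.g.b from rfl, cj_pw_rho] at e
  have e1 : F.hv j w = F.ρ (F.g.uf ((j, false), w)) := by
    rw [map_uf, hv_eq]; simp
  rw [e1] at e
  have hcj : IsConj F.g.b (F.g.uf ((j, false), w)) := isConj_iff.2 ⟨l, (F.inj e).symm⟩
  have hk := hg.codes j false w (by simp)
  have h2 := hcj.trans hk.symm
  have key : j = false ∧ w = (true, true) := by
    have h3 := Gens.b_rep F.side h2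
    revert h3
    obtain ⟨w1, w2⟩ := w
    cases j <;> cases w1 <;> cases w2 <;> decide
  obtain ⟨rfl, rfl⟩ := key
  rw [show F.b = F.ρ F.g.b from rfl, cj_pw_rho, ← e, map_uf]
  simp [wv]
  exact F.b_eq.symm

theorem Ext.stab_pair {x : G} (hxA : x ∈ F.AG) (hE : F.Elem)
    (hx : F.tau x = F.hv false (true, false) ∨ F.tau x = F.hv false (false, true))
    {l : G} (hl : l ∈ F.StT) (hlx : x⁻¹ * cj l x ∈ F.H1) : l ∈ F.PG := by
  obtain ⟨hlL, hlt⟩ := hl
  obtain ⟨g, hgA, hgt⟩ := h.tau_surj hlt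
  set c := g⁻¹ * l with hc
  have hcL : c ∈ F.LG := mul_mem (inv_mem (F.AG_le_LG hgA)) hlL
  have hct : cj c F.t = F.t := by
    have e : cj g F.t = cj l F.t := by
      rw [cj_t_tau, hgt, mul_inv_cancel_left]
    rw [hc, ← cj_cj, ← e, cj_cj, inv_mul_cancel]; simp [cj]
  have hcb := Ext.fix_b_of_LG h hg hd hcL hct
  -- the translation of `x` is fixed
  have hfix : cj c (F.tau x) = F.tau x := by
    rw [← (F.cj_conj_AG hct hcb (fun k hk => F.LG_H1 hcL hk) hxA).2]
    have h1 := hE.blk (inv_mem hgA) hxA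
    have h2 := F.blk_cj (g := g⁻¹) (fun k hk => F.cj_AG_H1 (inv_mem hgA) hk) hlx
    have h3 := mul_mem h1 h2
    rw [mul_assoc, mul_inv_cancel_left, cj_cj] at h3
    rw [← F.tau_mul_H1 x h3, mul_inv_cancel_left]
  have ha : cj c (F.hv false (true, false)) = F.hv false (true, false) ∧
      cj c (F.hv false (false, true)) = F.hv false (false, true) := by
    rcases hx with e | e <;> rw [e] at hfix
    · refine ⟨hfix, ?_⟩
      rw [show F.hv false (false, true) = F.hv false (true, false) * F.b by rw [hv_b]; rfl, cj_mul,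
        hfix, hcb]
    · refine ⟨?_, hfix⟩
      rw [show F.hv false (true, false) = F.hv false (false, true) * F.b by rw [hv_b]; rfl, cj_mul,
        hfix, hcb]
  obtain ⟨hCt, hCb, hC⟩ := F.C_data
  have hmk : ∀ c' : G, cj c' F.t = F.t → cj c' F.b = F.b →
      cj c' (F.hv false (true, false)) = F.hv false (true, false) →
      cj c' (F.hv false (false, true)) = F.hv false (false, true) →
      cj c' F.A = F.A → c' ∈ F.AG := by
    intro c' ct cb ca cz cA
    refine ⟨cb, ⟨1, one_mem _, by rw [ct, mul_one]⟩, ?_⟩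
    rintro _ ⟨j, ⟨l1, m1⟩, rfl⟩
    left
    have e1 : F.hv false (true, false) = F.a := by simp [hv_eq, wv]
    have e2 : F.hv false (false, true) = F.z := by simp [hv_eq, wv]
    rw [e1] at ca; rw [e2] at cz
    rw [hv_eq, wv, cj_mul, cj_mul, cj_pw, cj_pw, cj_pw, ca, cz, cA]
  -- the image of `a₁`
  obtain ⟨j, w, eA⟩ := F.LG_H1 hcL (show F.A ∈ F.H1 from ⟨true, (false, false), by simp [hv_eq]⟩)
  obtain ⟨i, m, hm⟩ := F.cent c (comm_of_cj hct)
  have hA2 : (j, w) = (true, (false, false)) ∨ (j, w) = (true, (false, true)) := by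
    have e1 : F.hv j w = F.ρ (F.g.uf ((j, false), w)) := by rw [map_uf, hv_eq]; simp
    have e2 := eA
    rw [← hm, show F.A = F.ρ F.g.a1 from rfl, cj_pw_rho, e1] at e2
    have hcj : IsConj F.g.a1 (F.g.uf ((j, false), w)) := isConj_iff.2 ⟨m, (F.inj e2).symm⟩
    have h0 := (F.classA hg).1
    rw [show F.g.uf ((true, false), (false, false)) = F.g.a1 by simp [Gens.uf, wv]] at h0
    have h2 := (h0.trans hcj).trans (hg.codes j false w (by simp)).symm
    have hne : (j, w) ≠ (false, (true, false)) := fun e => by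
      simp only [Prod.mk.injEq] at e
      obtain ⟨rfl, rfl⟩ := e
      rw [← ha.1] at eA
      have e3 : F.A = F.hv false (true, false) := cj_inj eA.symm
      rw [show F.A = F.hv true (false, false) by simp [hv_eq]] at e3
      exact absurd (F.hv_inj e3).1 (by decide)
    have h3 := Gens.a_rep F.side h2
    obtain ⟨w1, w2⟩ := w
    revert h3 hne
    cases j <;> cases w1 <;> cases w2 <;> decide
  have hl' : l = g * c := (mul_inv_cancel_left g l).symm
  have hgP : g ∈ F.PG := Or.inl hgA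
  rw [hl']
  refine mul_mem hgP ?_
  rcases hA2 with e | e <;> simp only [Prod.mk.injEq] at e <;> obtain ⟨rfl, rfl⟩ := e
  · exact Or.inl (hmk c hct hcb ha.1 ha.2 (eA.symm.trans (by simp [hv_eq])))
  · refine Or.inr (hmk _ (by rw [← cj_cj, hct, hCt]) (by rw [← cj_cj, hcb, hCb]) ?_ ?_ ?_)
    · rw [← cj_cj, ha.1, hC]; rfl
    · rw [← cj_cj, ha.2, hC]; rfl
    · rw [← cj_cj, ← eA, hC, hv_eq]; simp [W2.add]

theorem Ext.twelve_core (hG : NoTwo G) (hiff : ∀ v, v ∈ h.outO ↔ v ∈ addTwelve) {x g : G}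
    (hxc : x ∈ cls F.t) (hxA : x ∈ F.AG)
    (hx : F.tau x = F.hv false (true, false) ∨ F.tau x = F.hv false (false, true))
    (hX : Exchange F x g) : False := by
  classical
  obtain ⟨hnd, hlen, cA, cZ⟩ := twelve_counts
  have hperm := h.memM_perm hnd hiff
  have hE := h.elem hg hd
  have hH : ∀ k ∈ F.H1, cj g k ∈ F.H1 := by
    rintro _ ⟨j, w, rfl⟩
    rw [hv_eq, cj_mul, cj_pw]
    refine mul_mem ?_ (hX.hW _ (inW_wv w)).mem_H1
    cases j
    · exact one_mem _
    · have hA : F.A ∈ F.H1 := ⟨true, (false, false), by simp [hv_eq]⟩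
      have := mul_mem hA hX.hA.mem_H1
      rwa [mul_inv_cancel_left] at this
  have hgL : g ∈ F.LG := hE.mem_LG hxA hH hX.ht.mem_H1 hX.hx.mem_H1
  -- a subgroup of order 512
  have hmapS : ∀ l ∈ F.PG, cj g l ∈ F.PG := by
    intro l hl
    have hlS := F.PG_le_StT hl
    have hlx : x⁻¹ * cj l x ∈ F.H1 := by
      rcases hl with hlA | hlC
      · exact hE.blk hlA hxA
      · have h1 := hE.blk hlC hxA
        obtain ⟨hCt, hCb, hC⟩ := F.C_data
        have hCH : ∀ k ∈ F.H1, cj F.C k ∈ F.H1 := by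
          rintro _ ⟨j, w, rfl⟩; rw [hC]; exact F.hv_mem _ _
        obtain ⟨hcx, hcxt⟩ := F.cj_conj_AG hCt hCb hCH hxA
        have hsame : cj F.C (F.tau x) = F.tau x := by
          rcases hx with e | e <;> rw [e, hC] <;> rfl
        have h2 := h.oneBlock hg hd hiff x (cj F.C x) hxc hxA (cj_mem_cls hxc) hcx
          (by rw [hcxt, hsame])
        have h3 := mul_mem h2 (hCH _ h1)
        rw [show x⁻¹ * cj F.C x * cj F.C (x⁻¹ * cj (F.C * l) x) =
          x⁻¹ * cj (F.C * (F.C * l)) x by simp only [cj]; group,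
          ← mul_assoc, F.rel.hC, one_mul] at h3
        exact h3
    have gi : g⁻¹ ∈ F.LG := inv_mem hgL
    have hgiH : ∀ k ∈ F.H1, cj g⁻¹ k ∈ F.H1 := fun k hk => F.LG_H1 gi hk
    -- images of the two cosets
    have k2 : x⁻¹ * cj g F.t ∈ F.H1 := hX.ht.mem_H1
    have k1 : F.t⁻¹ * cj g x ∈ F.H1 := hX.hx.mem_H1
    have step : ∀ {u v : G}, u⁻¹ * cj g v ∈ F.H1 → v⁻¹ * cj l v ∈ F.H1 →
        u⁻¹ * cj (cj g l) u ∈ F.H1 := by
      intro u v huv hlv
      have hlH : ∀ k ∈ F.H1, cj (cj g l) k ∈ F.H1 := fun k hk =>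
        F.LG_H1 (mul_mem (mul_mem hgL (F.StT_le_LG hlS)) gi) hk
      have a1 := F.blk_cj hH hlv
      rw [show cj g (cj l v) = cj (cj g l) (cj g v) by simp only [cj]; group] at a1
      have hvu : (cj g v)⁻¹ * u ∈ F.H1 := by
        have := inv_mem huv
        rwa [mul_inv_rev, inv_inv] at this
      have a2 := F.blk_cj hlH hvu
      have := mul_mem (mul_mem huv a1) a2
      rwa [show u⁻¹ * cj g v * ((cj g v)⁻¹ * cj (cj g l) (cj g v)) *
        ((cj (cj g l) (cj g v))⁻¹ * cj (cj g l) u) = u⁻¹ * cj (cj g l) u by group] at this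
    refine h.stab_pair hg hd hxA hE hx ⟨mul_mem (mul_mem hgL (F.StT_le_LG hlS)) gi, step k1 hlx⟩ ?_
    exact step k2 hlS.2
  have hg2 : g * g ∈ F.PG := by
    have k2 : x⁻¹ * cj g F.t ∈ F.H1 := hX.ht.mem_H1
    have k1 : F.t⁻¹ * cj g x ∈ F.H1 := hX.hx.mem_H1
    refine h.stab_pair hg hd hxA hE hx ⟨mul_mem hgL hgL, ?_⟩ ?_
    · have := mul_mem k1 (F.blk_cj hH k2)
      rwa [cj_cj, mul_assoc, mul_inv_cancel_left] at this
    · have := mul_mem k2 (F.blk_cj hH k1)
      rwa [cj_cj, mul_assoc, mul_inv_cancel_left] at this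
  have hgP : g ∉ F.PG := fun hm => by
    have h1 := (F.PG_le_StT hm).2
    have h2 := hX.ht.mem_H1
    have h3 : x⁻¹ * F.t ∈ F.H1 := by
      have := mul_mem h2 (inv_mem h1)
      rwa [mul_inv_rev, inv_inv, mul_assoc, mul_inv_cancel_left] at this
    have h4 := F.tau_mul_H1 x h3
    rw [mul_inv_cancel_left] at h4
    have h5 : F.tau F.t = F.hv false (false, false) := by
      rw [hv_one, tau, cj_of_comm rfl, F.sq]
    rw [h5] at h4
    rcases hx with e | e <;> rw [e] at h4 <;> exact absurd (F.hv_inj h4).2 (by decide)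
  let M : Subgroup G := ofClosed {u | u ∈ F.PG ∨ g⁻¹ * u ∈ F.PG} (Or.inl (one_mem _)) (by
    have hn : g ∈ Subgroup.normalizer (F.PG : Set G) := mem_normalizer_of_maps hmapS
    rintro u (hu | hu) v (hv' | hv')
    · exact Or.inl (mul_mem hu hv')
    · refine Or.inr ?_
      have := mul_mem ((Subgroup.mem_normalizer_iff.1 (inv_mem hn) u).1 hu) hv'
      rwa [inv_inv, show g⁻¹ * u * g * (g⁻¹ * v) = g⁻¹ * (u * v) by group] at this
    · refine Or.inr ?_
      have := mul_mem hu hv'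
      rwa [mul_assoc] at this
    · refine Or.inl ?_
      have := mul_mem (mul_mem ((Subgroup.mem_normalizer_iff.1 hn (g⁻¹ * u)).1 hu) hg2) hv'
      rwa [show g * (g⁻¹ * u) * g⁻¹ * (g * g) * (g⁻¹ * v) = u * v by group] at this)
  have hMcard : Nat.card M = 512 := by
    let f : Bool × F.PG → M := fun u => ⟨pw g u.1 * u.2.1, by
      cases u.1
      · exact Or.inl (by rw [pw_false, one_mul]; exact u.2.2)
      · exact Or.inr (by rw [pw_true, inv_mul_cancel_left]; exact u.2.2)⟩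
    rw [← Nat.card_congr (Equiv.ofBijective f ⟨?_, ?_⟩), Nat.card_prod, h.card_PG256 hg,
      Nat.card_eq_fintype_card, Fintype.card_bool]
    · rintro ⟨i, u, hu⟩ ⟨i', v, hv'⟩ e
      have e' : pw g i * u = pw g i' * v := Subtype.ext_iff.1 e
      cases i <;> cases i' <;> simp only [pw_true, pw_false, one_mul, mul_right_inj] at e'
      · subst e'; rfl
      · exfalso
        apply hgP
        have := mul_mem hu (inv_mem hv')
        rwa [e', mul_inv_cancel_right] at this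
      · exfalso
        apply hgP
        have := mul_mem hv' (inv_mem hu)
        rwa [← e', mul_inv_cancel_right] at this
      · subst e'; rfl
    · rintro ⟨u, hu | hu⟩
      · exact ⟨(false, ⟨u, hu⟩), Subtype.ext (one_mul u)⟩
      · exact ⟨(true, ⟨g⁻¹ * u, hu⟩), Subtype.ext (mul_inv_cancel_left g u)⟩
  have hML : M ≤ F.LG := by
    rintro u (hu | hu)
    · exact F.StT_le_LG (F.PG_le_StT hu)
    · have := mul_mem hgL (F.StT_le_LG (F.PG_le_StT hu))
      rwa [mul_inv_cancel_left] at this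
  -- the orbit
  have hO := F.card_orbT
  rw [← F.card_tauOrb (h.oneBlock hg hd hiff)] at hO
  have h512 : 512 ∣ Nat.card F.LG := hMcard ▸ Subgroup.card_dvd_of_le hML
  -- the stabilizer of a coset
  set Q := F.StT ⊓ Subgroup.centralizer ({F.t} : Set G) with hQ
  have hQe := card_orbit_mul F.StT Q F.t {u | F.t⁻¹ * u ∈ F.H1} (fun u => by
    constructor
    · intro hu
      obtain ⟨k, hk, e⟩ := h.tau_surj hu
      refine ⟨k⁻¹, inv_mem (F.PG_le_StT (Or.inl hk)), ?_⟩
      rw [inv_inv, show k * F.t * k⁻¹ = cj k F.t from rfl, cj_t_tau, e, mul_inv_cancel_left]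
    · rintro ⟨k, hk, rfl⟩
      have := (inv_mem hk).2
      rwa [cj, inv_inv] at this) (fun u => by
    rw [hQ, Subgroup.mem_inf, Subgroup.mem_centralizer_singleton_iff])
  have h8 : Nat.card {u : G // u ∈ ({u | F.t⁻¹ * u ∈ F.H1} : Set G)} = 8 := by
    rw [← card_H1 (F := F)]
    exact Nat.card_congr ((Equiv.mulLeft F.t⁻¹).subtypeEquiv fun u => Iff.rfl)
  rw [h8] at hQe
  obtain ⟨o, ⟨r, hr⟩, -, hCt⟩ := F.exists_odd
  have hQdvd : Nat.card Q ∣ 32 * o := hCt ▸ Subgroup.card_dvd_of_le (inf_le_right)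
  have hQ32 : 32 ∣ Nat.card Q := by
    refine F.card_S ▸ Subgroup.card_dvd_of_le (le_inf ?_ ?_)
    · intro u hu
      exact F.PG_le_StT (h.NS_le_PG hg hd ((Subgroup.le_normalizer : F.S ≤ F.NS) hu))
    · exact fun u hu => Subgroup.mem_centralizer_singleton_iff.2 (F.commute_t_of_mem hu)
  obtain ⟨k, hk⟩ := hQ32
  have hkodd : k % 2 = 1 := by
    rw [hk] at hQdvd
    obtain ⟨c, hc⟩ := Nat.dvd_of_mul_dvd_mul_left (by norm_num) hQdvd
    rcases Nat.mod_two_eq_zero_or_one k with e | e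
    · exfalso
      have : o % 2 = 0 := by
        rw [hc, Nat.mul_mod, e]; simp
      omega
    · exact e
  have hmem0 : ((false, (false, false)) : Bool × W2) ∈ F.tauOrb :=
    Finset.mem_filter.2 ⟨Finset.mem_univ _, 1, one_mem _, by simp [tau, cj, F.sq, hv_one]⟩
  have hmemx : ((false, (true, false)) : Bool × W2) ∈ F.tauOrb ∨
      ((false, (false, true)) : Bool × W2) ∈ F.tauOrb := by
    have e : F.tau (cj g F.t) = F.tau x := by
      have := F.tau_mul_H1 x hX.ht.mem_H1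
      rwa [mul_inv_cancel_left] at this
    rcases hx with e' | e'
    · exact Or.inl (Finset.mem_filter.2 ⟨Finset.mem_univ _, g, hgL, e.trans e'⟩)
    · exact Or.inr (Finset.mem_filter.2 ⟨Finset.mem_univ _, g, hgL, e.trans e'⟩)
  have hsz := sgm_orbits _ F.tauOrb_closed hmem0 hmemx
  have hStT : Nat.card F.StT = 256 * k := by rw [← hQe, hk]; ring
  rw [hStT] at hO
  have h1024 : 1024 ∣ Nat.card G := by
    refine dvd_trans ?_ F.LG.card_subgroup_dvd_card
    obtain ⟨m, hm⟩ := h512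
    rw [← hO] at hm ⊢
    rcases hsz with e | e | e | e <;> rw [e] at hm ⊢
    · exact ⟨k, by ring⟩
    · omega
    · omega
    · exact ⟨2 * k, by ring⟩
  exact F.forbid hG F.PG (by rw [h.card_PG256 hg]; exact h1024) (r := 2) (by
    rw [h.card_cls_PG hg hd, hperm.length_eq, hlen, hperm.countP_eq, cA, hperm.countP_eq, cZ,
      h.card_PG256 hg])

end Fr

end CfsgLib.InvTwoS6
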