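import Cfsg.Agent.Lib.InvTwoS6.Count
import Mathlib.Algebra.Ring.Parity
import Mathlib.Data.Nat.Prime.Pow

/-!
# Orders, Sylow conjugation and the parity rules for an involution `t`
-/

set_option autoImplicit false

namespace CfsgLib.InvTwoS6

theorem isConj_of_mem_cls {X : Type*} [Group X] {x y : X} (h : y ∈ cls x) : IsConj x y := by
  obtain ⟨g, hg⟩ := h
  exact isConj_iff.2 ⟨g⁻¹, by rw [inv_inv]; exact hg⟩

theorem mem_cls_of_isConj {X : Type*} [Group X] {x y : X} (h : IsConj x y) : y ∈ cls x := by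
  obtain ⟨c, hc⟩ := isConj_iff.1 h
  exact ⟨c⁻¹, by rw [inv_inv]; exact hc⟩

namespace Fr

variable {G : Type*} [Group G] {L : Type*} [Group L] (F : Fr G L)

/-- `ρ l` is conjugate to `t`. -/
def InT (l : L) : Prop := F.ρ l ∈ cls F.t

/-- `t ρ l` is conjugate to `t`. -/
def TT (l : L) : Prop := F.t * F.ρ l ∈ cls F.t

theorem conj_rho (c : G) (hc : c * F.t = F.t * c) (l : L) :
    ∃ m : L, c⁻¹ * F.ρ l * c = F.ρ (m⁻¹ * l * m) := by
  obtain ⟨i, m, rfl⟩ := F.cent c hc
  refine ⟨m, ?_⟩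
  cases i
  · simp [map_mul, map_inv]
  · simp only [pw_true, mul_inv_rev, map_mul, map_inv, mul_assoc]
    rw [← mul_assoc (F.ρ l) F.t, ← F.comm, ← mul_assoc F.t⁻¹, ← mul_assoc F.t⁻¹,
      inv_mul_cancel, one_mul]

theorem inT_conj {x y : L} (h : IsConj x y) : F.InT x ↔ F.InT y := by
  obtain ⟨c, rfl⟩ := isConj_iff.1 h
  unfold InT
  rw [map_mul, map_mul, map_inv,
    show F.ρ c * F.ρ x * (F.ρ c)⁻¹ = ((F.ρ c)⁻¹)⁻¹ * F.ρ x * (F.ρ c)⁻¹ by rw [inv_inv],
    conj_mem_cls_iff]

theorem tt_conj {x y : L} (h : IsConj x y) : F.TT x ↔ F.TT y := by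
  obtain ⟨c, rfl⟩ := isConj_iff.1 h
  unfold TT
  rw [show F.t * F.ρ (c * x * c⁻¹) = ((F.ρ c)⁻¹)⁻¹ * (F.t * F.ρ x) * (F.ρ c)⁻¹ by
      rw [inv_inv, map_mul, map_mul, map_inv, ← mul_assoc, ← mul_assoc, F.comm c]; group,
    conj_mem_cls_iff]

theorem sq_of_inT {x : L} (h : F.InT x) : x * x = 1 :=
  F.inj (by rw [map_mul, map_one]; exact sq_of_mem_cls F.sq h)

theorem sq_of_tt {x : L} (h : F.TT x) : x * x = 1 :=
  F.inj (by
    have h' := sq_of_mem_cls F.sq h
    rw [show F.t * F.ρ x * (F.t * F.ρ x) = F.t * (F.ρ x * F.t) * F.ρ x by group, ← F.comm,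
      ← mul_assoc, F.sq, one_mul] at h'
    rw [map_mul, map_one]; exact h')

theorem tt_one : F.TT 1 := by
  unfold TT
  rw [map_one, mul_one]
  exact self_mem_cls _

theorem not_inT_z : ¬ F.InT F.g.z := F.z_notMem

variable [Finite G]

include F in
theorem finite_L : Finite L := Finite.of_injective _ F.inj

/-- The Sylow 2-subgroup of `L`. -/
def U : Subgroup L := F.S.comap F.ρ

theorem mem_U {x : L} : x ∈ F.U ↔ F.g.InU x := by
  refine ⟨fun h => ?_, F.rho_mem⟩
  obtain ⟨v, hv⟩ := F.mem_S_iff.1 (show F.ρ x ∈ F.S from h)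
  rw [F.el_eq] at hv
  exact ⟨_, (F.pair_inj (j := false) (hv.trans (one_mul _).symm)).2⟩

theorem card_U : Nat.card F.U = 16 := by
  have e : W2 × W2 ≃ F.U := Equiv.ofBijective (fun v => ⟨F.g.uf v, F.mem_U.2 ⟨v, rfl⟩⟩)
    ⟨fun v w h => F.side.inj (Subtype.ext_iff.1 h), fun x => by
      obtain ⟨v, hv⟩ := F.mem_U.1 x.2
      exact ⟨v, Subtype.ext hv⟩⟩
  rw [← Nat.card_congr e, Nat.card_eq_fintype_card]
  rfl

/-- An element centralized by the Sylow 2-subgroup has an odd class. -/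
theorem odd_cls {x : L} (ha : x * F.g.a = F.g.a * x) (h1 : x * F.g.a1 = F.g.a1 * x)
    (hc : x * F.g.c1 = F.g.c1 * x) : Odd (Nat.card {y : L // y ∈ cls x}) := by
  haveI := F.finite_L
  obtain ⟨o, ho, hL⟩ := F.side.cardL
  have hz : x * F.g.z = F.g.z * x := by
    simp only [Gens.z]
    calc x * (F.g.a1 * F.g.c1 * F.g.a1 * F.g.c1) = x * F.g.a1 * F.g.c1 * F.g.a1 * F.g.c1 := by
          simp only [mul_assoc]
      _ = F.g.a1 * (x * F.g.c1) * F.g.a1 * F.g.c1 := by rw [h1]; simp only [mul_assoc]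
      _ = F.g.a1 * F.g.c1 * (x * F.g.a1) * F.g.c1 := by rw [hc]; simp only [mul_assoc]
      _ = F.g.a1 * F.g.c1 * F.g.a1 * (x * F.g.c1) := by rw [h1]; simp only [mul_assoc]
      _ = _ := by rw [hc]; simp only [mul_assoc]
  have hle : F.U ≤ Subgroup.centralizer ({x} : Set L) := fun y hy => by
    obtain ⟨⟨⟨i, j⟩, w⟩, rfl⟩ := F.mem_U.1 hy
    rw [Subgroup.mem_centralizer_singleton_iff]
    have hw := commute_wv (g := x) ha hz w
    have hp : Commute x (pw F.g.a1 i * pw F.g.c1 j) :=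
      Commute.mul_right (by cases i <;> simp [Commute, SemiconjBy, h1])
        (by cases j <;> simp [Commute, SemiconjBy, hc])
    exact ((hp.mul_right hw).eq).symm
  have h16 := Subgroup.card_dvd_of_le hle
  rw [F.card_U] at h16
  obtain ⟨m, hm⟩ := h16
  have h := card_cls_mul x
  rw [hm, hL] at h
  rw [← Nat.not_even_iff_odd]
  intro he
  have : Even o := by
    obtain ⟨r, hr⟩ := he
    refine ⟨r * m, ?_⟩
    rw [hr] at h
    linarith
  exact (Nat.not_even_iff_odd.2 ho) this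

/-- The parity of an invariant set of involutions. -/
theorem card_mod_two (P : L → Prop) (hP : ∀ x y, IsConj x y → (P x ↔ P y))
    (hsq : ∀ x, P x → x * x = 1) [Decidable (P 1)] [Decidable (P F.g.a)] [Decidable (P F.g.b)]
    [Decidable (P F.g.z)] :
    Nat.card {x : L // P x} % 2 = ((if P 1 then 1 else 0) + (if P F.g.a then 1 else 0) +
      (if P F.g.b then 1 else 0) + if P F.g.z then 1 else 0) % 2 := by
  classical
  haveI := F.finite_L
  haveI : Fintype L := Fintype.ofFinite L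
  have hpoint : ∀ x : L, (if P x then 1 else 0) =
      (if x = 1 then (if P 1 then 1 else 0) else 0) +
      (if x ∈ cls F.g.a then (if P F.g.a then 1 else 0) else 0) +
      (if x ∈ cls F.g.b then (if P F.g.b then 1 else 0) else 0) +
      (if x ∈ cls F.g.z then (if P F.g.z then 1 else 0) else (0 : ℕ)) := by
    intro x
    by_cases hx : x * x = 1
    · have one_not : ∀ y : L, y ≠ 1 → (1 : L) ∉ cls y := fun y hy ⟨c, hc⟩ => hy (by
        rw [← mul_left_cancel_iff (a := c⁻¹), mul_one]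
        exact mul_right_cancel (b := c) (hc.trans (inv_mul_cancel c).symm))
      have na : F.g.a ≠ 1 := fun h => F.side.ncab (by
        exact absurd (F.side.inj (show F.g.uf ((false, false), (true, false)) =
          F.g.uf ((false, false), (false, false)) by simp [Gens.uf, wv, h])) (by decide))
      have nz : F.g.z ≠ 1 := fun h => absurd (F.side.inj (show F.g.uf ((false, false), (false, true)) =
          F.g.uf ((false, false), (false, false)) by simp [Gens.uf, wv, h])) (by decide)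
      have nb : F.g.b ≠ 1 := fun h => absurd (F.side.inj (show F.g.uf ((false, false), (true, true)) =
          F.g.uf ((false, false), (false, false)) by
            simpa [Gens.uf, wv, Gens.b] using h)) (by decide)
      have excl : ∀ {y y' : L}, ¬ IsConj y y' → x ∈ cls y → x ∉ cls y' := fun hyy hy hy' =>
        hyy ((isConj_of_mem_cls hy).trans (isConj_of_mem_cls hy').symm)
      rcases F.side.classify x hx with rfl | h | h | h
      · simp [one_not _ na, one_not _ nb, one_not _ nz]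
      · have hm := mem_cls_of_isConj h
        have h1 : x ≠ 1 := fun e => one_not _ na (e ▸ hm)
        simp [hm, h1, excl F.side.ncab hm, excl F.side.ncaz hm, hP _ _ h]
      · have hm := mem_cls_of_isConj h
        have h1 : x ≠ 1 := fun e => one_not _ nb (e ▸ hm)
        simp [hm, h1, excl (fun c => F.side.ncab c.symm) hm, excl F.side.ncbz hm, hP _ _ h]
      · have hm := mem_cls_of_isConj h
        have h1 : x ≠ 1 := fun e => one_not _ nz (e ▸ hm)
        simp [hm, h1, excl (fun c => F.side.ncaz c.symm) hm, excl (fun c => F.side.ncbz c.symm) hm,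
          hP _ _ h]
    · have hn : ∀ y : L, y * y = 1 → x ∉ cls y := fun y hy h => hx (sq_of_mem_cls hy h)
      have h1 : x ≠ 1 := fun e => hx (by rw [e, mul_one])
      simp [h1, hn _ F.side.sq_a, hn _ F.side.sq_b, hn _ F.side.sq_z, show ¬ P x from fun h => hx (hsq x h)]
  have hcount : ∀ (Q : L → Prop) [DecidablePred Q] (k : ℕ),
      (∑ x : L, if Q x then k else 0) = Nat.card {x : L // Q x} * k := by
    intro Q _ k
    rw [← Finset.sum_filter, Finset.sum_const, smul_eq_mul, Nat.card_eq_fintype_card,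
      Fintype.card_subtype]
  have htot : Nat.card {x : L // P x} = ∑ x : L, if P x then 1 else 0 := by
    rw [hcount, mul_one]
  have h1' : Nat.card {x : L // x = (1 : L)} = 1 := Nat.card_unique
  rw [htot, Finset.sum_congr rfl fun x _ => hpoint x, Finset.sum_add_distrib, Finset.sum_add_distrib,
    Finset.sum_add_distrib, hcount, hcount, hcount, hcount, h1']
  have oa := F.odd_cls (x := F.g.a) rfl F.side.comm_a1 F.side.comm_c1
  have oz := F.odd_cls (x := F.g.z) F.side.comm_za.symm F.side.comm_z1 F.side.comm_zc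
  have ob := F.odd_cls (x := F.g.b)
    (by simp only [Gens.b, mul_assoc]; rw [F.side.comm_za.symm])
    (by simp only [Gens.b, mul_assoc]; rw [F.side.comm_z1, ← mul_assoc, F.side.comm_a1, mul_assoc])
    (by simp only [Gens.b, mul_assoc]; rw [F.side.comm_zc, ← mul_assoc, F.side.comm_c1, mul_assoc])
  obtain ⟨ka, hka⟩ := oa
  obtain ⟨kb, hkb⟩ := ob
  obtain ⟨kz, hkz⟩ := oz
  rw [hka, hkb, hkz]
  split_ifs <;> omega

/-- The number of conjugates of `t`. -/
noncomputable def nT : ℕ := Nat.card {u : G // u ∈ cls F.t}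

theorem exists_odd : ∃ o : ℕ, Odd o ∧ Nat.card L = 16 * o ∧
    Nat.card (Subgroup.centralizer ({F.t} : Set G)) = 32 * o := by
  obtain ⟨o, ho, hL⟩ := F.side.cardL
  exact ⟨o, ho, hL, by rw [F.card_cent, hL]; ring⟩

theorem card_G : Nat.card G = F.nT * (2 * Nat.card L) := by
  rw [← F.card_cent]; exact (card_cls_mul F.t).symm

theorem card_cent_conj {u : G} (hu : u ∈ cls F.t) :
    Nat.card (Subgroup.centralizer ({u} : Set G)) = 2 * Nat.card L := by
  obtain ⟨g, rfl⟩ := hu
  have h := card_cls_mul (g⁻¹ * F.t * g)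
  have e : {y : G // y ∈ cls (g⁻¹ * F.t * g)} ≃ {y : G // y ∈ cls F.t} :=
    Equiv.subtypeEquivRight fun y =>
      ⟨fun ⟨c, hc⟩ => ⟨g * c, by rw [← hc]; group⟩, fun ⟨c, hc⟩ => ⟨g⁻¹ * c, by rw [← hc]; group⟩⟩
  rw [Nat.card_congr e, F.card_G] at h
  exact Nat.eq_of_mul_eq_mul_left (Nat.card_pos_iff.2 ⟨⟨⟨F.t, self_mem_cls _⟩⟩, inferInstance⟩) h

/-- A 2-subgroup centralizing a conjugate of `t` has order at most 32. -/
theorem card_le_of_two {u : G} (hu : u ∈ cls F.t) {Q : Subgroup G} {k : ℕ} (hQ : Nat.card Q = 2 ^ k)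
    (hQu : ∀ x ∈ Q, x * u = u * x) : k ≤ 5 := by
  obtain ⟨o, ho, hL⟩ := F.side.cardL
  have hle : Q ≤ Subgroup.centralizer ({u} : Set G) := fun x hx =>
    Subgroup.mem_centralizer_singleton_iff.2 (hQu x hx)
  have h := Subgroup.card_dvd_of_le hle
  rw [hQ, F.card_cent_conj hu, hL] at h
  by_contra hk
  have h64 : 2 ^ 6 ∣ 2 * (16 * o) := dvd_trans (pow_dvd_pow 2 (by omega)) h
  obtain ⟨r, hr⟩ := h64
  obtain ⟨s, hs⟩ := ho
  omega

/-- Burnside's argument: conjugation onto the standard Sylow subgroup. -/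
theorem exists_conj_S {u : G} (hu : u ∈ cls F.t) {Q : Subgroup G} (hQ : Nat.card Q = 32)
    (hQu : ∀ x ∈ Q, x * u = u * x) :
    ∃ g : G, g⁻¹ * F.t * g = u ∧ ∀ x, x ∈ Q ↔ g * x * g⁻¹ ∈ F.S := by
  obtain ⟨g₀, rfl⟩ := hu
  obtain ⟨o, ho, -, hC⟩ := F.exists_odd
  haveI : Fact (Nat.Prime 2) := ⟨Nat.prime_two⟩
  set Q' : Subgroup G := Q.map (MulAut.conj g₀).toMonoidHom with hQ'
  have hQ'card : Nat.card Q' = 2 ^ 5 := by
    rw [hQ', Subgroup.card_map_of_injective (MulAut.conj g₀).injective, hQ]; rfl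
  have hQC : Q' ≤ Subgroup.centralizer ({F.t} : Set G) := by
    rintro _ ⟨x, hx, rfl⟩
    rw [Subgroup.mem_centralizer_singleton_iff]
    show g₀ * x * g₀⁻¹ * F.t = F.t * (g₀ * x * g₀⁻¹)
    calc g₀ * x * g₀⁻¹ * F.t = g₀ * (x * (g₀⁻¹ * F.t * g₀)) * g₀⁻¹ := by group
      _ = F.t * (g₀ * x * g₀⁻¹) := by rw [hQu x hx]; group
  have hSC : F.S ≤ Subgroup.centralizer ({F.t} : Set G) := fun x hx =>
    Subgroup.mem_centralizer_singleton_iff.2 (F.commute_t_of_mem hx)
  obtain ⟨c, hc, hc'⟩ := exists_conj_of_sylow_card (p := 2) (k := 5) (o := o) hC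
    (by obtain ⟨r, rfl⟩ := ho; omega) (F.card_S.trans (by norm_num)) hQ'card hSC hQC
  have hct := Subgroup.mem_centralizer_singleton_iff.1 hc
  refine ⟨c * g₀, ?_, fun x => ?_⟩
  · rw [show (c * g₀)⁻¹ * F.t * (c * g₀) = g₀⁻¹ * (c⁻¹ * (F.t * c)) * g₀ by group, ← hct]
    group
  · rw [show c * g₀ * x * (c * g₀)⁻¹ = c * (g₀ * x * g₀⁻¹) * c⁻¹ by group, ← hc', hQ']
    constructor
    · exact fun hx => ⟨x, hx, rfl⟩
    · rintro ⟨y, hy, e⟩
      have e' : g₀ * y * g₀⁻¹ = g₀ * x * g₀⁻¹ := e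
      rw [mul_left_inj, mul_right_inj] at e'
      exact e' ▸ hy

/-- The number of conjugates of `t` in a subgroup. -/
noncomputable def nIn (H : Subgroup G) : ℕ := Nat.card {u : G // u ∈ cls F.t ∧ u ∈ H}

/-- The parity rule. -/
theorem forbid (hG : NoTwo G) (H : Subgroup G) (h4 : 4 * Nat.card H ∣ Nat.card G) {r : ℕ}
    (hcnt : 32 * F.nIn H = (4 * r + 2) * Nat.card H) : False := by
  obtain ⟨o, ho, -, hC⟩ := F.exists_odd
  have h := mod_four_eq hG H F.sq (F := (4 * r + 2) * o) (by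
    rw [hC, show Nat.card {u : G // u ∈ cls F.t ∧ u ∈ H} = F.nIn H from rfl, mul_right_comm,
      ← hcnt]; ring)
  obtain ⟨m, hm⟩ := h4
  have hidx : H.index = 4 * m := by
    have := H.card_mul_index
    rw [hm, mul_comm 4, mul_assoc] at this
    exact Nat.eq_of_mul_eq_mul_left Nat.card_pos this
  obtain ⟨k, rfl⟩ := ho
  rw [hidx, show (4 * r + 2) * (2 * k + 1) = 4 * (2 * r * k + r + k) + 2 by ring] at h
  omega

/-- The rule for an index congruent to two modulo four. -/
theorem forbid_two (hG : NoTwo G) (H : Subgroup G) {m : ℕ}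
    (h2 : Nat.card G = (4 * m + 2) * Nat.card H) {r : ℕ}
    (hcnt : 32 * F.nIn H = 4 * r * Nat.card H) : False := by
  obtain ⟨o, ho, -, hC⟩ := F.exists_odd
  have h := mod_four_eq hG H F.sq (F := 4 * r * o) (by
    rw [hC, show Nat.card {u : G // u ∈ cls F.t ∧ u ∈ H} = F.nIn H from rfl, mul_right_comm,
      ← hcnt]; ring)
  have hidx : H.index = 4 * m + 2 := by
    have := H.card_mul_index
    rw [h2, mul_comm] at this
    exact Nat.eq_of_mul_eq_mul_right Nat.card_pos this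
  rw [hidx, show 4 * r * o = 4 * (r * o) by ring] at h
  omega

/-- The rule for a subgroup of half the centralizer. -/
theorem parity_half (hG : NoTwo G) (H : Subgroup G) (hH : Nat.card H = Nat.card L) :
    F.nT % 2 = F.nIn H % 2 := by
  obtain ⟨o, ho, hL, hC⟩ := F.exists_odd
  have hpos : 0 < Nat.card H := Nat.card_pos
  have h := mod_four_eq hG H F.sq (F := 2 * F.nIn H) (by
    rw [F.card_cent, hH, show Nat.card {u : G // u ∈ cls F.t ∧ u ∈ H} = F.nIn H from rfl]; ring)
  have hidx : H.index = 2 * F.nT := by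
    have := H.card_mul_index
    rw [F.card_G, ← hH] at this
    exact Nat.eq_of_mul_eq_mul_left hpos (this.trans (by ring))
  rw [hidx] at h
  omega

end Fr

end CfsgLib.InvTwoS6
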