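import Cfsg.Agent.Lib.InvTwoS6.Model
import Mathlib.GroupTheory.OrderOfElement
import Mathlib.Data.Fintype.Prod
import Mathlib.SetTheory.Cardinal.Finite

/-!
# The layers over `⟨a, z⟩`: the generators `t`, `A`, `C`
-/

set_option autoImplicit false

namespace CfsgLib.InvTwoS6

variable {G : Type*} [Group G]

/-- Labels of the first three generators. -/
abbrev V3 := (Bool × Bool) × Bool

/-- A layer: a normal form with a cocycle. -/
structure Layer (V : Type) (w : W2 → G) where
  Φ : V → G
  add : V → V → V
  f : V → V → W2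
  zero : V
  map_zero : Φ zero = 1
  law : ∀ x y, Φ x * Φ y = Φ (add x y) * w (f x y)
  cen : ∀ x k, Φ x * w k = w k * Φ x
  hw : ∀ x y, w x * w y = w (W2.add x y)

namespace Layer

variable {V : Type} {w : W2 → G} (ly : Layer V w)

theorem w_zero (ly : Layer V w) : w (false, false) = 1 := by
  have h := ly.hw (false, false) (false, false)
  simpa [W2.add] using h

/-- The element with a given label. -/
def el (x : V × W2) : G := ly.Φ x.1 * w x.2

/-- Multiplication of labels. -/
def mul (x y : V × W2) : V × W2 :=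
  (ly.add x.1 y.1, W2.add (ly.f x.1 y.1) (W2.add x.2 y.2))

theorem el_mul (x y : V × W2) : ly.el x * ly.el y = ly.el (ly.mul x y) := by
  calc ly.Φ x.1 * w x.2 * (ly.Φ y.1 * w y.2) = ly.Φ x.1 * ly.Φ y.1 * (w x.2 * w y.2) := by
        rw [mul_assoc, ← mul_assoc (w x.2), ← ly.cen y.1 x.2]; simp only [mul_assoc]
    _ = ly.el (ly.mul x y) := by
      rw [ly.law, ly.hw, mul_assoc, ly.hw]; rfl

theorem el_zero : ly.el (ly.zero, (false, false)) = 1 := by
  simp [el, ly.map_zero, ly.w_zero]

/-- The subgroup of all labelled elements. -/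
def group [Finite G] : Subgroup G where
  carrier := Set.range ly.el
  mul_mem' := by
    rintro _ _ ⟨x, rfl⟩ ⟨y, rfl⟩
    exact ⟨ly.mul x y, (ly.el_mul x y).symm⟩
  one_mem' := ⟨_, ly.el_zero⟩
  inv_mem' := by
    rintro _ ⟨x, rfl⟩
    have hpow : ∀ n : ℕ, ly.el x ^ n ∈ Set.range ly.el := by
      intro n
      induction n with
      | zero => exact ⟨_, ly.el_zero.trans (pow_zero _).symm⟩
      | succ n ih =>
        obtain ⟨y, hy⟩ := ih
        exact ⟨ly.mul y x, by rw [pow_succ, ← hy, ly.el_mul]⟩
    have hpos := orderOf_pos (ly.el x)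
    have h1 : (ly.el x)⁻¹ = ly.el x ^ (orderOf (ly.el x) - 1) := by
      apply inv_eq_of_mul_eq_one_right
      rw [← pow_succ', Nat.sub_add_cancel hpos, pow_orderOf_eq_one]
    exact h1 ▸ hpow _

theorem mem_group [Finite G] {g : G} : g ∈ ly.group ↔ ∃ x, ly.el x = g := Iff.rfl

theorem card_group [Finite G] [Fintype V] (h : Function.Injective ly.el) :
    Nat.card ly.group = Fintype.card V * 4 := by
  rw [show Nat.card ly.group = Nat.card (Set.range ly.el) from rfl,
    Nat.card_congr (Equiv.ofInjective _ h).symm, Nat.card_prod, Nat.card_eq_fintype_card,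
    Nat.card_eq_fintype_card]
  rfl

/-- Adding a generator. -/
def extend (g : G) (q : W2) (β : V → W2) (hg : g * g = w q) (hgw : ∀ k, g * w k = w k * g)
    (hβ : ∀ x, g * ly.Φ x = ly.Φ x * g * w (β x)) : Layer (V × Bool) w where
  Φ u := ly.Φ u.1 * pw g u.2
  add u v := (ly.add u.1 v.1, xor u.2 v.2)
  f u v := W2.add (W2.add (ly.f u.1 v.1) (W2.smul u.2 (β v.1))) (W2.smul (u.2 && v.2) q)
  zero := (ly.zero, false)
  map_zero := by simp [ly.map_zero]
  law := step_law ly.hw ly.law hg hgw hβ
  cen := by
    rintro ⟨x, e⟩ k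
    cases e
    · simp [ly.cen]
    · simp only [pw_true]
      rw [mul_assoc, hgw, ← mul_assoc, ly.cen, mul_assoc]
  hw := ly.hw

end Layer

/-- Multiplication of the labels of the first three generators. -/
def mul3 (x y : V3 × W2) : V3 × W2 :=
  (((xor x.1.1.1 y.1.1.1, xor x.1.1.2 y.1.1.2), xor x.1.2 y.1.2),
    W2.add (W2.add (W2.add (W2.add (W2.add (false, false) (W2.smul x.1.1.2 (false, false)))
      (W2.smul (x.1.1.2 && y.1.1.2) (false, false))) (W2.smul x.1.2 (false, y.1.1.2)))
      (W2.smul (x.1.2 && y.1.2) (false, false))) (W2.add x.2 y.2))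

/-- The relations of `⟨t, A, C, a, z⟩`. -/
structure SRel (t A C a z : G) : Prop where
  ht : t * t = 1
  hA : A * A = 1
  hC : C * C = 1
  ha : a * a = 1
  hz : z * z = 1
  haz : a * z = z * a
  ta : t * a = a * t
  tz : t * z = z * t
  Aa : A * a = a * A
  Az : A * z = z * A
  Ca : C * a = a * C
  Cz : C * z = z * C
  At : A * t = t * A
  Ct : C * t = t * C
  CA : C * A = A * C * z

variable {t A C a z : G}

theorem commute_wv {g : G} (h1 : g * a = a * g) (h2 : g * z = z * g) (k : W2) :
    g * wv a z k = wv a z k * g := by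
  obtain ⟨i, j⟩ := k
  cases i <;> cases j <;> simp [wv, h1, h2]
  · rw [← mul_assoc, h1, mul_assoc, h2, mul_assoc]

namespace SRel

variable (h : SRel t A C a z)

/-- One generator. -/
def layer1 : Layer Bool (wv a z) where
  Φ i := pw t i
  add := xor
  f _ _ := (false, false)
  zero := false
  map_zero := rfl
  law i j := by cases i <;> cases j <;> simp [h.ht]
  cen i k := by
    cases i
    · simp
    · exact commute_wv h.ta h.tz k
  hw := wv_mul h.ha h.hz h.haz

/-- Two generators. -/
def layer2 : Layer (Bool × Bool) (wv a z) :=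
  h.layer1.extend A (false, false) (fun _ => (false, false)) (by simp [h.hA])
    (commute_wv h.Aa h.Az) fun i => by
      show A * pw t i = pw t i * A * wv a z (false, false)
      cases i <;> simp [h.At]

/-- The move of `C` on the two generators. -/
def betaC (x : Bool × Bool) : W2 := (false, x.2)

/-- Three generators. -/
def layer3 : Layer V3 (wv a z) :=
  h.layer2.extend C (false, false) betaC (by simp [h.hC]) (commute_wv h.Ca h.Cz) fun x => by
    have h1 : C * A = A * C * wv a z (false, true) := by simpa [wv] using h.CA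
    have h0 : ∀ i : Bool, C * pw t i = pw t i * C * wv a z (false, false) := fun i => by
      cases i <;> simp [h.Ct]
    have := step_beta (wv_mul h.ha h.hz h.haz) (commute_wv h.Aa h.Az) h0 h1 x
    refine this.trans ?_
    congr 2
    obtain ⟨i, j⟩ := x
    cases j <;> rfl

theorem el_mul3 (x y : V3 × W2) :
    h.layer3.el x * h.layer3.el y = h.layer3.el (mul3 x y) := h.layer3.el_mul x y

theorem el3 (x : V3 × W2) :
    h.layer3.el x = pw t x.1.1.1 * pw A x.1.1.2 * pw C x.1.2 * wv a z x.2 := rfl

end SRel

end CfsgLib.InvTwoS6
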