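import Cfsg.Agent.Lib.InvTwoS6.Data

/-!
# Consequences of the properties of the model of the Sylow 2-subgroup
-/

set_option autoImplicit false

namespace CfsgLib.InvTwoS6.Gens

variable {L : Type*} [Group L] {g : Gens L}

theorem Side.sq_z (h : g.Side) : g.z * g.z = 1 := by
  calc g.z * g.z = g.z * g.a1 * (g.c1 * g.a1 * g.c1) := by simp only [Gens.z, mul_assoc]
    _ = g.a1 * g.z * (g.c1 * g.a1 * g.c1) := by rw [h.comm_z1]
    _ = g.a1 * g.a1 * (g.c1 * g.a1 * g.c1 * g.c1 * g.a1 * g.c1) := by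
      simp only [Gens.z, mul_assoc]
    _ = 1 := by simp [mul_assoc, h.sq_a1, h.sq_c1]

theorem Side.z_inv (h : g.Side) : g.z⁻¹ = g.z := inv_eq_of_mul_eq_one_right h.sq_z

theorem Side.comm_zc (h : g.Side) : g.z * g.c1 = g.c1 * g.z := by
  have h1 : g.z⁻¹ = g.c1 * g.a1 * g.c1 * g.a1 := by
    simp only [Gens.z, mul_inv_rev, inv_eq_of_mul_eq_one_right h.sq_a1,
      inv_eq_of_mul_eq_one_right h.sq_c1, mul_assoc]
  conv_rhs => rw [← h.z_inv, h1]
  simp only [Gens.z, mul_assoc, h.sq_c1, mul_one]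
  simp only [← mul_assoc g.c1 g.c1, h.sq_c1, one_mul]

theorem Side.ca_eq (h : g.Side) : g.c1 * g.a1 = g.a1 * g.c1 * g.z := by
  have h1 : g.z = g.z⁻¹ := h.z_inv.symm
  rw [h1]
  simp only [Gens.z, mul_inv_rev, inv_eq_of_mul_eq_one_right h.sq_a1,
    inv_eq_of_mul_eq_one_right h.sq_c1, ← mul_assoc]
  rw [mul_assoc g.a1 g.c1, h.sq_c1, mul_one, h.sq_a1, one_mul]

theorem Side.comm_za (h : g.Side) : g.a * g.z = g.z * g.a := by
  simp only [Gens.z]
  calc g.a * (g.a1 * g.c1 * g.a1 * g.c1) = g.a * g.a1 * g.c1 * g.a1 * g.c1 := by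
        simp only [mul_assoc]
    _ = g.a1 * (g.a * g.c1) * g.a1 * g.c1 := by rw [h.comm_a1]; simp only [mul_assoc]
    _ = g.a1 * g.c1 * (g.a * g.a1) * g.c1 := by rw [h.comm_c1]; simp only [mul_assoc]
    _ = g.a1 * g.c1 * g.a1 * (g.a * g.c1) := by rw [h.comm_a1]; simp only [mul_assoc]
    _ = g.a1 * g.c1 * g.a1 * g.c1 * g.a := by rw [h.comm_c1]; simp only [mul_assoc]

theorem Side.sq_b (h : g.Side) : g.b * g.b = 1 := by
  show g.a * g.z * (g.a * g.z) = 1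
  rw [mul_assoc, ← mul_assoc g.z, ← h.comm_za, mul_assoc g.a g.z, h.sq_z, mul_one, h.sq_a]

end CfsgLib.InvTwoS6.Gens
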