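import Cfsg.Agent.Lib.InvTwoS6.Parity
import Cfsg.Agent.Lib.InvTwoS6.Layers
import Cfsg.Agent.Lib.InvTwoS6.Rules

/-!
# An involution with centralizer `⟨t⟩ × L`, and its Sylow 2-subgroup `S`
-/

set_option autoImplicit false

namespace CfsgLib.InvTwoS6

variable {G : Type*} [Group G] {L : Type*} [Group L]

/-- An involution whose centralizer is `⟨t⟩ × L`, with generators of a Sylow 2-subgroup of `L`. -/
structure Fr (G : Type*) [Group G] (L : Type*) [Group L] where
  t : G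
  ρ : L →* G
  g : Gens L
  side : g.Side
  sq : t * t = 1
  inj : Function.Injective ρ
  comm : ∀ l, t * ρ l = ρ l * t
  cent : ∀ x : G, x * t = t * x → ∃ (i : Bool) (l : L), pw t i * ρ l = x
  notmem : ∀ l, ρ l ≠ t

namespace Fr

variable (F : Fr G L)

/-- The same involution seen from the other class of Klein groups. -/
def swap (hB : F.g.swap.Side) : Fr G L := { F with g := F.g.swap, side := hB }

/-- The image of `a`. -/
def a : G := F.ρ F.g.a
/-- The image of `z`. -/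
def z : G := F.ρ F.g.z
/-- The image of `b`. -/
def b : G := F.ρ F.g.b
/-- The image of `a₁`. -/
def A : G := F.ρ F.g.a1
/-- The image of `c₁`. -/
def C : G := F.ρ F.g.c1

theorem b_eq : F.b = F.a * F.z := map_mul _ _ _

theorem pair_inj {i j : Bool} {l m : L} (h : pw F.t i * F.ρ l = pw F.t j * F.ρ m) :
    i = j ∧ l = m := by
  cases i <;> cases j <;> simp at h
  · exact ⟨rfl, F.inj h⟩
  · exact absurd (show F.ρ (l * m⁻¹) = F.t by rw [map_mul, map_inv, h, mul_inv_cancel_right])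
      (F.notmem _)
  · exact absurd (show F.ρ (m * l⁻¹) = F.t by rw [map_mul, map_inv, ← h, mul_inv_cancel_right])
      (F.notmem _)
  · exact ⟨rfl, F.inj h⟩

theorem mem_cent_iff {x : G} : x * F.t = F.t * x ↔ ∃ (i : Bool) (l : L), pw F.t i * F.ρ l = x := by
  refine ⟨F.cent x, ?_⟩
  rintro ⟨i, l, rfl⟩
  cases i
  · simp only [pw_false, one_mul]; exact (F.comm l).symm
  · simp only [pw_true]; rw [mul_assoc, ← F.comm]

theorem card_cent :
    Nat.card (Subgroup.centralizer ({F.t} : Set G)) = 2 * Nat.card L := by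
  have e : Bool × L ≃ Subgroup.centralizer ({F.t} : Set G) :=
    Equiv.ofBijective (fun x => ⟨pw F.t x.1 * F.ρ x.2,
      Subgroup.mem_centralizer_singleton_iff.2 (F.mem_cent_iff.2 ⟨x.1, x.2, rfl⟩)⟩)
      ⟨fun x y h => Prod.ext (F.pair_inj (Subtype.ext_iff.1 h)).1 (F.pair_inj (Subtype.ext_iff.1 h)).2,
      fun x => by
        obtain ⟨i, l, h⟩ := F.cent x.1 (Subgroup.mem_centralizer_singleton_iff.1 x.2)
        exact ⟨(i, l), Subtype.ext h⟩⟩
  rw [← Nat.card_congr e, Nat.card_prod, Nat.card_eq_fintype_card, Fintype.card_bool]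

theorem rel : SRel F.t F.A F.C F.a F.z where
  ht := F.sq
  hA := by rw [A, ← map_mul, F.side.sq_a1, map_one]
  hC := by rw [C, ← map_mul, F.side.sq_c1, map_one]
  ha := by rw [a, ← map_mul, F.side.sq_a, map_one]
  hz := by rw [z, ← map_mul, F.side.sq_z, map_one]
  haz := by rw [a, z, ← map_mul, F.side.comm_za, map_mul]
  ta := F.comm _
  tz := F.comm _
  Aa := by rw [A, a, ← map_mul, ← F.side.comm_a1, map_mul]
  Az := by rw [A, z, ← map_mul, ← F.side.comm_z1, map_mul]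
  Ca := by rw [C, a, ← map_mul, ← F.side.comm_c1, map_mul]
  Cz := by rw [C, z, ← map_mul, ← F.side.comm_zc, map_mul]
  At := (F.comm _).symm
  Ct := (F.comm _).symm
  CA := by rw [A, C, z, ← map_mul, ← map_mul, ← map_mul, F.side.ca_eq]

/-- Labels of `S`. -/
abbrev el : V3 × W2 → G := F.rel.layer3.el

theorem map_pw (x : L) (i : Bool) : F.ρ (pw x i) = pw (F.ρ x) i := by
  cases i <;> simp

theorem map_uf (v : W2 × W2) :
    F.ρ (F.g.uf v) = pw F.A v.1.1 * pw F.C v.1.2 * wv F.a F.z v.2 := by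
  simp only [Gens.uf, wv, map_mul, map_pw, A, C, a, z]

theorem el_eq (x : V3 × W2) :
    F.el x = pw F.t x.1.1.1 * F.ρ (F.g.uf ((x.1.1.2, x.1.2), x.2)) := by
  rw [F.map_uf, el, SRel.el3]
  simp only [mul_assoc]

theorem el_injective : Function.Injective F.el := fun x y h => by
  rw [el_eq, el_eq] at h
  obtain ⟨h1, h2⟩ := F.pair_inj h
  have h3 := F.side.inj h2
  obtain ⟨⟨⟨i, j⟩, k⟩, w⟩ := x
  obtain ⟨⟨⟨i', j'⟩, k'⟩, w'⟩ := y
  simp only [Prod.mk.injEq] at h3
  obtain ⟨⟨rfl, rfl⟩, rfl⟩ := h3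
  simp only at h1
  rw [h1]

theorem exists_el_of_inU {x : L} (hx : F.g.InU x) (i : Bool) :
    ∃ v, F.el v = pw F.t i * F.ρ x := by
  obtain ⟨⟨⟨j, k⟩, w⟩, rfl⟩ := hx
  exact ⟨(((i, j), k), w), F.el_eq _⟩

variable [Finite G]

/-- The Sylow 2-subgroup of the centralizer. -/
def S : Subgroup G := F.rel.layer3.group

theorem mem_S_iff {x : G} : x ∈ F.S ↔ ∃ v, F.el v = x := Iff.rfl

theorem card_S : Nat.card F.S = 32 := F.rel.layer3.card_group F.el_injective

theorem commute_t_of_mem {x : G} (hx : x ∈ F.S) : x * F.t = F.t * x := by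
  obtain ⟨v, rfl⟩ := F.mem_S_iff.1 hx
  exact F.mem_cent_iff.2 ⟨_, _, (F.el_eq v).symm⟩

theorem el_t : F.el (((true, false), false), (false, false)) = F.t := by
  simp [SRel.el3]

theorem t_mem : F.t ∈ F.S := ⟨_, F.el_t⟩

theorem rho_mem {x : L} (hx : F.g.InU x) : F.ρ x ∈ F.S := by
  obtain ⟨v, hv⟩ := F.exists_el_of_inU hx false
  exact ⟨v, by simpa using hv⟩

/-- The normalizer of `S` meets the centralizer in `S`. -/
theorem mem_S_of_normalize {x : G} (hc : x * F.t = F.t * x)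
    (hn : ∀ s ∈ F.S, x * s * x⁻¹ ∈ F.S) : x ∈ F.S := by
  obtain ⟨i, l, rfl⟩ := F.cent x hc
  have key : ∀ m : L, F.g.InU m → F.g.InU (l * m * l⁻¹) := by
    intro m hm
    obtain ⟨v, hv⟩ := F.mem_S_iff.1 (hn _ (F.rho_mem hm))
    have e : pw F.t i * F.ρ l * F.ρ m * (pw F.t i * F.ρ l)⁻¹ = F.ρ (l * m * l⁻¹) := by
      have hc' : pw F.t i * F.ρ (l * m * l⁻¹) = F.ρ (l * m * l⁻¹) * pw F.t i := by
        cases i <;> simp [-map_mul, -map_inv, F.comm]
      rw [show pw F.t i * F.ρ l * F.ρ m * (pw F.t i * F.ρ l)⁻¹ =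
        pw F.t i * F.ρ (l * m * l⁻¹) * (pw F.t i)⁻¹ by rw [map_mul, map_mul, map_inv]; group, hc',
        mul_inv_cancel_right]
    rw [e, F.el_eq] at hv
    exact ⟨_, (F.pair_inj (i := v.1.1.1) (j := false) (hv.trans (one_mul _).symm)).2⟩
  have hU : F.g.InU l := by
    refine F.side.normU l (key _ ⟨((false, false), (true, false)), ?_⟩)
      (key _ ⟨((true, false), (false, false)), ?_⟩) (key _ ⟨((false, true), (false, false)), ?_⟩) <;>
      simp [Gens.uf, wv]
  exact F.mem_S_iff.2 (F.exists_el_of_inU hU i)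

omit [Finite G] in
/-- A conjugate of `t` is not a square in its own centralizer. -/
theorem not_sq {x u : G} (hu : u ∈ cls F.t) (hxu : x * u = u * x) : x * x ≠ u := by
  obtain ⟨g, rfl⟩ := hu
  intro h
  have h1 : g * x * g⁻¹ * F.t = F.t * (g * x * g⁻¹) := by
    calc g * x * g⁻¹ * F.t = g * (x * (g⁻¹ * F.t * g)) * g⁻¹ := by group
      _ = F.t * (g * x * g⁻¹) := by rw [hxu]; group
  obtain ⟨i, l, hl⟩ := F.cent _ h1
  have h2 : F.ρ (l * l) = F.t := by
    have h3 : (pw F.t i * F.ρ l) * (pw F.t i * F.ρ l) = F.t := by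
      rw [hl, show g * x * g⁻¹ * (g * x * g⁻¹) = g * (x * x) * g⁻¹ by group, h]; group
    cases i
    · simpa using h3
    · rw [pw_true, show F.t * F.ρ l * (F.t * F.ρ l) = F.t * (F.ρ l * F.t) * F.ρ l by group,
        ← F.comm, ← mul_assoc F.t F.t, F.sq, one_mul] at h3
      rw [map_mul]; exact h3
  exact F.notmem _ h2

omit [Finite G] in
theorem z_notMem : F.z ∉ cls F.t := fun h => by
  refine F.not_sq h (x := F.A * F.C) ?_ ?_
  · rw [mul_assoc, F.rel.Cz, ← mul_assoc, F.rel.Az, mul_assoc]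
  · simp only [A, C, z, ← map_mul, Gens.z, mul_assoc]

end Fr

end CfsgLib.InvTwoS6
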