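import Cfsg.Agent.Lib.InvTwoS6.FrCount

/-!
# The conjugates of `t` inside `S`, by class labels; the twisted complement
-/

set_option autoImplicit false

namespace CfsgLib.InvTwoS6

/-- Which classes of involutions of the centralizer meet the class of `t`. -/
structure Lab where
  A : Bool
  B : Bool
  TA : Bool
  TB : Bool
  J : Bool
  deriving DecidableEq

/-- Whether the element of `S` with a given label is a conjugate of `t`. -/
def Lab.inS (d : Lab) (v : V3 × W2) : Bool :=
  match v.1.1.1, code v.1.1.2 v.1.2 v.2 with
  | false, 1 => d.A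
  | false, 2 => d.B
  | true, 0 => true
  | true, 1 => d.TA
  | true, 2 => d.TB
  | true, 3 => d.J
  | _, _ => false

theorem code_ne_four : ∀ (j k : Bool) (w : W2), (j && k) = false → code j k w ≠ 4 := by decide

namespace Fr

variable {G : Type*} [Group G] {L : Type*} [Group L] (F : Fr G L)

/-- The labels of `F`. -/
noncomputable def lab : Lab := by
  classical
  exact ⟨decide (F.InT F.g.a), decide (F.InT F.g.b), decide (F.TT F.g.a), decide (F.TT F.g.b),
    decide (F.TT F.g.z)⟩

theorem not_inT_one : ¬ F.InT 1 := fun h => by
  obtain ⟨c, hc⟩ := (show F.ρ 1 ∈ cls F.t from h)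
  rw [map_one, mul_eq_one_iff_eq_inv, eq_comm] at hc
  have : F.ρ 1 = F.t := by
    rw [map_one]
    calc (1 : G) = c * (c⁻¹ * F.t) := by rw [← hc, mul_inv_cancel]
      _ = F.t := mul_inv_cancel_left c F.t
  exact F.notmem 1 this

theorem order_four_ne {i : Bool} {l : L} (hl : l * l ≠ 1) : pw F.t i * F.ρ l ∉ cls F.t := by
  cases i
  · rw [pw_false, one_mul]; exact fun h => hl (F.sq_of_inT h)
  · rw [pw_true]; exact fun h => hl (F.sq_of_tt h)

theorem mem_cls_el (hg : F.g.Both) (v : V3 × W2) :
    F.el v ∈ cls F.t ↔ F.lab.inS v = true := by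
  classical
  obtain ⟨⟨⟨i, j⟩, k⟩, w⟩ := v
  rw [F.el_eq]
  by_cases hjk : (j && k) = true
  · simp only [Bool.and_eq_true] at hjk
    obtain ⟨rfl, rfl⟩ := hjk
    refine iff_of_false (F.order_four_ne fun h => ?_) (by cases i <;> simp [Lab.inS, code])
    have h2 : F.g.uf ((true, true), w) * F.g.uf ((true, true), w) =
        F.g.uf ((false, false), (false, true)) := by
      have hl := F.rel.layer3.el_mul (((false, true), true), w) (((false, true), true), w)
      change F.el _ * F.el _ = F.el _ at hl
      simp only [F.el_eq, pw_false, one_mul, ← map_mul] at hl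
      obtain ⟨w1, w2⟩ := w
      cases w1 <;> cases w2 <;>
      have := F.inj (hl.trans (by rfl : _ = pw F.t false * F.ρ (F.g.uf ((false, false), (false, true))))
        |>.trans (one_mul _)) <;> exact this
    rw [h] at h2
    exact absurd (F.side.inj (h2.symm.trans (by simp [Gens.uf, wv] :
      (1 : L) = F.g.uf ((false, false), (false, false))))) (by decide)
  · simp only [Bool.not_eq_true] at hjk
    have hc := hg.codes j k w hjk
    have key : pw F.t i * F.ρ (F.g.uf ((j, k), w)) ∈ cls F.t ↔
        (if i then F.TT (F.g.rep (code j k w)) else F.InT (F.g.rep (code j k w))) := by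
      cases i
      · simp only [pw_false, one_mul, Bool.false_eq_true, if_false]; exact (F.inT_conj hc).symm
      · simp only [pw_true, if_true]; exact (F.tt_conj hc).symm
    refine key.trans ?_
    generalize hm : code j k w = m
    have hm4 : m ≠ 4 := by
      subst hm; exact code_ne_four j k w hjk
    cases i <;> fin_cases m <;>
      simp [Lab.inS, hm, lab, Gens.rep, F.not_inT_one, F.tt_one, F.not_inT_z] at hm4 ⊢

/-- The complement twisted by a sign. -/
def twist (s : L →* ℤˣ) : Fr G L :=
  { F with
    ρ :=
      { toFun := fun l => pw F.t (decide (s l = -1)) * F.ρ l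
        map_one' := by simp
        map_mul' := fun x y => by
          have hc : ∀ (i : Bool) (l : L), pw F.t i * F.ρ l = F.ρ l * pw F.t i := fun i l => by
            cases i <;> simp [F.comm]
          have hd : decide (s (x * y) = -1) = xor (decide (s x = -1)) (decide (s y = -1)) := by
            rw [map_mul]
            rcases Int.units_eq_one_or (s x) with h | h <;>
              rcases Int.units_eq_one_or (s y) with h' | h' <;> rw [h, h'] <;> decide
          have hp : ∀ i j : Bool, pw F.t i * pw F.t j = pw F.t (xor i j) := fun i j => by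
            cases i <;> cases j <;> simp [F.sq]
          rw [hd, ← hp, map_mul]
          rw [mul_assoc, ← mul_assoc (pw F.t (decide (s y = -1))), hc]
          simp only [mul_assoc] }
    inj := fun x y h => (F.pair_inj h).2
    comm := fun l => by
      show F.t * (pw F.t _ * F.ρ l) = pw F.t _ * F.ρ l * F.t
      generalize decide (s l = -1) = i
      cases i
      · simp [F.comm]
      · simp only [pw_true]; rw [mul_assoc, ← F.comm]
    cent := fun x hx => by
      obtain ⟨i, l, rfl⟩ := F.cent x hx
      refine ⟨xor i (decide (s l = -1)), l, ?_⟩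
      show pw F.t _ * (pw F.t _ * F.ρ l) = _
      generalize decide (s l = -1) = j
      cases i <;> cases j <;> simp [← mul_assoc, F.sq]
    notmem := fun l h => by
      have h' : pw F.t (decide (s l = -1)) * F.ρ l = pw F.t true * F.ρ 1 := by
        simpa using h
      obtain ⟨h1, h2⟩ := F.pair_inj h'
      subst h2
      simp at h1 }

theorem twist_apply (s : L →* ℤˣ) (l : L) :
    (F.twist s).ρ l = pw F.t (decide (s l = -1)) * F.ρ l := rfl

theorem twist_inT_pos (s : L →* ℤˣ) {l : L} (h : s l = 1) : (F.twist s).InT l ↔ F.InT l := by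
  simp [InT, twist_apply, h, twist]

theorem twist_inT_neg (s : L →* ℤˣ) {l : L} (h : s l = -1) : (F.twist s).InT l ↔ F.TT l := by
  simp [InT, TT, twist_apply, h, twist]

theorem twist_tt_pos (s : L →* ℤˣ) {l : L} (h : s l = 1) : (F.twist s).TT l ↔ F.TT l := by
  simp [TT, twist_apply, h, twist]

theorem twist_tt_neg (s : L →* ℤˣ) {l : L} (h : s l = -1) : (F.twist s).TT l ↔ F.InT l := by
  simp [TT, InT, twist_apply, h, twist, ← mul_assoc, F.sq]

end Fr

end CfsgLib.InvTwoS6
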