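import Cfsg.Agent.Lib.InvTwoS6.SylowCase

/-!
# Subgroups cut out by predicates on labels, and counts of conjugates inside them
-/

set_option autoImplicit false

namespace CfsgLib.InvTwoS6

variable {G : Type*} [Group G]

/-- A finite set containing one and closed under products, as a subgroup. -/
def ofClosed [Finite G] (s : Set G) (h1 : (1 : G) ∈ s) (hm : ∀ x ∈ s, ∀ y ∈ s, x * y ∈ s) :
    Subgroup G where
  carrier := s
  one_mem' := h1
  mul_mem' := fun {x y} hx hy => hm x hx y hy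
  inv_mem' := fun {x} hx => by
    have hpow : ∀ n : ℕ, x ^ n ∈ s := by
      intro n
      induction n with
      | zero => simpa using h1
      | succ n ih => rw [pow_succ]; exact hm _ ih _ hx
    have hpos := orderOf_pos x
    have e : x⁻¹ = x ^ (orderOf x - 1) := by
      apply inv_eq_of_mul_eq_one_right
      rw [← pow_succ', Nat.sub_add_cancel hpos, pow_orderOf_eq_one]
    exact e ▸ hpow _

theorem mem_ofClosed [Finite G] {s : Set G} {h1 : (1 : G) ∈ s}
    {hm : ∀ x ∈ s, ∀ y ∈ s, x * y ∈ s} {x : G} : x ∈ ofClosed s h1 hm ↔ x ∈ s := Iff.rfl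

/-- An element mapping a finite subgroup into itself normalizes it. -/
theorem mem_normalizer_of_maps [Finite G] {H : Subgroup G} {g : G}
    (h : ∀ x ∈ H, g * x * g⁻¹ ∈ H) : g ∈ Subgroup.normalizer (H : Set G) := by
  rw [Subgroup.mem_normalizer_iff]
  refine fun x => ⟨fun hx => h x hx, fun hx => ?_⟩
  have hinj : Function.Injective (fun u : H => (⟨g * u.1 * g⁻¹, h u.1 u.2⟩ : H)) := fun u v e =>
    Subtype.ext (by simpa using congrArg Subtype.val e)
  obtain ⟨u, hu⟩ := (Finite.injective_iff_surjective.1 hinj) ⟨_, hx⟩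
  have h2 : g * u.1 * g⁻¹ = g * x * g⁻¹ := congrArg Subtype.val hu
  simp only [mul_left_inj, mul_right_inj] at h2
  exact h2 ▸ u.2

namespace Layer

variable {V : Type} {w : W2 → G} (ly : Layer V w) [Finite G]

/-- The subgroup of the elements whose label satisfies a closed predicate. -/
def sub (P : V → Bool) (h0 : P ly.zero = true)
    (hadd : ∀ u v, P u = true → P v = true → P (ly.add u v) = true) : Subgroup G :=
  ofClosed {g | ∃ x, P x.1 = true ∧ ly.el x = g} ⟨_, h0, ly.el_zero⟩ (by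
    rintro _ ⟨x, hx, rfl⟩ _ ⟨y, hy, rfl⟩
    exact ⟨ly.mul x y, hadd _ _ hx hy, (ly.el_mul x y).symm⟩)

variable {P : V → Bool} {h0 : P ly.zero = true}
  {hadd : ∀ u v, P u = true → P v = true → P (ly.add u v) = true}

theorem mem_sub {g : G} : g ∈ ly.sub P h0 hadd ↔ ∃ x, P x.1 = true ∧ ly.el x = g := Iff.rfl

theorem el_mem_sub (hinj : Function.Injective ly.el) {x : V × W2} :
    ly.el x ∈ ly.sub P h0 hadd ↔ P x.1 = true :=
  ⟨fun ⟨_, hy, e⟩ => hinj e ▸ hy, fun h => ⟨x, h, rfl⟩⟩

theorem card_sub [Fintype V] (hinj : Function.Injective ly.el) :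
    Nat.card (ly.sub P h0 hadd) = Fintype.card {v : V // P v = true} * 4 := by
  have e : {v : V // P v = true} × W2 ≃ ly.sub P h0 hadd := Equiv.ofBijective
    (fun x => ⟨ly.el (x.1.1, x.2), (x.1.1, x.2), x.1.2, rfl⟩)
    ⟨fun x y e => by
      have h := hinj (Subtype.ext_iff.1 e)
      simp only [Prod.mk.injEq] at h
      exact Prod.ext (Subtype.ext h.1) h.2,
    fun ⟨g, x, hx, hg⟩ => ⟨(⟨x.1, hx⟩, x.2), Subtype.ext hg⟩⟩
  rw [← Nat.card_congr e, Nat.card_prod, Nat.card_eq_fintype_card, Nat.card_eq_fintype_card]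
  rfl

end Layer

/-- The centralizing condition on labels. -/
theorem Layer.comm_of_eq {V : Type} {w : W2 → G} (ly : Layer V w) {x y : V × W2}
    (h : ly.mul x y = ly.mul y x) : ly.el x * ly.el y = ly.el y * ly.el x := by
  rw [ly.el_mul, ly.el_mul, h]

namespace Fr

variable {L : Type*} [Group L] (F : Fr G L) [Finite G]

/-- The number of conjugates of `t` with a given first label. -/
noncomputable def nLab {V : Type} {w : W2 → G} (ly : Layer V w) (v : V) : ℕ :=
  Nat.card {k : W2 // ly.el (v, k) ∈ cls F.t}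

theorem nLab_le {V : Type} {w : W2 → G} (ly : Layer V w) (v : V) : F.nLab ly v ≤ 4 :=
  le_trans (Nat.card_le_card_of_injective _ Subtype.val_injective) (le_of_eq (by
    rw [Nat.card_eq_fintype_card]; rfl))

theorem nIn_sub {V : Type} [Fintype V] {w : W2 → G} (ly : Layer V w)
    (hinj : Function.Injective ly.el) (P : V → Bool) {h0 : P ly.zero = true}
    {hadd : ∀ u v, P u = true → P v = true → P (ly.add u v) = true} :
    F.nIn (ly.sub P h0 hadd) = ∑ v : {v : V // P v = true}, F.nLab ly v.1 := by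
  simp only [nLab]
  rw [← Nat.card_sigma]
  exact (Nat.card_congr (Equiv.ofBijective
    (fun x : Σ v : {v : V // P v = true}, {k : W2 // ly.el (v.1, k) ∈ cls F.t} =>
      (⟨ly.el (x.1.1, x.2.1), x.2.2, _, x.1.2, rfl⟩ :
        {u : G // u ∈ cls F.t ∧ u ∈ ly.sub P h0 hadd}))
    ⟨by
      rintro ⟨⟨v, hv⟩, k, hk⟩ ⟨⟨v', hv'⟩, k', hk'⟩ e
      have h := hinj (Subtype.ext_iff.1 e)
      simp only [Prod.mk.injEq] at h
      obtain ⟨rfl, rfl⟩ := h
      rfl,
    fun ⟨g, hg, x, hx, e⟩ => ⟨⟨⟨x.1, hx⟩, x.2, show ly.el (x.1, x.2) ∈ _ from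
        (show ly.el x = g from e) ▸ hg⟩, Subtype.ext e⟩⟩)).symm

/-- The number of conjugates of `t` with labels in a prescribed set. -/
theorem card_cls_list {V : Type} [Fintype V] [DecidableEq V] {w : W2 → G} (ly : Layer V w)
    (hinj : Function.Injective ly.el) (P : V → Bool) {M : List V} (hM : M.Nodup)
    (hsat : ∀ v k, ly.el (v, k) ∈ cls F.t ↔ v ∈ M) :
    Nat.card {u : G // u ∈ cls F.t ∧ ∃ x, P x.1 = true ∧ ly.el x = u} = 4 * M.countP P := by
  classical
  set T := (M.filter fun v => P v).toFinset with hT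
  have hlen : M.countP P = T.card := by
    rw [hT, List.toFinset_card_of_nodup (hM.filter _), List.countP_eq_length_filter]
  have hmem : ∀ v, v ∈ T ↔ v ∈ M ∧ P v = true := fun v => by
    rw [hT, List.mem_toFinset, List.mem_filter]
  have h4 : Nat.card W2 = 4 := by rw [Nat.card_eq_fintype_card]; rfl
  rw [hlen, ← h4, mul_comm, ← Nat.card_eq_finsetCard, ← Nat.card_prod]
  refine (Nat.card_congr (Equiv.ofBijective (fun p : T × W2 =>
    (⟨ly.el (p.1.1, p.2), (hsat _ _).2 ((hmem _).1 p.1.2).1, _, ((hmem _).1 p.1.2).2, rfl⟩ :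
      {u : G // u ∈ cls F.t ∧ ∃ x, P x.1 = true ∧ ly.el x = u})) ⟨?_, ?_⟩)).symm
  · intro x y e
    have h := hinj (Subtype.ext_iff.1 e)
    simp only [Prod.mk.injEq] at h
    exact Prod.ext (Subtype.ext h.1) h.2
  · rintro ⟨g, hg, x, hx, rfl⟩
    exact ⟨(⟨x.1, (hmem _).2 ⟨(hsat x.1 x.2).1 hg, hx⟩⟩, x.2), Subtype.ext rfl⟩

/-- The count when conjugates of `t` fill whole cosets. -/
theorem nIn_sub_list {V : Type} [Fintype V] [DecidableEq V] {w : W2 → G} (ly : Layer V w)
    (hinj : Function.Injective ly.el) (P : V → Bool) {h0 : P ly.zero = true}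
    {hadd : ∀ u v, P u = true → P v = true → P (ly.add u v) = true} {M : List V} (hM : M.Nodup)
    (hsat : ∀ v k, ly.el (v, k) ∈ cls F.t ↔ v ∈ M) :
    F.nIn (ly.sub P h0 hadd) = 4 * M.countP P :=
  F.card_cls_list ly hinj P hM hsat

end Fr

end CfsgLib.InvTwoS6
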