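import Cfsg.Agent.Lib.InvTwoS6.QuadAction
import Mathlib.GroupTheory.Sylow

/-!
# Four cosets of conjugates: a subgroup of order 256 and the final count
-/

set_option autoImplicit false

namespace CfsgLib.InvTwoS6

/-- The exchange of the four labels by the translation. -/
def quadS (v : V4) : V4 :=
  if v = yT then yTA else if v = yTA then yT else if v = yTC then yX false else yTC

/-- The cycle of length four. -/
def quadR (v : V4) : V4 :=
  if v = yT then yTC else if v = yTC then yX false else if v = yX false then yTA else yT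

/-- The action of `rⁱ sʲ`. -/
def quadW (i : Fin 4) (j : Bool) (v : V4) : V4 := quadR^[i.val] (if j then quadS v else v)

theorem quadR_mem : ∀ v ∈ quadY false, quadR v ∈ quadY false := by decide

theorem quadS_mem : ∀ v ∈ quadY false, quadS v ∈ quadY false := by decide

theorem quadW_inj : ∀ (i i' : Fin 4) (j j' : Bool), quadW i j yT = quadW i' j' yT →
    quadW i j yTA = quadW i' j' yTA → i = i' ∧ j = j' := by
  decide +kernel

theorem quadR_four : quadR^[4] yT = yT ∧ quadR^[4] yTA = yTA ∧ quadR yT = yTC ∧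
    quadR yTA = yT ∧ quadR yTC = yX false ∧ quadR (yX false) = yTA := by
  decide +kernel

theorem dihedral_mul {X : Type*} [Group X] {R S : X} (hS : S * S = 1) (hR : R ^ 4 = 1)
    (hSR : S * R = R ^ 3 * S) (i k : Fin 4) (j l : Bool) :
    ∃ (m : Fin 4) (n : Bool), R ^ m.val * pw S n = R ^ i.val * pw S j * (R ^ k.val * pw S l) := by
  have hk : ∀ n : ℕ, S * R ^ n = R ^ (3 * n) * S := by
    intro n
    induction n with
    | zero => simp
    | succ n ih =>
      rw [pow_succ, ← mul_assoc, ih, mul_assoc, hSR, ← mul_assoc, ← pow_add]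
      congr 2
  refine ⟨⟨(i.val + (if j then 3 * k.val else k.val)) % 4, Nat.mod_lt _ (by norm_num)⟩, xor j l, ?_⟩
  show R ^ ((i.val + (if j then 3 * k.val else k.val)) % 4) * _ = _
  rw [← pow_eq_pow_mod _ hR]
  cases j
  · simp [pow_add, mul_assoc]
  · rw [if_pos rfl, pw_true, show R ^ i.val * S * (R ^ k.val * pw S l) =
      R ^ i.val * (S * R ^ k.val) * pw S l by simp only [mul_assoc], hk, pow_add]
    cases l <;> simp [mul_assoc, hS]

namespace Fr

variable {G : Type*} [Group G] {L : Type*} [Group L] {F : Fr G L} [Finite G]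
variable {p : G}

theorem Cyc.action_pow (h : F.Cyc p false false) {r : G} (hr : r ∈ h.NK)
    (hv : ∀ v ∈ quadY false, h.phi hr v = quadR v) (n : ℕ) :
    ∀ v ∈ quadY false, h.phi (pow_mem hr n) v = quadR^[n] v := by
  induction n with
  | zero =>
    intro v _
    rw [h.phi_congr _ (one_mem _) (pow_zero r), h.phi_of_mem _ (one_mem _)]
    rfl
  | succ n ih =>
    intro v hvM
    rw [h.phi_congr _ (mul_mem (pow_mem hr n) hr) (pow_succ r n), h.phi_comp (pow_mem hr n) hr,
      hv v hvM, ih _ (quadR_mem v hvM), Function.iterate_succ_apply]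

/-- A subgroup of index two in the normalizer meeting the conjugates outside. -/
theorem Cyc.exists_half (h : F.Cyc p false false) (hg : F.g.Both) (hd : F.lab = labTwo)
    (hM : ∀ v k, h.layer.el (v, k) ∈ cls F.t ↔ v ∈ quadY false) (h512 : Nat.card h.NK = 512) :
    ∃ M : Subgroup G, M ≤ h.NK ∧ Nat.card M = 256 ∧ (∀ n ∈ h.NK, ∀ x ∈ M, cj n x ∈ M) ∧
      ∀ u ∈ cls F.t, u ∈ M → u ∉ h.layer.group := by
  classical
  obtain ⟨s, hs, -, hss, s1, s2, s3, s4⟩ := h.exists_s hg hd hM
  rw [pw_false] at hss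
  obtain ⟨v1, v2, v3, v4⟩ := quad_vals false
  obtain ⟨r4T, r4A, rT, rA, rC, rX⟩ := quadR_four
  have hp := h.p_mem_NK
  have hr : p * s ∈ h.NK := mul_mem hp hs
  have hrv : ∀ v ∈ quadY false, h.phi hr v = quadR v := by
    intro v hv
    rw [h.phi_comp hp hs, h.phi_p]
    simp only [quadY, List.mem_cons, List.not_mem_nil, or_false] at hv
    rcases hv with rfl | rfl | rfl | rfl
    · rw [s1, v2, rT]
    · rw [s2, v1, rA]
    · rw [s3, v4, rC]
    · rw [s4, v3, rX]
  have hsv : ∀ v ∈ quadY false, h.phi hs v = quadS v := by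
    intro v hv
    simp only [quadY, List.mem_cons, List.not_mem_nil, or_false] at hv
    rcases hv with rfl | rfl | rfl | rfl
    · rw [s1]; decide
    · rw [s2]; decide
    · rw [s3]; decide
    · rw [s4]; decide
  -- the kernel of the parity
  have h0 : (!(h.layer.zero).1.1.1) = true := rfl
  set D0 := h.layer.sub (fun v => !v.1.1.1) h0 (fun u v hu hv => by
    simp only [Bool.not_eq_true'] at hu hv ⊢
    simp [h.layer_add, add4, hu, hv]) with hD0
  have hD0le : D0 ≤ h.layer.group := by rintro _ ⟨x, -, rfl⟩; exact ⟨x, rfl⟩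
  have hD0n : ∀ g ∈ h.NK, ∀ x ∈ D0, cj g x ∈ D0 := by
    rintro g hgK _ ⟨⟨v, k⟩, hv, rfl⟩
    obtain ⟨k', hk'⟩ := h.phi_spec hgK v k
    exact ⟨(h.phi hgK v, k'), by simpa only [h.phi_parity hM hgK v] using hv, hk'.symm⟩
  have hyD0 : p * p ∈ D0 := ⟨((((false, false), false), true), (false, false)), rfl, by
    rw [h.layer_el, el_one, one_mul, pw_true]⟩
  have hr4 : (p * s) ^ 4 ∈ D0 := by
    have hD : (p * s) ^ 4 ∈ h.layer.group := h.kernel (pow_mem hr 4)
      (by rw [h.action_pow hr hrv 4 _ (by simp [quadY]), r4T])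
      (by rw [h.action_pow hr hrv 4 _ (by simp [quadY]), r4A])
    obtain ⟨⟨v, k⟩, hv⟩ := hD
    have e1 : h.phi hr v = v := h.phi_eq hr (k := k) (k' := k) (by
      rw [hv]; exact cj_of_comm ((pow_succ' _ _).symm.trans (pow_succ _ _)))
    refine ⟨(v, k), ?_, hv⟩
    obtain ⟨i, j, k', l, rfl⟩ := quad_span false v
    rw [h.phi_comb, hrv _ (by simp [quadY]), hrv _ (by simp [quadY]), hrv _ (by simp [quadY]),
      hrv _ (by simp [quadY]), rT, rA, rC, rX] at e1
    simp only [Bool.not_eq_true']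
    exact quad_cycle_fix i j k' l e1
  set N := D0.subgroupOf h.NK with hN
  have : N.Normal := ⟨fun n hn g => Subgroup.mem_subgroupOf.2
    (hD0n g.1 g.2 n.1 (Subgroup.mem_subgroupOf.1 hn))⟩
  set π := QuotientGroup.mk' N
  have hπ : ∀ x : h.NK, π x = 1 ↔ x.1 ∈ D0 := fun x => by
    rw [show π x = (x : h.NK ⧸ N) from rfl, QuotientGroup.eq_one_iff, hN, Subgroup.mem_subgroupOf]
  set P := π ⟨p, hp⟩ with hPdef
  set S := π ⟨s, hs⟩ with hSdef
  have hP : P * P = 1 := by rw [hPdef, ← map_mul, hπ]; exact hyD0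
  have hS : S * S = 1 := by
    rw [hSdef, ← map_mul, hπ]
    show s * s ∈ D0
    rw [hss]; exact one_mem _
  have hR : (P * S) ^ 4 = 1 := by
    rw [hPdef, hSdef, ← map_mul, ← map_pow, hπ, Subgroup.coe_pow]
    exact hr4
  have hSR : S * (P * S) = (P * S) ^ 3 * S := by
    have e1 : (P * S) ^ 3 = (P * S)⁻¹ := eq_inv_of_mul_eq_one_left (by rw [← pow_succ, hR])
    rw [e1, mul_inv_rev, inv_eq_of_mul_eq_one_right hS, inv_eq_of_mul_eq_one_right hP, mul_assoc]
  set M0 : Subgroup (h.NK ⧸ N) := ofClosed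
    {x | ∃ (i : Fin 4) (j : Bool), (P * S) ^ i.val * pw S j = x}
    ⟨0, false, by simp⟩ (by
      rintro _ ⟨i, j, rfl⟩ _ ⟨k, l, rfl⟩
      exact dihedral_mul hS hR hSR i k j l) with hM0
  let word : Fin 4 → Bool → h.NK := fun i j =>
    ⟨(p * s) ^ i.val * pw s j, mul_mem (pow_mem hr _) (by
      cases j
      · exact one_mem _
      · exact hs)⟩
  have hword : ∀ i j, π (word i j) = (P * S) ^ i.val * pw S j := fun i j => by
    rw [hPdef, hSdef, ← map_mul, ← map_pow]
    cases j
    · rw [pw_false, mul_one]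
      congr 1
      exact Subtype.ext (by simp [word])
    · rw [pw_true, ← map_mul]
      congr 1
  have hval : ∀ i j, ∀ v ∈ quadY false, h.phi (word i j).2 v = quadW i j v := by
    intro i j v hv
    cases j
    · rw [h.phi_congr _ (pow_mem hr i.val) (by simp [word]), h.action_pow hr hrv _ _ hv]
      rfl
    · rw [h.phi_congr _ (mul_mem (pow_mem hr i.val) hs) (by simp [word]),
        h.phi_comp (pow_mem hr i.val) hs, hsv v hv, h.action_pow hr hrv _ _ (quadS_mem v hv)]
      rfl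
  have heq : ∀ (x : h.NK) i j, π x = π (word i j) → (word i j).1⁻¹ * x.1 ∈ D0 :=
    fun x i j e => (hπ ((word i j)⁻¹ * x)).1 (by rw [map_mul, map_inv, e, inv_mul_cancel])
  have hcard0 : Nat.card M0 = 8 := by
    rw [← Nat.card_congr (Equiv.ofBijective (fun x : Fin 4 × Bool =>
      (⟨(P * S) ^ x.1.val * pw S x.2, x.1, x.2, rfl⟩ : M0)) ⟨?_, ?_⟩), Nat.card_eq_fintype_card]
    · rfl
    · intro x y e
      have e' : π (word x.1 x.2) = π (word y.1 y.2) := by
        rw [hword, hword]; exact Subtype.ext_iff.1 e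
      have hd' := hD0le (heq _ _ _ e')
      have key : ∀ v ∈ quadY false, quadW x.1 x.2 v = quadW y.1 y.2 v := fun v hv => by
        rw [← hval _ _ v hv, ← hval _ _ v hv, h.phi_congr (word x.1 x.2).2
          (mul_mem (word y.1 y.2).2 (h.group_le_NK hd')) (mul_inv_cancel_left _ _).symm,
          h.phi_comp (word y.1 y.2).2 (h.group_le_NK hd'), h.phi_of_mem _ hd']
      obtain ⟨a, b⟩ := quadW_inj _ _ _ _ (key _ (by simp [quadY])) (key _ (by simp [quadY]))
      exact Prod.ext a b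
    · rintro ⟨x, i, j, rfl⟩
      exact ⟨(i, j), rfl⟩
  have hNc : Nat.card N = 32 := by
    rw [hN, Nat.card_congr (Subgroup.subgroupOfEquivOfLe (hD0le.trans h.group_le_NK)).toEquiv, hD0,
      Layer.card_sub _ h.el_inj, card_pred4]
    rfl
  have hidx : (M0.comap π).index = 2 := by
    rw [M0.index_comap_of_surjective (QuotientGroup.mk'_surjective N)]
    have e1 := N.card_mul_index
    rw [hNc, h512, Subgroup.index_eq_card] at e1
    have e2 := M0.card_mul_index
    rw [hcard0] at e2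
    omega
  refine ⟨(M0.comap π).map h.NK.subtype, ?_, ?_, ?_, ?_⟩
  · rintro _ ⟨x, -, rfl⟩; exact x.2
  · rw [Subgroup.card_map_of_injective (Subgroup.subtype_injective _)]
    have := (M0.comap π).card_mul_index
    rw [hidx, h512] at this
    omega
  · rintro n hn _ ⟨x, hx, rfl⟩
    exact ⟨⟨n, hn⟩ * x * ⟨n, hn⟩⁻¹, (Subgroup.normal_of_index_eq_two hidx).conj_mem x hx _, rfl⟩
  · rintro _ hu ⟨x, ⟨i, j, hx⟩, rfl⟩ hxD
    have hd' := heq x i j (by rw [hword]; exact hx.symm)
    have hwD : (word i j).1 ∈ h.layer.group := by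
      have := mul_mem hxD (inv_mem (hD0le hd'))
      rwa [show h.NK.subtype x = x.1 from rfl, mul_inv_rev, inv_inv, mul_inv_cancel_left] at this
    have key : ∀ v ∈ quadY false, quadW i j v = quadW 0 false v := fun v hv => by
      rw [← hval i j v hv, h.phi_of_mem _ hwD]; rfl
    obtain ⟨rfl, rfl⟩ := quadW_inj _ _ _ _ (key _ (by simp [quadY])) (key _ (by simp [quadY]))
    have hx0 : x.1 ∈ D0 := by simpa [word] using hd'
    obtain ⟨⟨v, k⟩, hv, hxe⟩ := hx0
    have hvM := (hM v k).1 (hxe ▸ hu)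
    simp only [quadY, List.mem_cons, List.not_mem_nil, or_false] at hvM
    rcases hvM with rfl | rfl | rfl | rfl <;> simp [yT, yTA, yTC, yX] at hv

theorem Cyc.quad_false {e : Bool} (h : F.Cyc p false e) (hg : F.g.Both) (hG : NoTwo G)
    (hd : F.lab = labTwo) (hM : ∀ v k, h.layer.el (v, k) ∈ cls F.t ↔ v ∈ quadY e) : False := by
  classical
  cases e
  swap
  · exact h.quad_e_false hg hd hM
  obtain ⟨hnd, hlen, hsub⟩ := quadY_sub false
  have h512 : Nat.card h.NK = 512 := by rw [h.card_NK hg hd hM hsub hnd, hlen]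
  have h1024 : ¬ 1024 ∣ Nat.card G := by
    intro hdvd
    have : Fact (Nat.Prime 2) := ⟨Nat.prime_two⟩
    obtain ⟨P, hP, hKP⟩ := Sylow.exists_subgroup_card_pow_succ (p := 2) (n := 9)
      (H := h.NK) (hdvd) h512
    have hN : (h.NK.subgroupOf P).Normal := Subgroup.normal_of_index_eq_two (by
      have := (h.NK.subgroupOf P).card_mul_index
      rw [Nat.card_congr (Subgroup.subgroupOfEquivOfLe hKP).toEquiv, h512, hP] at this
      omega)
    obtain ⟨x, hxP, hxK⟩ : ∃ x ∈ P, x ∉ h.NK := by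
      by_contra hne
      push Not at hne
      have := Subgroup.card_le_of_le (show P ≤ h.NK from hne)
      rw [hP, h512] at this
      omega
    have hmapK : ∀ v ∈ h.NK, cj x v ∈ h.NK := fun v hv =>
      Subgroup.mem_subgroupOf.1 (hN.conj_mem ⟨v, hKP hv⟩ (Subgroup.mem_subgroupOf.2 hv) ⟨x, hxP⟩)
    have hT : ∀ v ∈ cls F.t, v ∈ h.layer.group → cj x v ∈ h.layer.group := by
      intro v hv hvD
      by_contra hne
      obtain ⟨y, rfl⟩ := hvD
      obtain ⟨hQ1, hQ2⟩ := h.kerSub_spec y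
      refine h.outer_small hg hd hM (cj_mem_cls hv) (hmapK _ (h.group_le_NK ⟨y, rfl⟩)) hne
        (Q := (h.kerSub y.1).map (MulAut.conj x).toMonoidHom) ?_ ?_ ?_
      · rintro _ ⟨z, ⟨z', -, rfl⟩, rfl⟩
        exact hmapK _ (h.group_le_NK ⟨z', rfl⟩)
      · rw [Subgroup.card_map_of_injective (MulAut.conj x).injective, hQ1,
          of_decide_eq_true (List.all_eq_true.1 (beta_big false) y.1 (hsub _ ((hM y.1 y.2).1 hv)))]
      · rintro _ ⟨z, hz, rfl⟩
        show cj x z * cj x (h.layer.el y) = cj x (h.layer.el y) * cj x z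
        rw [← cj_mul, ← cj_mul, hQ2 z hz]
    set H := h.layer.group.comap (MulAut.conj x).toMonoidHom with hH
    have hS : F.S ≤ H := F.S_le_of_cls hg hd fun v hv hvS => hT v hv (h.S_le_group hvS)
    have hX : h.layer.el (yX false, (false, false)) ∈ H :=
      hT _ ((hM _ _).2 (by simp [quadY])) ⟨_, rfl⟩
    rw [yX, h.layer_el, pw_true] at hX
    have hy : p * p ∈ H := (H.mul_mem_cancel_left (hS ⟨_, rfl⟩)).1 hX
    apply hxK
    refine mem_normalizer_of_maps ?_
    rintro _ ⟨⟨⟨v, d⟩, k⟩, rfl⟩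
    refine (show h.layer.el ((v, d), k) ∈ H from ?_)
    rw [h.layer_el]
    refine mul_mem (hS ⟨_, rfl⟩) ?_
    cases d
    · exact one_mem _
    · exact hy
  obtain ⟨M, hMK, hM256, hMn, hMout⟩ := h.exists_half hg hd hM h512
  have h32 : 2 ^ 5 ∣ Nat.card {u : G // u ∈ cls F.t ∧ u ∈ M} := by
    let _ : MulAction h.NK {u : G // u ∈ cls F.t ∧ u ∈ M} :=
      { smul := fun n u => ⟨cj (n : G) u.1, cj_mem_cls u.2.1, hMn _ n.2 _ u.2.2⟩
        one_smul := fun u => Subtype.ext (show cj (1 : G) u.1 = u.1 by simp [cj])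
        mul_smul := fun n n' u => Subtype.ext (cj_cj _ _ _).symm }
    refine dvd_card_of_stab (K := h.NK) (m := 4) (n := 5) h512 fun u => ?_
    set St := MulAction.stabilizer h.NK u
    obtain ⟨k, -, hk⟩ := (Nat.dvd_prime_pow Nat.prime_two).1
      (show Nat.card St ∣ 2 ^ 9 from (show Nat.card h.NK = 2 ^ 9 from h512) ▸
        St.card_subgroup_dvd_card)
    rw [hk]
    refine pow_dvd_pow 2 ?_
    have hQ : Nat.card (St.map h.NK.subtype) = 2 ^ k := by
      rw [Subgroup.card_map_of_injective (Subgroup.subtype_injective _), hk]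
    have hQu : ∀ y ∈ St.map h.NK.subtype, y * u.1 = u.1 * y := by
      rintro _ ⟨n, hn, rfl⟩
      exact comm_of_cj (congrArg Subtype.val (show n • u = u from hn))
    have h5 := F.card_le_of_two u.2.1 hQ hQu
    by_contra h4
    obtain rfl : k = 5 := by omega
    exact h.outer_small hg hd hM u.2.1 (hMK u.2.2) (hMout _ u.2.1 u.2.2)
      (Q := St.map h.NK.subtype) (by rintro _ ⟨n, -, rfl⟩; exact n.2) hQ hQu
  obtain ⟨c, hc⟩ := h32
  obtain ⟨d, hd'⟩ := h512 ▸ h.NK.card_subgroup_dvd_card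
  obtain ⟨m, rfl⟩ : ∃ m, d = 2 * m + 1 := by
    refine ⟨d / 2, ?_⟩
    rcases Nat.mod_two_eq_zero_or_one d with e' | e'
    · exact absurd ⟨d / 2, by omega⟩ h1024
    · omega
  refine F.forbid_two hG M (m := m) (by rw [hd', hM256]; ring) (r := c) ?_
  rw [show F.nIn M = 2 ^ 5 * c from hc, hM256]
  ring

end Fr

end CfsgLib.InvTwoS6
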