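import Cfsg.Agent.Lib.InvTwoS6.R1

/-!
# The exceptional action in the case where only `t z` is fused with `t`
-/

set_option autoImplicit false

namespace CfsgLib.InvTwoS6

/-- The exceptional action. -/
def actN (e q : Bool) : Act :=
  ⟨(((true, true), false), (true, true)), (((true, false), true), (false, true)),
    (false, (true, e)), (((false, false), false), (false, q))⟩

/-- Labels of the elements of a group of order 64. -/
abbrev N6 := (V3 × W2) × Bool

/-- The product. -/
def mul6 (e q : Bool) (x y : N6) : N6 :=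
  (mul3 (mul3 x.1 (cond x.2 ((actN e q).phi y.1) y.1)) (pw3 (actN e q).s0 (x.2 && y.2)),
    xor x.2 y.2)

/-- The label modulo `z`. -/
def proj5 (x : N6) : V5 := ((x.1.1, x.1.2.1), x.2)

/-- A representative. -/
def lift5 (w : V5) : N6 := ((w.1.1, (w.1.2, false)), w.2)

/-- The label of `t`. -/
def t6 : N6 := ((((true, false), false), (false, false)), false)

/-- The identity. -/
def one6 : N6 := ((((false, false), false), (false, false)), false)

/-- The label of `v y ^ 0`. -/
def inner (v : V3 × W2) : N6 := (v, false)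

theorem proj_mul : ∀ (e q : Bool) (x y : N6),
    proj5 (mul6 e q x y) = add5 (proj5 x) (proj5 y) := by
  decide +kernel

theorem inv6 : ∀ (e q : Bool) (x : N6), mul6 e q x (mul6 e q (mul6 e q x x) x) = one6 ∧
    proj5 (mul6 e q (mul6 e q x x) x) = proj5 x := by
  decide +kernel

theorem comm6' : ∀ (e q : Bool) (x u : N6),
    (bil5 e (proj5 u) (proj5 x) || decide (mul6 e q x u = mul6 e q u x)) = true := by
  decide +kernel

theorem comm6 (e q : Bool) (x u : N6) (h : bil5 e (proj5 u) (proj5 x) = false) :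
    mul6 e q x u = mul6 e q u x := by
  simpa [h] using comm6' e q x u

theorem sq6 : ∀ (e q : Bool) (x : N6), mul6 e q x x = one6 → sq5 e q (proj5 x) = false := by
  decide +kernel

theorem pair6' : ∀ (e q : Bool) (v : V3 × W2),
    (decide ((v, true) = lift5 (proj5 (v, true))) ||
      decide ((v, true) = mul6 e q (mul6 e q t6 (lift5 (proj5 (v, true)))) t6)) = true := by
  decide +kernel

theorem pair6 (e q : Bool) (v : V3 × W2) : (v, true) = lift5 (proj5 (v, true)) ∨
    (v, true) = mul6 e q (mul6 e q t6 (lift5 (proj5 (v, true)))) t6 := by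
  simpa using pair6' e q v

theorem inner_base : ∀ v : V3 × W2,
    labOne.inS v = decide (proj5 (inner v) ∈ base5) := by
  decide +kernel

theorem proj_lift : ∀ w : V5, proj5 (lift5 w) = w := by decide

theorem base_outer : ∀ w ∈ base5, w.2 = false := by decide

theorem outV_outer : ∀ w ∈ outV, w.2 = true := by decide

theorem card_psi5 : ∀ (c : Bool × Bool × Bool) (d : Bool),
    Fintype.card {x : N6 // psi5 c d (proj5 x) = false} = 32 := by
  decide +kernel

theorem card_bil5 : ∀ (e : Bool) (u : V5),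
    (u = ((((true, false), true), false), false) ∨ u = ((((true, true), false), true), false) ∨
      u.2 = true) →
    Fintype.card {x : N6 // bil5 e u (proj5 x) = false} = 32 := by
  decide +kernel

theorem snd_add : ∀ u v : V5, (add5 u v).2 = xor u.2 v.2 := fun _ _ => rfl

theorem psi5_add : ∀ (c : Bool × Bool × Bool) (d : Bool) (u v : V5),
    psi5 c d (add5 u v) = xor (psi5 c d u) (psi5 c d v) := by
  decide +kernel

theorem bil5_add : ∀ (e : Bool) (w u v : V5),
    bil5 e w (add5 u v) = xor (bil5 e w u) (bil5 e w v) := by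
  decide +kernel

/-- The adjustment of `y`. -/
def adjW (qK qC : V3 × W2) : V3 × W2 := (((false, !qC.2.2), !qK.2.2), (false, false))

theorem adjust_ok : ∀ qK ∈ nonC, ∀ qC ∈ nonC, qK.1.1.2 = true → qC.1.1.2 = false →
    mul3 (mul3 (adjW qK qC) qK) (inv3 (adjW qK qC)) = (((true, true), false), (true, true)) ∧
    mul3 (mul3 (adjW qK qC) qC) (inv3 (adjW qK qC)) = (((true, false), true), (false, true)) := by
  decide

namespace Fr

variable {G : Type*} [Group G] {L : Type*} [Group L] (F : Fr G L)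

/-- The element with a given label. -/
def el6 (y : G) (x : N6) : G := F.el x.1 * pw y x.2

theorem el6_inner (y : G) (v : V3 × W2) : F.el6 y (inner v) = F.el v := by simp [el6, inner]

theorem el6_one (y : G) : F.el6 y one6 = 1 := by simp [el6, one6, el_one]

variable [Finite G]

theorem el6_t (y : G) : F.el6 y t6 = F.t := by
  simp only [el6, t6, pw_false, mul_one]
  exact F.el_t

theorem el6_mul {y : G} {e q : Bool} (h : F.Rep y (actN e q)) (x x' : N6) :
    F.el6 y x * F.el6 y x' = F.el6 y (mul6 e q x x') := by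
  obtain ⟨v, d⟩ := x
  obtain ⟨w, d'⟩ := x'
  cases d
  · simp only [el6, mul6, cond_false, Bool.false_and, Bool.false_xor, pw_false, mul_one, pw3]
    rw [← el_mul, ← el_mul, el_one, mul_one, mul_assoc]
  · have hc : y * F.el w = F.el ((actN e q).phi w) * y := by rw [← h.act, cj]; group
    cases d' <;>
      simp only [el6, mul6, cond_true, cond_false, Bool.true_and, Bool.true_xor, Bool.not_true,
        Bool.not_false, pw_false, pw_true, mul_one, pw3] <;>
      rw [← el_mul, ← el_mul]
    · rw [el_one, mul_one, mul_assoc, hc, ← mul_assoc]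
    · rw [← h.sqy, mul_assoc (F.el v) y, ← mul_assoc y, hc]
      simp only [mul_assoc]

/-- The subgroup cut out by a functional. -/
def sub6 {y : G} {e q : Bool} (h : F.Rep y (actN e q)) (χ : V5 → Bool)
    (hχ : ∀ u v, χ (add5 u v) = xor (χ u) (χ v)) : Subgroup G where
  carrier := {g | ∃ x, χ (proj5 x) = false ∧ F.el6 y x = g}
  one_mem' := ⟨one6, by
    have := hχ (proj5 one6) (proj5 one6)
    simpa [show add5 (proj5 one6) (proj5 one6) = proj5 one6 from rfl] using this, F.el6_one y⟩
  mul_mem' := by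
    rintro _ _ ⟨x, hx, rfl⟩ ⟨x', hx', rfl⟩
    exact ⟨_, by rw [proj_mul, hχ, hx, hx']; rfl, (F.el6_mul h x x').symm⟩
  inv_mem' := by
    rintro _ ⟨x, hx, rfl⟩
    refine ⟨mul6 e q (mul6 e q x x) x, by rw [(inv6 e q x).2, hx], eq_inv_of_mul_eq_one_right ?_⟩
    rw [F.el6_mul h, (inv6 e q x).1, el6_one]

theorem el6_injective {y : G} (hy : y ∉ F.S) : Function.Injective (F.el6 y) := fun x x' he =>
  Prod.ext (F.el_pw_inj hy _ _ _ _ he).1 (F.el_pw_inj hy _ _ _ _ he).2

theorem card_sub6 {y : G} {e q : Bool} (h : F.Rep y (actN e q)) (χ : V5 → Bool)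
    (hχ : ∀ u v, χ (add5 u v) = xor (χ u) (χ v)) :
    Nat.card (F.sub6 h χ hχ) = Fintype.card {x : N6 // χ (proj5 x) = false} := by
  rw [← Nat.card_eq_fintype_card]
  exact (Nat.card_congr (Equiv.ofBijective
    (fun x : {x : N6 // χ (proj5 x) = false} => (⟨F.el6 y x.1, x.1, x.2, rfl⟩ : F.sub6 h χ hχ))
    ⟨fun x x' e => Subtype.ext (F.el6_injective h.notMem (Subtype.ext_iff.1 e)),
      fun ⟨g, x, hx, hg⟩ => ⟨⟨x, hx⟩, Subtype.ext hg⟩⟩)).symm

open scoped Classical in
/-- The classes outside `S` containing conjugates of `t`. -/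
noncomputable def outT (y : G) : List V5 :=
  outV.filter fun w => decide (F.el6 y (lift5 w) ∈ cls F.t)

theorem mem_cls_el6 (hg : F.g.Both) (hd : F.lab = labOne) {y : G} {e q : Bool}
    (h : F.Rep y (actN e q)) (x : N6) :
    F.el6 y x ∈ cls F.t ↔ proj5 x ∈ base5 ++ F.outT y := by
  classical
  obtain ⟨v, d⟩ := x
  cases d
  · have hn : proj5 (v, false) ∉ F.outT y := fun hm =>
      absurd (outV_outer _ (List.mem_of_mem_filter hm)) (by simp [proj5])
    rw [List.mem_append, or_iff_left hn, show F.el6 y (v, false) = F.el v from F.el6_inner y v,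
      F.mem_cls_el hg, hd, inner_base, decide_eq_true_iff]
    rfl
  · have hb : proj5 (v, true) ∉ base5 := fun hm => absurd (base_outer _ hm) (by simp [proj5])
    rw [List.mem_append, or_iff_right hb, outT, List.mem_filter, decide_eq_true_iff,
      and_iff_right (show proj5 (v, true) ∈ outV by revert v; decide)]
    rcases pair6 e q v with h' | h'
    · rw [← h']
    · conv_lhs => rw [h']
      rw [← F.el6_mul h, ← F.el6_mul h, el6_t]
      conv_lhs =>
        rw [show F.t * F.el6 y (lift5 (proj5 (v, true))) * F.t =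
          F.t⁻¹ * F.el6 y (lift5 (proj5 (v, true))) * F.t by rw [inv_eq_of_mul_eq_one_right F.sq]]
      exact conj_mem_cls_iff _

theorem nodup_mem (y : G) : (base5 ++ F.outT y).Nodup := by
  refine List.nodup_append.2 ⟨by decide, List.Nodup.filter _ (by decide), ?_⟩
  intro a ha b hb e
  exact absurd (base_outer a ha) (by simp [e, outV_outer b (List.mem_of_mem_filter hb)])

theorem nIn_sub6 (hg : F.g.Both) (hd : F.lab = labOne) {y : G} {e q : Bool}
    (h : F.Rep y (actN e q)) (χ : V5 → Bool) (hχ : ∀ u v, χ (add5 u v) = xor (χ u) (χ v)) :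
    F.nIn (F.sub6 h χ hχ) = 2 * (base5 ++ F.outT y).countP fun w => !χ w := by
  classical
  set M := (base5 ++ F.outT y).filter fun w => !χ w with hM
  have hnd : M.Nodup := (F.nodup_mem y).filter _
  rw [List.countP_eq_length_filter, ← hM, ← List.toFinset_card_of_nodup hnd, mul_comm,
    ← Fintype.card_bool, ← Nat.card_eq_fintype_card,
    ← Nat.card_eq_finsetCard, ← Nat.card_prod]
  have hmem : ∀ x : N6, proj5 x ∈ M ↔ F.el6 y x ∈ cls F.t ∧ χ (proj5 x) = false := fun x => by
    rw [hM, List.mem_filter, ← F.mem_cls_el6 hg hd h, Bool.not_eq_true']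
  refine (Nat.card_congr (Equiv.ofBijective (fun p : M.toFinset × Bool =>
    (⟨F.el6 y ((p.1.1.1.1, (p.1.1.1.2, p.2)), p.1.1.2),
      ((hmem _).1 (List.mem_toFinset.1 p.1.2 : proj5 ((p.1.1.1.1, (p.1.1.1.2, p.2)), p.1.1.2) ∈ M)).1,
      _, ((hmem _).1 (List.mem_toFinset.1 p.1.2 :
        proj5 ((p.1.1.1.1, (p.1.1.1.2, p.2)), p.1.1.2) ∈ M)).2, rfl⟩ :
      {u : G // u ∈ cls F.t ∧ u ∈ F.sub6 h χ hχ})) ⟨?_, ?_⟩)).symm
  · rintro ⟨⟨⟨⟨a, l⟩, d⟩, hp⟩, m⟩ ⟨⟨⟨⟨a', l'⟩, d'⟩, hp'⟩, m'⟩ he
    have h' := F.el6_injective h.notMem (Subtype.ext_iff.1 he)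
    simp only [Prod.mk.injEq] at h'
    obtain ⟨⟨rfl, rfl, rfl⟩, rfl⟩ := h'
    rfl
  · rintro ⟨g, hg', ⟨⟨a, l, m⟩, d⟩, hx, rfl⟩
    exact ⟨⟨⟨proj5 ((a, l, m), d), List.mem_toFinset.2 ((hmem _).2 ⟨hg', hx⟩)⟩, m⟩,
      Subtype.ext rfl⟩

theorem nIn_S (hg : F.g.Both) (hd : F.lab = labOne) {y : G} {e q : Bool}
    (h : F.Rep y (actN e q)) : F.nIn F.S = 6 := by
  have hS : F.sub6 h (fun w => w.2) snd_add = F.S := by
    ext g
    constructor
    · rintro ⟨⟨v, d⟩, hd', rfl⟩
      obtain rfl : d = false := hd'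
      exact ⟨v, (F.el6_inner y v).symm⟩
    · rintro ⟨v, rfl⟩
      exact ⟨inner v, rfl, F.el6_inner y v⟩
  rw [← hS, F.nIn_sub6 hg hd h]
  have h0 : (F.outT y).countP (fun w : V5 => !w.2) = 0 := by
    simp only [List.countP_eq_zero, Bool.not_eq_true', Bool.not_eq_false]
    exact fun w hw => outV_outer w (List.mem_of_mem_filter hw)
  rw [List.countP_append, h0]
  rfl

theorem degree (hg : F.g.Both) (hd : F.lab = labOne) {y : G} {e q : Bool}
    (h : F.Rep y (actN e q)) {w : V5}
    (hw : w ∈ [((((true, false), true), false), false), ((((true, true), false), true), false)] ++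
      F.outT y) :
    ((base5 ++ F.outT y).countP fun v => !bil5 e w v) = 3 := by
  have hm : F.el6 y (lift5 w) ∈ cls F.t := by
    rw [F.mem_cls_el6 hg hd h, proj_lift]
    simp only [List.mem_append, List.mem_cons, List.not_mem_nil, or_false] at hw ⊢
    rcases hw with (rfl | rfl) | hw <;> first | exact Or.inl (by decide) | exact Or.inr hw
  have hQ : Nat.card (F.sub6 h (bil5 e w) (bil5_add e w)) = 32 := by
    rw [card_sub6, card_bil5 e w]
    simp only [List.mem_append, List.mem_cons, List.not_mem_nil, or_false] at hw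
    rcases hw with (hw | hw) | hw
    · exact Or.inl hw
    · exact Or.inr (Or.inl hw)
    · exact Or.inr (Or.inr (outV_outer w (List.mem_of_mem_filter hw)))
  obtain ⟨g, -, hgQ⟩ := F.exists_conj_S hm hQ (by
    rintro _ ⟨x, hx, rfl⟩
    rw [F.el6_mul h, F.el6_mul h, comm6 e q x (lift5 w) (by rw [proj_lift]; exact hx)])
  have hcard : F.nIn (F.sub6 h (bil5 e w) (bil5_add e w)) = F.nIn F.S :=
    Nat.card_congr ((MulAut.conj g).toEquiv.subtypeEquiv fun x => by
      rw [show (MulAut.conj g).toEquiv x = g * x * g⁻¹ from rfl, ← hgQ]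
      refine and_congr_left fun _ => ?_
      rw [show g * x * g⁻¹ = g⁻¹⁻¹ * x * g⁻¹ by rw [inv_inv], conj_mem_cls_iff])
  rw [F.nIn_sub6 hg hd h, F.nIn_S hg hd h] at hcard
  omega

theorem false_of_rep (hg : F.g.Both) (hG : NoTwo G) (hd : F.lab = labOne) {y : G} {e q : Bool}
    (h : F.Rep y (actN e q)) : False := by
  classical
  have hall := analysis_special e q
  rw [List.all_eq_true] at hall
  have hsub : F.outT y ∈ (outV.filter fun u => !sq5 e q u).sublists := by
    rw [List.mem_sublists]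
    have hsq : ∀ u, F.el6 y (lift5 u) ∈ cls F.t → (!sq5 e q u) = true := fun u hu => by
      have h1 := sq_of_mem_cls F.sq hu
      rw [F.el6_mul h, ← F.el6_one y] at h1
      rw [← proj_lift u, sq6 e q _ (F.el6_injective h.notMem h1)]
      rfl
    have : F.outT y =
        (outV.filter fun u => !sq5 e q u).filter fun u => decide (F.el6 y (lift5 u) ∈ cls F.t) := by
      rw [outT, List.filter_filter]
      refine List.filter_congr fun u _ => ?_
      by_cases hu : F.el6 y (lift5 u) ∈ cls F.t <;> simp [hu]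
      simpa using hsq u hu
    rw [this]
    exact List.filter_sublist
  have ht := hall _ hsub
  simp only [test5, Bool.or_eq_true, List.any_eq_true, decide_eq_true_eq] at ht
  rcases ht with ⟨c, -, d, -, hc⟩ | ⟨w, hw, hne⟩
  · refine F.forbid32 hG hd (F.sub6 h (psi5 c d) (psi5_add c d)) ?_ ?_
    · rw [card_sub6, card_psi5]
    · rw [F.nIn_sub6 hg hd h]
      omega
  · exact hne (F.degree hg hd h hw)

/-- The first case is impossible. -/
theorem labOne_false (hg : F.g.Both) (hG : NoTwo G) (hd : F.lab = labOne) : False := by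
  obtain ⟨y, hy, hyS⟩ : ∃ y ∈ F.NS, y ∉ F.S := by
    by_contra hcon
    push Not at hcon
    have := Subgroup.card_le_of_le (show F.NS ≤ F.S from hcon)
    rw [F.card_NS_one hg hd, F.card_S] at this
    omega
  obtain ⟨p, hp, hs⟩ := F.exists_special hg hG hd hy hyS
  simp only [Act.special, Bool.and_eq_true, Bool.or_eq_true, Bool.not_eq_true', decide_eq_true_eq]
    at hs
  obtain ⟨hK, hC⟩ := adjust_ok _ hp.hK _ hp.hC hs.1.1.1.1.1.1 hs.1.1.1.1.1.2
  set w := adjW p.qK p.qC with hw
  have hy1 : F.el w * y ∈ F.NS :=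
    mul_mem ((Subgroup.le_normalizer : F.S ≤ F.NS) ⟨w, rfl⟩) hy
  have hy1S : F.el w * y ∉ F.S := fun h => hyS <| by
    simpa using mul_mem (inv_mem (show F.el w ∈ F.S from ⟨w, rfl⟩)) h
  obtain ⟨⟨qK, qC, pa, s0⟩, h1, hs1⟩ := F.exists_special hg hG hd hy1 hy1S
  have him : ∀ v, cj (F.el w * y) (F.el v) = F.el (mul3 (mul3 w (p.phi v)) (inv3 w)) := fun v => by
    rw [← cj_cj, hp.act, ← el_mul, ← el_mul, el_inv]
    rfl
  have e1 : qK = (((true, true), false), (true, true)) := F.el_injective <| by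
    rw [← hK, ← h1.imK, him, ← el_mul, ← el_mul, ← el_mul, ← el_mul, ← hp.act, hp.imK]
  have e2 : qC = (((true, false), true), (false, true)) := F.el_injective <| by
    rw [← hC, ← h1.imC, him, ← el_mul, ← el_mul, ← el_mul, ← el_mul, ← hp.act, hp.imC]
  simp only [Act.special, Bool.and_eq_true, Bool.or_eq_true, Bool.not_eq_true', decide_eq_true_eq]
    at hs1
  obtain ⟨⟨⟨⟨⟨-, hpa⟩, h2⟩, h3⟩, h4⟩, h5⟩ := hs1
  obtain ⟨⟨⟨i, j⟩, k⟩, l, m⟩ := s0
  obtain ⟨pt, pa1, pa2⟩ := pa
  simp only at h2 h3 h4 h5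
  subst h2 h3 h4 h5 e1 e2
  rcases hpa with h' | h' <;> rw [h'] at h1
  · exact F.false_of_rep hg hG hd (e := false) (q := m) h1
  · exact F.false_of_rep hg hG hd (e := true) (q := m) h1

end Fr

end CfsgLib.InvTwoS6
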