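import Cfsg.Agent.Lib.InvTwoS6.SylowCase

/-!
# An odd number of conjugates forces a trivial pattern, which is impossible
-/

set_option autoImplicit false

namespace CfsgLib.InvTwoS6

/-- Whether a label is central. -/
def isCen (v : V3 × W2) : Bool := !v.1.1.2 && !v.1.2

theorem decide_same_first :
    ∀ (p : C3) (va : V3 × W2), (Lab.inS ⟨true, false, true, false, false⟩ va = true) → isCen va = false →
      Lab.inS ⟨true, false, true, false, false⟩ (C3.lbl p) = true → p ≠ (true, (false, false)) →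
      Lab.inS ⟨true, false, true, false, false⟩ (mul3 (C3.lbl p) va) = false := by decide

theorem decide_same_second :
    ∀ (p : C3) (va : V3 × W2), (Lab.inS ⟨false, true, false, true, false⟩ va = true) → isCen va = false →
      Lab.inS ⟨false, true, false, true, false⟩ (C3.lbl p) = true → p ≠ (true, (false, false)) →
      Lab.inS ⟨false, true, false, true, false⟩ (mul3 (C3.lbl p) va) = false := by decide

theorem decide_three :
    ∀ p q : C3, (∀ x : C3, Lab.inS ⟨true, false, false, true, false⟩ (C3.lbl x) = true →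
        C3.lin p q x ≠ x ∧
          Lab.inS ⟨true, false, false, true, false⟩ (C3.lbl (C3.lin p q x)) = true) →
      (p = (false, (true, false)) ∧ q = (true, (true, true))) ∨
        (p = (true, (true, true)) ∧ q = (true, (false, false))) := by decide

theorem decide_noncentral :
    ∀ v : V3 × W2, Lab.inS ⟨true, false, false, true, false⟩ v = true → isCen v = false →
      (∃ l, v = (((false, true), false), (false, l))) ∨
        ∃ l, v = (((true, false), true), (true, l)) := by decide

theorem conj_label_first : ∀ (u : V3 × W2) (l : Bool),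
    mul3 u (((false, true), false), (false, l)) = mul3 (((false, true), false), (false, l)) u ∨
    mul3 u (((false, true), false), (false, l)) = mul3 (((false, true), false), (false, !l)) u := by
  decide

namespace Fr

variable {G : Type*} [Group G] {L : Type*} [Group L] (F : Fr G L) [Finite G]

theorem isCen_iff_ce {v : V3 × W2} : isCen v = true ↔ ∃ x, C3.lbl x = v := by
  obtain ⟨⟨⟨i, j⟩, k⟩, w⟩ := v
  cases j <;> cases k <;> simp [isCen, C3.lbl, cenV]

/-- The image of a noncentral conjugate of `t` in `S` under `NS`. -/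
theorem cj_noncentral (hg : F.g.Both) {g : G} (hgn : g ∈ F.NS) {v : V3 × W2}
    (hv : F.lab.inS v = true) (hc : isCen v = false) :
    ∃ v', cj g (F.el v) = F.el v' ∧ F.lab.inS v' = true ∧ isCen v' = false := by
  obtain ⟨v', hv'⟩ := F.mem_S_iff.1 (F.conj_mem_S hgn (⟨v, rfl⟩ : F.el v ∈ F.S))
  refine ⟨v', hv'.symm, (F.mem_cls_el hg _).1 (hv' ▸ cj_mem_cls ((F.mem_cls_el hg _).2 hv)), ?_⟩
  by_contra hcen
  rw [Bool.not_eq_false, isCen_iff_ce] at hcen
  obtain ⟨x, rfl⟩ := hcen
  obtain ⟨y, hy⟩ := F.cj_central (inv_mem hgn) x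
  have : F.el v = F.ce y := by
    rw [← hy, show F.ce x = cj g (F.el v) from hv', cj_cj, inv_mul_cancel]
    simp [cj]
  rw [F.el_injective this] at hc
  simp [isCen, C3.lbl, cenV] at hc

theorem false_of_same (hg : F.g.Both) {d : Lab} (hd : F.lab = d) {v₀ : V3 × W2}
    (hv₀ : d.inS v₀ = true) (hc₀ : isCen v₀ = false)
    (ht₀ : d.inS (mul3 (((true, false), false), (false, false)) v₀) = true)
    (htc : isCen (mul3 (((true, false), false), (false, false)) v₀) = false)
    (hdec : ∀ (p : C3) (va : V3 × W2), d.inS va = true → isCen va = false →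
      d.inS (C3.lbl p) = true → p ≠ (true, (false, false)) → d.inS (mul3 (C3.lbl p) va) = false)
    {g : G} (hgn : g ∈ F.NS) (hgS : g ∉ F.S) : False := by
  subst hd
  obtain ⟨p, hp⟩ := F.cj_central hgn (true, (false, false))
  obtain ⟨va, hva, ha, hca⟩ := F.cj_noncentral hg hgn hv₀ hc₀
  have ht : F.ce (true, (false, false)) ∈ cls F.t := by rw [ce_t]; exact self_mem_cls _
  have h1 : F.lab.inS (C3.lbl p) = true := (F.mem_cls_el hg _).1 (hp ▸ cj_mem_cls ht : F.ce p ∈ _)
  have h2 : p ≠ (true, (false, false)) := fun e => F.cj_ne hgn hgS ht (e ▸ hp)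
  have h3 := hdec p va ha hca h1 h2
  obtain ⟨vb, hvb, hb, -⟩ := F.cj_noncentral hg hgn ht₀ htc
  have h4 : F.el vb = F.el (mul3 (C3.lbl p) va) := by
    rw [← hvb, el, ← SRel.el_mul3, ← SRel.el_mul3, cj_mul]
    show cj g (F.ce (true, (false, false))) * cj g (F.el v₀) = F.ce p * F.el va
    rw [hp, hva]
  rw [F.el_injective h4, h3] at hb
  exact absurd hb (by decide)

theorem cj_A_first {s : G} (hs : s ∈ F.S) (l : Bool) :
    ∃ l', cj s (F.el (((false, true), false), (false, l))) =
      F.el (((false, true), false), (false, l')) := by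
  obtain ⟨u, rfl⟩ := F.mem_S_iff.1 hs
  rcases conj_label_first u l with h | h
  · exact ⟨l, by rw [cj, el, SRel.el_mul3, h, ← SRel.el_mul3, mul_inv_cancel_right]⟩
  · exact ⟨!l, by rw [cj, el, SRel.el_mul3, h, ← SRel.el_mul3, mul_inv_cancel_right]⟩

theorem false_of_mixed (hg : F.g.Both) (hd : F.lab = ⟨true, false, false, true, false⟩)
    {g : G} (hgn : g ∈ F.NS) (hgS : g ∉ F.S) : False := by
  obtain ⟨p, q, hpq⟩ := F.cj_lin hgn
  have hin : ∀ x, Lab.inS ⟨true, false, false, true, false⟩ (C3.lbl x) = true →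
      C3.lin p q x ≠ x ∧ Lab.inS ⟨true, false, false, true, false⟩ (C3.lbl (C3.lin p q x)) = true :=
    fun x hx => by
      have hmem : F.ce x ∈ cls F.t := (F.mem_cls_el hg _).2 (hd.symm ▸ hx)
      refine ⟨fun e => F.cj_ne hgn hgS hmem (by rw [hpq, e]), ?_⟩
      exact hd ▸ (F.mem_cls_el hg _).1 (hpq x ▸ cj_mem_cls hmem : F.ce (C3.lin p q x) ∈ _)
  have hcases := decide_three p q hin
  -- `g` respects the two pairs
  obtain ⟨vA, hvA, hAin, hAc⟩ := F.cj_noncentral hg hgn
    (v := (((false, true), false), (false, false))) (by rw [hd]; rfl) rfl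
  obtain ⟨vT, hvT, hTin, hTc⟩ := F.cj_noncentral hg hgn
    (v := (((true, false), true), (true, false))) (by rw [hd]; rfl) rfl
  rw [hd] at hAin hTin
  have hzel : ∀ (v : V3 × W2) (l : Bool),
      F.el v * F.ce (false, (false, l)) = F.el (mul3 v (C3.lbl (false, (false, l)))) :=
    fun v l => SRel.el_mul3 _ _ _
  have hzfix : ∀ (h : G), h ∈ F.NS → ∀ l : Bool,
      cj h (F.ce (false, (false, l))) = F.ce (false, (false, l)) := fun h hh l => by
    cases l
    · simp [ce_eq, cj]
    · rw [ce_z, F.fix_z hh]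
  have hA : ∃ l, cj g F.A = F.el (((false, true), false), (false, l)) := by
    have eA : F.el (((false, true), false), (false, false)) = F.A := by simp [SRel.el3]
    rw [eA] at hvA
    rcases decide_noncentral vA hAin hAc with ⟨l, rfl⟩ | ⟨l, rfl⟩
    · exact ⟨l, hvA⟩
    exfalso
    have e1 : F.el (((true, false), true), (true, l)) =
        F.el (((true, false), true), (true, false)) * F.ce (false, (false, l)) := by
      rw [hzel]; cases l <;> rfl
    rcases decide_noncentral vT hTin hTc with ⟨m, rfl⟩ | ⟨m, rfl⟩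
    · -- the cube of `g` lies in `S` but swaps the pairs
      have hg3 : g * g * g ∈ F.S := by
        refine F.mem_S_iff_NS.2 ⟨mul_mem (mul_mem hgn hgn) hgn, ?_⟩
        have h3 : ∀ x, C3.lin p q (C3.lin p q (C3.lin p q x)) = x := by
          rcases hcases with ⟨rfl, rfl⟩ | ⟨rfl, rfl⟩ <;> decide
        have h : cj (g * g * g) F.t = F.t := by
          rw [← cj_cj, ← cj_cj, ← F.ce_t, hpq, hpq, hpq, h3]
        rw [cj] at h
        calc g * g * g * F.t = g * g * g * F.t * (g * g * g)⁻¹ * (g * g * g) := by group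
          _ = F.t * (g * g * g) := by rw [h]
      obtain ⟨l', hl'⟩ := F.cj_A_first hg3 false
      rw [eA, ← cj_cj, ← cj_cj, hvA, e1, cj_mul, hvT, hzfix g hgn, hzel, cj] at hl'
      have e2 : F.el (mul3 (((false, true), false), (false, m)) (C3.lbl (false, (false, l)))) =
          F.A * F.ce (false, (false, xor m l)) := by
        rw [← eA, hzel]; cases l <;> cases m <;> rfl
      rw [e2, show g * (F.A * F.ce (false, (false, xor m l))) * g⁻¹ =
        cj g F.A * cj g (F.ce (false, (false, xor m l))) by simp only [cj]; group, hvA,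
        hzfix g hgn, hzel] at hl'
      have := F.el_injective hl'
      revert this
      cases l <;> cases m <;> cases l' <;> decide
    · have h1 : cj g (F.A * F.el (((true, false), true), (true, false))) =
          F.el (mul3 (((true, false), true), (true, l)) (((true, false), true), (true, m))) := by
        rw [cj_mul, hvA, hvT, el, SRel.el_mul3]
      obtain ⟨y, hy⟩ : ∃ y : C3, C3.lbl y =
          mul3 (((true, false), true), (true, l)) (((true, false), true), (true, m)) :=
        isCen_iff_ce.1 (by cases l <;> cases m <;> rfl)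
      rw [← hy] at h1
      obtain ⟨y', hy'⟩ := F.cj_central (inv_mem hgn) y
      have h2 : F.A * F.el (((true, false), true), (true, false)) = F.ce y' := by
        rw [← hy', show F.ce y = F.el (C3.lbl y) from rfl, ← h1, cj_cj, inv_mul_cancel]
        simp [cj]
      rw [← eA, el, SRel.el_mul3] at h2
      have h3 := congrArg isCen (F.el_injective h2)
      exact absurd h3 (by simp [mul3, isCen, C3.lbl, cenV])
  -- adjust `g` to fix `A`
  obtain ⟨l, hl⟩ := hA
  obtain ⟨h, hh, hhA, hh'⟩ : ∃ h ∈ F.NS, cj h F.A = F.A ∧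
      ∀ x, cj h (F.ce x) = F.ce (C3.lin p q x) := by
    cases l
    · exact ⟨g, hgn, by rw [hl]; simp [SRel.el3], hpq⟩
    · have hC : F.C ∈ F.S := F.rho_mem ⟨((false, true), (false, false)), by simp [Gens.uf, wv]⟩
      refine ⟨F.C * g, mul_mem (F.mem_S_iff_NS.1 hC).1 hgn, ?_, fun x => ?_⟩
      · rw [← cj_cj, hl]
        simp only [SRel.el3, pw_true, pw_false, wv, one_mul, mul_one, cj]
        rw [← mul_assoc, F.rel.CA]
        simp only [mul_assoc]
        rw [← mul_assoc F.z F.z, F.rel.hz, one_mul, mul_inv_cancel, mul_one]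
      · rw [← cj_cj, hpq]
        have : F.C * F.ce (C3.lin p q x) = F.ce (C3.lin p q x) * F.C := by
          rw [show F.C = F.el (((false, false), true), (false, false)) by simp [SRel.el3], ce, el,
            SRel.el_mul3, SRel.el_mul3]
          congr 1
          obtain ⟨i, a, b⟩ := C3.lin p q x
          cases i <;> cases a <;> cases b <;> rfl
        rw [cj, this, mul_inv_cancel_right]
  obtain ⟨x, hx, hxA, hxtb, hxa⟩ : ∃ x ∈ F.NS, cj x F.A = F.A ∧
      cj x (F.ce (true, (true, true))) = F.t ∧ cj x F.a = F.ce (true, (true, true)) := by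
    rcases hcases with ⟨rfl, rfl⟩ | ⟨rfl, rfl⟩
    · exact ⟨h, hh, hhA, by rw [hh', ← ce_t]; rfl, by rw [← ce_a, hh']; rfl⟩
    · refine ⟨h * h, mul_mem hh hh, by rw [← cj_cj, hhA, hhA], ?_, ?_⟩
      · rw [← cj_cj, hh', hh', ← ce_t]; rfl
      · rw [← cj_cj, ← ce_a, hh', hh']; rfl
  obtain ⟨σ, -, s1, s2, s3⟩ := F.side.sigma
  have sb : σ * (F.g.a * F.g.z) * σ⁻¹ = F.g.a * F.g.z := by
    have sz : σ * F.g.z * σ⁻¹ = F.g.a1 * F.g.z * F.g.a := by
      calc σ * F.g.z * σ⁻¹ = σ * (F.g.a1 * (F.g.a1 * F.g.z)) * σ⁻¹ := by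
            rw [← mul_assoc F.g.a1 F.g.a1, F.side.sq_a1, one_mul]
        _ = (σ * F.g.a1 * σ⁻¹) * (σ * (F.g.a1 * F.g.z) * σ⁻¹) := by group
        _ = _ := by rw [s1, s2]
    calc σ * (F.g.a * F.g.z) * σ⁻¹ = (σ * F.g.a * σ⁻¹) * (σ * F.g.z * σ⁻¹) := by group
      _ = F.g.a1 * F.g.a1 * F.g.z * F.g.a := by rw [s3, sz]; group
      _ = F.g.a * F.g.z := by rw [F.side.sq_a1, one_mul, F.side.comm_za]
  set y := x * F.ρ σ * x⁻¹ with hy
  have hyt : cj y F.t = F.t := by
    have h1 : cj x⁻¹ F.t = F.ce (true, (true, true)) := by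
      rw [← hxtb, cj_cj, inv_mul_cancel]; simp [cj]
    rw [hy, ← cj_cj, ← cj_cj, h1]
    have h2 : cj (F.ρ σ) (F.ce (true, (true, true))) = F.ce (true, (true, true)) := by
      rw [ce_eq]
      simp only [pw_true, wv, cj, a, z, ← map_mul]
      rw [← mul_assoc (F.ρ σ), ← F.comm, mul_assoc F.t, ← map_mul, mul_assoc F.t, ← map_inv,
        ← map_mul, sb]
    rw [h2, hxtb]
  have hyA : cj y (F.A * F.z) = F.ce (true, (true, true)) := by
    have h1 : cj x⁻¹ (F.A * F.z) = F.A * F.z := by
      have : cj x (F.A * F.z) = F.A * F.z := by rw [cj_mul, hxA, F.fix_z hx]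
      conv_lhs => rw [← this, cj_cj, inv_mul_cancel]
      simp [cj]
    have h2 : cj (F.ρ σ) (F.A * F.z) = F.a := by
      simp only [A, z, a, cj, ← map_mul, ← map_inv]
      rw [s2]
    rw [hy, ← cj_cj, ← cj_cj, h1, h2, hxa]
  have hyc : y⁻¹ * F.t = F.t * y⁻¹ := by
    rw [cj] at hyt
    conv_lhs => rw [← hyt]
    group
  obtain ⟨m, hm⟩ := F.conj_rho y⁻¹ hyc (F.g.a1 * F.g.z)
  rw [inv_inv, map_mul] at hm
  rw [cj, show F.A * F.z = F.ρ F.g.a1 * F.ρ F.g.z from rfl, hm, ce_eq] at hyA
  simp only [pw_true, wv, a, z, ← map_mul] at hyA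
  exact absurd (F.pair_inj (i := false) (j := true) ((one_mul _).trans hyA)).1 (by decide)

/-- The number of conjugates of `t` is even. -/
theorem nT_even (hg : F.g.Both) (hG : NoTwo G) : F.nT % 2 = 0 := by
  by_contra hodd
  have hok := F.lab_ok hG
  have hn : F.nT % 2 = 1 := by omega
  have hab := hok.ab
  have htab := hok.tab
  have hj := hok.j
  rw [hn] at hab htab hj
  have h0 : ∀ (w : C3), Lab.inS F.lab (C3.lbl w) = true → w ≠ (true, (false, false)) →
      ∃ g ∈ F.NS, g ∉ F.S := by
    intro w hw hne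
    obtain ⟨k, hk, hkw⟩ := F.exists_NS (v := w.1) (w := w.2) ((F.mem_cls_el hg _).2 hw)
    refine ⟨k, hk, fun hS => hne (F.ce_injective ?_)⟩
    rw [ce_t]
    exact hkw.symm.trans (by rw [mul_assoc, ← F.commute_t_of_mem hS, inv_mul_cancel_left])
  generalize hd : F.lab = d at hab htab hj h0
  obtain ⟨A, B, TA, TB, J⟩ := d
  cases J
  swap
  · simp [bnat] at hj
  cases A <;> cases B <;> simp [bnat] at hab <;> cases TA <;> cases TB <;> simp [bnat] at htab
  · -- `b` and `t b`
    obtain ⟨g, hgn, hgS⟩ := h0 (false, (true, true)) rfl (by decide)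
    exact F.false_of_same hg hd (v₀ := (((false, false), true), (true, false))) rfl rfl rfl rfl
      decide_same_second hgn hgS
  · -- `b` and `t a`
    obtain ⟨s, sa, sz, -, -⟩ := F.side.sgn
    have sb : s F.g.b = -1 := by rw [Gens.b, map_mul, sa, sz, mul_one]
    have hd' : (F.twist s).lab = ⟨true, false, false, true, false⟩ := by
      have e := hd
      simp only [lab, Lab.mk.injEq, decide_eq_true_eq, decide_eq_false_iff_not] at e ⊢
      exact ⟨(F.twist_inT_neg s sa).2 e.2.2.1, fun h => e.2.2.2.1 ((F.twist_inT_neg s sb).1 h),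
        fun h => e.1 ((F.twist_tt_neg s sa).1 h), (F.twist_tt_neg s sb).2 e.2.1,
        fun h => e.2.2.2.2 ((F.twist_tt_pos s sz).1 h)⟩
    obtain ⟨k, hk, hkw⟩ := (F.twist s).exists_NS (v := false) (w := (true, false))
      (((F.twist s).mem_cls_el hg _).2 (hd'.symm ▸ rfl))
    refine (F.twist s).false_of_mixed hg hd' hk fun hS => ?_
    have h := (F.twist s).commute_t_of_mem hS
    have e : (F.twist s).ce (false, (true, false)) = (F.twist s).ce (true, (false, false)) := by
      rw [ce_t]; exact hkw.symm.trans (by rw [mul_assoc, ← h, inv_mul_cancel_left])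
    exact absurd ((F.twist s).ce_injective e) (by decide)
  · -- `a` and `t b`
    obtain ⟨g, hgn, hgS⟩ := h0 (false, (true, false)) rfl (by decide)
    exact F.false_of_mixed hg hd hgn hgS
  · -- `a` and `t a`
    obtain ⟨g, hgn, hgS⟩ := h0 (false, (true, false)) rfl (by decide)
    exact F.false_of_same hg hd (v₀ := (((false, true), false), (false, false))) rfl rfl rfl rfl
      decide_same_first hgn hgS

end Fr

end CfsgLib.InvTwoS6
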