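import Cfsg.Agent.Lib.InvTwoS6.FourFinal
import Cfsg.Agent.Lib.InvTwoS6.CycSix
import Cfsg.Agent.Lib.InvTwoS6.QuadFinal
import Cfsg.Agent.Lib.InvTwoS6.R1B
import Cfsg.Agent.Lib.InvTwoS6.ThreeOrbit
import Cfsg.Agent.Lib.InvTwoS6.DataPerm
import Mathlib.Algebra.Group.TypeTags.Finite
import Mathlib.Data.ZMod.Basic

/-!
# An involution with centralizer `Z₂ × S₆` or `Z₂ × S₇` forces a subgroup of index two
-/

set_option autoImplicit false

namespace CfsgLib.InvTwoS6

namespace Fr

variable {G : Type*} [Group G] {L : Type*} [Group L] [Finite G]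

theorem labTwo_false (F : Fr G L) (hg : F.g.Both) (hg' : F.g.swap.Both) (hG : NoTwo G)
    (hd : F.lab = labTwo) : False := by
  classical
  by_cases hfix : ∀ g ∈ F.NS, cj g F.a = F.a
  · exact F.four_false hg hg' hG hd hfix
  · push Not at hfix
    obtain ⟨g, hgn, hga⟩ := hfix
    obtain ⟨p, al, e, h⟩ := F.exists_cyc hg hg' hd hgn hga
    cases al
    · obtain ⟨M, hM, hiff⟩ := h.configurations hg hd
      rcases hM with rfl | rfl
      · exact h.quad_false hg hG hd hiff
      · exact h.six_false hg hG hd hiff
    · exact h.alpha_false hg hG hd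

theorem not_noTwo (F : Fr G L) (hg : F.g.Both) (hg' : F.g.swap.Both) : ¬ NoTwo G := by
  intro hG
  obtain ⟨hab, htab, hj⟩ := F.lab_ok hG
  have hev := F.nT_even hg hG
  rw [hev] at hab htab hj
  obtain ⟨s, sa, sz, -, -⟩ := F.side.sgn
  have sb : s F.g.b = -1 := by rw [Gens.b, map_mul, sa, sz, mul_one]
  rcases hl : F.lab with ⟨A, B, TA, TB, J⟩
  rw [hl] at hab htab hj
  simp only [bnat] at hab htab hj
  cases A <;> cases B <;> cases TA <;> cases TB <;> cases J <;> simp at hab htab hj
  · exact F.labOne_false hg hG (by rw [hl]; rfl)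
  · exact F.labTwo_false hg hg' hG (by rw [hl]; rfl)
  · refine (F.twist s).labTwo_false hg hg' hG ?_
    classical
    simp only [lab, Lab.mk.injEq, decide_eq_true_eq, decide_eq_false_iff_not] at hl
    obtain ⟨lA, lB, lTA, lTB, lJ⟩ := hl
    simp only [lab, labTwo, Lab.mk.injEq, decide_eq_true_eq, decide_eq_false_iff_not]
    exact ⟨fun h => lTA ((F.twist_inT_neg s sa).1 h), fun h => lTB ((F.twist_inT_neg s sb).1 h),
      (F.twist_tt_neg s sa).2 lA, (F.twist_tt_neg s sb).2 lB, (F.twist_tt_pos s sz).2 lJ⟩
  · exact F.sixOrbit hg hl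

end Fr

theorem perm_central {n : ℕ} (h3 : 3 ≤ n) {l : Equiv.Perm (Fin n)} (h : ∀ x, l * x = x * l) :
    l = 1 := by
  ext i
  congr 1
  by_contra hne
  simp only [Equiv.Perm.one_apply] at hne
  obtain ⟨k, -, hk⟩ := Finset.exists_mem_notMem_of_card_lt_card
    (s := ({i, l i} : Finset (Fin n))) (t := Finset.univ)
    (lt_of_le_of_lt (Finset.card_le_two) (by rw [Finset.card_univ, Fintype.card_fin]; omega))
  simp only [Finset.mem_insert, Finset.mem_singleton, not_or] at hk
  have h1 := congrArg (fun σ : Equiv.Perm (Fin n) => σ i) (h (Equiv.swap i k))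
  simp only [Equiv.Perm.mul_apply, Equiv.swap_apply_left,
    Equiv.swap_apply_of_ne_of_ne hne (fun e => hk.2 e.symm)] at h1
  exact hk.1 (l.injective h1)

theorem index_two_of_cent {G : Type*} [Group G] [Finite G] {L : Type*} [Group L] (t : G)
    (ht : orderOf t = 2) (g : Gens L) (hg : g.Both) (hg' : g.swap.Both)
    (hZ : ∀ l : L, (∀ x, l * x = x * l) → l = 1)
    (e : Subgroup.centralizer ({t} : Set G) ≃* Multiplicative (ZMod 2) × L) :
    ∃ H : Subgroup G, H.index = 2 := by
  set C := Subgroup.centralizer ({t} : Set G)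
  let t' : C := ⟨t, Subgroup.mem_centralizer_singleton_iff.2 rfl⟩
  set c : Multiplicative (ZMod 2) := Multiplicative.ofAdd 1 with hc
  have hall : ∀ x : Multiplicative (ZMod 2), x = 1 ∨ x = c := by rw [hc]; decide
  have ht1 : t ≠ 1 := fun h => by rw [h, orderOf_one] at ht; omega
  have hcomm : ∀ x : C, t' * x = x * t' := fun x =>
    Subtype.ext (Subgroup.mem_centralizer_singleton_iff.1 x.2).symm
  have het : e t' = (c, 1) := by
    have h2 : (e t').2 = 1 := hZ _ fun x => by
      have := congrArg Prod.snd (congrArg e (hcomm (e.symm (1, x))))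
      simpa using this
    rcases hall (e t').1 with h1 | h1
    · exfalso
      have h0 : e t' = 1 := Prod.ext h1 h2
      exact ht1 (congrArg Subtype.val (e.map_eq_one_iff.1 h0))
    · exact Prod.ext h1 h2
  let ρ : L →* G := C.subtype.comp (e.symm.toMonoidHom.comp (MonoidHom.inr _ _))
  let F : Fr G L :=
    { t := t
      ρ := ρ
      g := g
      side := hg.fst
      sq := by rw [← pow_two, ← ht, pow_orderOf_eq_one]
      inj := fun x y h => by simpa [ρ] using h
      comm := fun l => congrArg Subtype.val (hcomm (e.symm (1, l)))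
      cent := fun x hx => by
        set x' : C := ⟨x, Subgroup.mem_centralizer_singleton_iff.2 hx⟩ with hx'
        have hp : ((e x').1, (e x').2) = e x' := rfl
        rcases hall (e x').1 with h1 | h1
        · refine ⟨false, (e x').2, ?_⟩
          have e1 : e.symm (1, (e x').2) = x' := by rw [← h1, hp, e.symm_apply_apply]
          rw [pw_false, one_mul]
          exact congrArg Subtype.val e1
        · refine ⟨true, (e x').2, ?_⟩
          have e1 : t' * e.symm (1, (e x').2) = x' := e.injective (by
            rw [map_mul, e.apply_symm_apply, het, Prod.mk_mul_mk, mul_one, one_mul, ← h1])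
          rw [pw_true]
          exact congrArg Subtype.val e1
      notmem := fun l h => by
        have h' : e.symm (1, l) = t' := Subtype.ext h
        have h'' := congrArg (fun y => (e y).1) h'
        simp only [e.apply_symm_apply, het] at h''
        exact absurd h'' (by rw [hc]; decide) }
  by_contra hno
  push Not at hno
  exact F.not_noTwo hg hg' hno

theorem index_two_six {G : Type*} [Group G] [Finite G] (t : G) (ht : orderOf t = 2)
    (e : Subgroup.centralizer ({t} : Set G) ≃*
      Multiplicative (ZMod 2) × Equiv.Perm (Fin 6)) : ∃ H : Subgroup G, H.index = 2 :=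
  index_two_of_cent t ht _ both6 both6' (fun _ h => perm_central (by norm_num) h) e

theorem index_two_seven {G : Type*} [Group G] [Finite G] (t : G) (ht : orderOf t = 2)
    (e : Subgroup.centralizer ({t} : Set G) ≃*
      Multiplicative (ZMod 2) × Equiv.Perm (Fin 7)) : ∃ H : Subgroup G, H.index = 2 :=
  index_two_of_cent t ht _ both7 both7' (fun _ h => perm_central (by norm_num) h) e

end CfsgLib.InvTwoS6
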