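import Mathlib.Algebra.Group.Commute.Basic
import Mathlib.Data.Bool.Basic
import Mathlib.Tactic.Group

/-!
# Groups of class two built one involution-like generator at a time

`w` sends pairs of Booleans to a four-group; a layer is a normal form `Φ` whose product is given
by a bilinear cocycle with values in that four-group.
-/

set_option autoImplicit false

namespace CfsgLib.InvTwoS6

/-- Pairs of Booleans, as the four-group. -/
abbrev W2 := Bool × Bool

/-- Addition of pairs. -/
def W2.add (x y : W2) : W2 := (xor x.1 y.1, xor x.2 y.2)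

/-- Scalar multiple. -/
def W2.smul (e : Bool) (x : W2) : W2 := cond e x (false, false)

variable {G : Type*} [Group G]

/-- A power with Boolean exponent. -/
def pw (x : G) (e : Bool) : G := cond e x 1

@[simp] theorem pw_true (x : G) : pw x true = x := rfl
@[simp] theorem pw_false (x : G) : pw x false = 1 := rfl

/-- The four-group on `a` and `z`. -/
def wv (a z : G) (k : W2) : G := pw a k.1 * pw z k.2

@[simp] theorem wv_zero (a z : G) : wv a z (false, false) = 1 := by simp [wv]

theorem wv_mul {a z : G} (ha : a * a = 1) (hz : z * z = 1) (haz : a * z = z * a) (x y : W2) :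
    wv a z x * wv a z y = wv a z (W2.add x y) := by
  obtain ⟨x1, x2⟩ := x
  obtain ⟨y1, y2⟩ := y
  cases x1 <;> cases x2 <;> cases y1 <;> cases y2 <;> simp [wv, W2.add, ha, hz] <;>
    first
    | rw [← mul_assoc, ha, one_mul]
    | rw [mul_assoc, hz, mul_one]
    | rw [← mul_assoc, ← haz, mul_assoc, hz, mul_one]
    | rw [← haz, ← mul_assoc, ha, one_mul]
    | rw [← mul_assoc, mul_assoc a z a, ← haz, ← mul_assoc, ha, one_mul, hz]
    | exact haz.symm
    | (rw [haz]; simp [← mul_assoc, ha, hz])
    | rw [← mul_assoc z, ← haz, mul_assoc, ha, mul_one]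
    | rw [mul_assoc, ← haz, ← mul_assoc, ha, one_mul]
    | rw [← haz, ← mul_assoc, ha, one_mul]

/-- A generator commuting with `w` and moving each normal form by a value of `w`. -/
theorem step_law {V : Type*} {w : W2 → G} (hw : ∀ x y, w x * w y = w (W2.add x y))
    {Φ : V → G} {add : V → V → V} {f : V → V → W2}
    (law : ∀ x y, Φ x * Φ y = Φ (add x y) * w (f x y))
    {g : G} {q : W2} {β : V → W2} (hg : g * g = w q) (hgw : ∀ k, g * w k = w k * g)
    (hβ : ∀ x, g * Φ x = Φ x * g * w (β x)) (u v : V × Bool) :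
    (Φ u.1 * pw g u.2) * (Φ v.1 * pw g v.2) =
      (Φ (add u.1 v.1) * pw g (xor u.2 v.2)) *
        w (W2.add (W2.add (f u.1 v.1) (W2.smul u.2 (β v.1))) (W2.smul (u.2 && v.2) q)) := by
  obtain ⟨x, e⟩ := u
  obtain ⟨y, d⟩ := v
  have h0 : w (false, false) = 1 := by
    have h := hw (false, false) (false, false)
    simpa [W2.add] using h
  cases e <;> cases d <;> simp only [pw_true, pw_false, W2.smul, Bool.and_true, Bool.and_false,
    Bool.true_and, Bool.xor_false, Bool.false_xor, Bool.xor_self, cond_true,
    cond_false, mul_one, one_mul, Bool.bne_false, Bool.false_bne, bne_self_eq_false]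
  · rw [law, ← hw, ← hw, h0, mul_one, mul_one]
  · rw [← mul_assoc, law, ← hw, ← hw, h0, mul_one, mul_one, mul_assoc, ← hgw, ← mul_assoc]
  · rw [mul_assoc, hβ, ← hw, ← hw, h0, mul_one, ← mul_assoc, ← mul_assoc, law]
    simp only [mul_assoc]
    rw [← mul_assoc (w (f x y)) g, ← hgw, mul_assoc]
  · calc Φ x * g * (Φ y * g) = Φ x * (g * Φ y) * g := by simp only [mul_assoc]
      _ = Φ x * Φ y * (g * (w (β y) * g)) := by rw [hβ]; simp only [mul_assoc]
      _ = Φ x * Φ y * (w (β y) * (g * g)) := by
        rw [show g * (w (β y) * g) = w (β y) * (g * g) by rw [← mul_assoc, hgw, mul_assoc]]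
      _ = Φ (add x y) * w (W2.add (W2.add (f x y) (β y)) q) := by
        rw [law, hg, ← hw, ← hw]; simp only [mul_assoc]

/-- How a further generator moves the normal forms of the next layer. -/
theorem step_beta {V : Type*} {w : W2 → G} (hw : ∀ x y, w x * w y = w (W2.add x y))
    {Φ : V → G} {g h : G} {β : V → W2} {c : W2} (hgw : ∀ k, g * w k = w k * g)
    (hβ : ∀ x, h * Φ x = Φ x * h * w (β x)) (hc : h * g = g * h * w c) (u : V × Bool) :
    h * (Φ u.1 * pw g u.2) = (Φ u.1 * pw g u.2) * h * w (W2.add (β u.1) (W2.smul u.2 c)) := by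
  obtain ⟨x, e⟩ := u
  cases e
  · simp [W2.smul, hβ, W2.add]
  · simp only [pw_true, W2.smul, cond_true]
    calc h * (Φ x * g) = Φ x * h * (w (β x) * g) := by rw [← mul_assoc, hβ, mul_assoc]
      _ = Φ x * (h * g) * w (β x) := by rw [← hgw]; simp only [mul_assoc]
      _ = Φ x * g * h * (w c * w (β x)) := by rw [hc]; simp only [mul_assoc]
      _ = Φ x * g * h * w (W2.add (β x) c) := by
        rw [hw]; congr 2; simp [W2.add, Bool.xor_comm]

end CfsgLib.InvTwoS6
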