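import Mathlib.GroupTheory.GroupAction.Quotient
import Mathlib.GroupTheory.PGroup

/-!
# A union of orbits of a 2-group, none shorter than three
-/

set_option autoImplicit false

namespace CfsgLib.InvTwoS6

theorem four_dvd_card {K X : Type*} [Group K] [Finite K] [MulAction K X] [Finite X]
    (hK : IsPGroup 2 K) (h : ∀ x : X, ∃ a b : K, a • x ≠ x ∧ b • x ≠ x ∧ b • x ≠ a • x) :
    4 ∣ Nat.card X := by
  classical
  have : Fintype (MulAction.orbitRel.Quotient K X) := Fintype.ofFinite _
  rw [Nat.card_congr (MulAction.selfEquivSigmaOrbits K X), Nat.card_sigma]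
  refine Finset.dvd_sum fun q _ => ?_
  haveI : Fact (Nat.Prime 2) := ⟨Nat.prime_two⟩
  obtain ⟨m, hm⟩ := hK.card_orbit (a := q.out)
  obtain ⟨a, b, ha, hb, hab⟩ := h q.out
  have h3 : 3 ≤ Nat.card (MulAction.orbit K q.out) := by
    have hinj : Function.Injective
        (![⟨q.out, MulAction.mem_orbit_self _⟩, ⟨a • q.out, MulAction.mem_orbit _ _⟩,
          ⟨b • q.out, MulAction.mem_orbit _ _⟩] : Fin 3 → MulAction.orbit K q.out) := by
      intro i j hij
      fin_cases i <;> fin_cases j <;>
        simp [Subtype.mk.injEq, ha, hb, hab, Ne.symm ha, Ne.symm hb, Ne.symm hab] at hij ⊢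
    have := Nat.card_le_card_of_injective _ hinj
    simpa using this
  rw [hm] at h3 ⊢
  rcases m with _ | _ | m
  · simp at h3
  · simp at h3
  · exact ⟨2 ^ m, by rw [pow_succ, pow_succ]; ring⟩

end CfsgLib.InvTwoS6
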