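import Mathlib.GroupTheory.Perm.Cycle.Type
import Mathlib.Algebra.GroupWithZero.Units.Fintype
import Mathlib.GroupTheory.Index
import Mathlib.GroupTheory.GroupAction.Quotient
import Mathlib.GroupTheory.GroupAction.ConjAct

/-!
# The parity of an involution on the cosets of an arbitrary subgroup

If `G` has no subgroup of index two, an involution `t` moves a number of cosets of any subgroup
`H` divisible by four, and the number of cosets it fixes is `|C(t)| |t^G ∩ H| / |H|`.
-/

set_option autoImplicit false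

namespace CfsgLib.InvTwoS6

open Equiv

variable {G : Type*} [Group G]

/-- The conjugates of `t`. -/
def cls (t : G) : Set G := {u | ∃ g : G, g⁻¹ * t * g = u}

theorem self_mem_cls (t : G) : t ∈ cls t := ⟨1, by group⟩

theorem conj_mem_cls {t u : G} (hu : u ∈ cls t) (g : G) : g⁻¹ * u * g ∈ cls t := by
  obtain ⟨h, rfl⟩ := hu
  exact ⟨h * g, by group⟩

theorem conj_mem_cls_iff {t u : G} (g : G) : g⁻¹ * u * g ∈ cls t ↔ u ∈ cls t := by
  refine ⟨fun h => ?_, fun h => conj_mem_cls h g⟩
  have := conj_mem_cls h g⁻¹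
  rwa [inv_inv, show g * (g⁻¹ * u * g) * g⁻¹ = u by group] at this

theorem sq_of_mem_cls {t u : G} (ht : t * t = 1) (hu : u ∈ cls t) : u * u = 1 := by
  obtain ⟨g, rfl⟩ := hu
  calc g⁻¹ * t * g * (g⁻¹ * t * g) = g⁻¹ * (t * t) * g := by group
    _ = 1 := by rw [ht]; group

/-- The group has no subgroup of index two. -/
def NoTwo (G : Type*) [Group G] : Prop := ∀ H : Subgroup G, H.index ≠ 2

theorem units_eq_one (hG : NoTwo G) (f : G →* ℤˣ) (g : G) : f g = 1 := by
  by_contra hg
  refine hG f.ker ?_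
  rw [Subgroup.index_ker]
  have htop : f.range = ⊤ := by
    refine eq_top_iff.2 fun u _ => ?_
    rcases Int.units_eq_one_or u with rfl | rfl
    · exact one_mem _
    · exact ⟨g, (Int.units_eq_one_or (f g)).resolve_left hg⟩
  rw [htop, Subgroup.card_top, Nat.card_eq_fintype_card, Fintype.card_units_int]

variable [Finite G]

/-- An involution moves a number of cosets divisible by four. -/
theorem four_dvd_moved (hG : NoTwo G) (H : Subgroup G) {t : G} (ht : t * t = 1) :
    ∃ m : ℕ, Nat.card (G ⧸ H) = Nat.card {q : G ⧸ H // t • q = q} + 4 * m := by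
  classical
  haveI : Fintype (G ⧸ H) := Fintype.ofFinite _
  set σ : Perm (G ⧸ H) := MulAction.toPermHom G (G ⧸ H) t with hσ
  have hσ2 : σ ^ 2 = 1 := by rw [hσ, ← map_pow, pow_two, ht, map_one]
  have hs : Perm.sign σ = 1 :=
    units_eq_one hG (Perm.sign.comp (MulAction.toPermHom G (G ⧸ H))) t
  rw [Perm.sign_of_pow_two_eq_one hσ2, neg_one_pow_eq_one_iff_even (by decide)] at hs
  have hfix : Fintype.card (Function.fixedPoints σ) = Nat.card {q : G ⧸ H // t • q = q} := by
    rw [← Nat.card_eq_fintype_card]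
    exact Nat.card_congr (Equiv.refl _)
  have hle := σ.sum_cycleType_le
  have hsum : σ.cycleType.sum = σ.cycleType.card * 2 := by
    conv_lhs => rw [Perm.cycleType_of_pow_prime_eq_one hσ2]
    simp
  have hf := σ.card_fixedPoints
  rw [hf, Nat.sub_sub_self hle, hsum, Nat.mul_div_cancel _ two_pos] at hs
  obtain ⟨r, hr⟩ := hs
  refine ⟨r, ?_⟩
  rw [Nat.card_eq_fintype_card, ← hfix]
  omega

theorem smul_coe_eq_iff {H : Subgroup G} (a g : G) :
    a • (g : G ⧸ H) = g ↔ g⁻¹ * a * g ∈ H := by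
  rw [MulAction.Quotient.smul_coe, smul_eq_mul, eq_comm, QuotientGroup.eq, mul_assoc]

/-- Counting the fixed cosets. -/
theorem card_fixed_mul (H : Subgroup G) (t : G) :
    Nat.card {q : G ⧸ H // t • q = q} * Nat.card H =
      Nat.card (Subgroup.centralizer ({t} : Set G)) * Nat.card {u : G // u ∈ cls t ∧ u ∈ H} := by
  classical
  have e1 : {g : G // g⁻¹ * t * g ∈ H} ≃
      H × {q : G ⧸ H // t • q = q} :=
    (Equiv.subtypeEquivRight fun g => (smul_coe_eq_iff t g).symm).trans
      (QuotientGroup.preimageMkEquivSubgroupProdSet H {q : G ⧸ H | t • q = q})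
  let f : {g : G // g⁻¹ * t * g ∈ H} → {u : G // u ∈ cls t ∧ u ∈ H} :=
    fun g => ⟨g.1⁻¹ * t * g.1, ⟨g.1, rfl⟩, g.2⟩
  have e2 : ∀ u : {u : G // u ∈ cls t ∧ u ∈ H},
      Nonempty ({g // f g = u} ≃ Subgroup.centralizer ({t} : Set G)) := fun u => by
    obtain ⟨g₀, hg₀⟩ := u.2.1
    have hconj : ∀ g : {g // f g = u}, g.1.1⁻¹ * t * g.1.1 = g₀⁻¹ * t * g₀ := fun g => by
      have h : (f g.1).1 = u.1 := congrArg Subtype.val g.2
      exact h.trans hg₀.symm
    have hback : ∀ c : Subgroup.centralizer ({t} : Set G),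
        (c.1 * g₀)⁻¹ * t * (c.1 * g₀) = u.1 := fun c => by
      have hc := Subgroup.mem_centralizer_singleton_iff.1 c.2
      rw [← hg₀, show (c.1 * g₀)⁻¹ * t * (c.1 * g₀) = g₀⁻¹ * (c.1⁻¹ * (t * c.1)) * g₀ by group, ← hc]
      group
    refine ⟨{
      toFun := fun g => ⟨g.1.1 * g₀⁻¹, ?_⟩
      invFun := fun c => ⟨⟨c.1 * g₀, ?_⟩, ?_⟩
      left_inv := fun g => by
        apply Subtype.ext; apply Subtype.ext
        exact inv_mul_cancel_right g.1.1 g₀
      right_inv := fun c => by
        apply Subtype.ext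
        exact mul_inv_cancel_right c.1 g₀ }⟩
    · rw [Subgroup.mem_centralizer_singleton_iff]
      calc g.1.1 * g₀⁻¹ * t = g.1.1 * (g₀⁻¹ * t * g₀) * g₀⁻¹ := by group
        _ = t * (g.1.1 * g₀⁻¹) := by rw [← hconj g]; group
    · rw [hback]; exact u.2.2
    · apply Subtype.ext
      exact hback c
  have key : Nat.card {g : G // g⁻¹ * t * g ∈ H} =
      Nat.card {u : G // u ∈ cls t ∧ u ∈ H} * Nat.card (Subgroup.centralizer ({t} : Set G)) := by
    rw [← Nat.card_prod]
    exact Nat.card_congr ((Equiv.sigmaFiberEquiv f).symm.trans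
      ((Equiv.sigmaCongrRight fun u => (e2 u).some).trans (Equiv.sigmaEquivProd _ _)))
  rw [Nat.card_congr e1, Nat.card_prod] at key
  rw [mul_comm, key, mul_comm]

/-- The congruence used everywhere. -/
theorem mod_four_eq (hG : NoTwo G) (H : Subgroup G) {t : G} (ht : t * t = 1) {F : ℕ}
    (hF : F * Nat.card H =
      Nat.card (Subgroup.centralizer ({t} : Set G)) * Nat.card {u : G // u ∈ cls t ∧ u ∈ H}) :
    H.index % 4 = F % 4 := by
  obtain ⟨m, hm⟩ := four_dvd_moved hG H ht
  have hF' := card_fixed_mul H t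
  rw [← hF] at hF'
  rw [Subgroup.index_eq_card, hm, Nat.eq_of_mul_eq_mul_right Nat.card_pos hF']
  omega

end CfsgLib.InvTwoS6
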