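import Cfsg.Agent.Lib.InvTwoS6.CycImage

/-!
# Four cosets of conjugates: the action of the normalizer
-/

set_option autoImplicit false

namespace CfsgLib.InvTwoS6

/-- The four labels. -/
def quadY (e : Bool) : List V4 := [yT, yTA, yTC, yX e]

/-- A combination of the four labels. -/
def comb4 (a b c d : V4) (i j k l : Bool) : V4 :=
  add4 (add4 (if i then a else (((false, false), false), false))
      (if j then b else (((false, false), false), false)))
    (add4 (if k then c else (((false, false), false), false))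
      (if l then d else (((false, false), false), false)))

set_option synthInstance.maxSize 4096 in
theorem quadY_sub : ∀ e, (quadY e).Nodup ∧ (quadY e).length = 4 ∧ ∀ v ∈ quadY e, v ∈ candY e := by
  decide +kernel

theorem quad_span : ∀ (e : Bool) (v : V4),
    ∃ i j k l : Bool, v = comb4 yT yTA yTC (yX e) i j k l := by
  decide +kernel

theorem quad_sq : ∀ e, fY false e (add4 yT yTC) (add4 yT yTC) = (false, false) ∧
    fY false e (add4 yTA yTC) (add4 yTA yTC) ≠ (false, false) := by
  decide +kernel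

theorem quad_exchange : ∀ i j k l : Bool,
    (comb4 (yX false) yTC yTA yT i j k l = comb4 yT yTA yTC (yX false) i j k l → i = l ∧ j = k) := by
  decide +kernel

theorem quad_fixed_comm : ∀ i j i' j' : Bool,
    bilY false false (comb4 yT yTA yTC (yX false) i j j i)
      (comb4 yT yTA yTC (yX false) i' j' j' i') = (false, false) := by
  decide +kernel

theorem quad_cycle_fix : ∀ i j k l : Bool,
    comb4 yTC yT (yX false) yTA i j k l = comb4 yT yTA yTC (yX false) i j k l →
      (comb4 yT yTA yTC (yX false) i j k l).1.1.1 = false := by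
  decide +kernel

theorem quad_vals : ∀ e, pMap yT = yT ∧ pMap yTA = yTC ∧ pMap yTC = yTA ∧ pMap (yX e) = yX e := by
  decide +kernel

theorem quad_y0 : comb4 yT yTA yTC (yX true) false true true true = ((((false, false), false), true)) ∧
    (comb4 (yX true) yTA yTC yT false true true true).1.1.1 = true := by
  decide +kernel

namespace Fr

variable {G : Type*} [Group G] {L : Type*} [Group L] {F : Fr G L} [Finite G]
variable {p : G} {e : Bool}

theorem Cyc.phi_null (h : F.Cyc p false e) {g : G} (hgK : g ∈ h.NK) :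
    h.phi hgK (((false, false), false), false) = (((false, false), false), false) := by
  obtain ⟨k', hk'⟩ := h.image_zero hgK (false, false)
  exact h.phi_eq hgK hk'

theorem Cyc.phi_congr (h : F.Cyc p false e) {g g' : G} (hgK : g ∈ h.NK) (hgK' : g' ∈ h.NK)
    (eq : g = g') : h.phi hgK = h.phi hgK' := by
  subst eq; rfl

theorem Cyc.phi_comb (h : F.Cyc p false e) {g : G} (hgK : g ∈ h.NK) (a b c d : V4)
    (i j k l : Bool) : h.phi hgK (comb4 a b c d i j k l) =
      comb4 (h.phi hgK a) (h.phi hgK b) (h.phi hgK c) (h.phi hgK d) i j k l := by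
  simp only [comb4, h.phi_add]
  cases i <;> cases j <;> cases k <;> cases l <;> simp [h.phi_null]

theorem Cyc.stab_T (h : F.Cyc p false e) {k : G} (hk : k ∈ h.NK) (e1 : h.phi hk yT = yT) :
    k ∈ h.layer.group ∨ p⁻¹ * k ∈ h.layer.group := by
  obtain ⟨⟨l, m⟩, hk'⟩ := h.phi_spec hk yT (false, false)
  rw [e1, show h.layer.el (yT, (false, false)) = F.t by rw [yT, h.layer_inner]; exact F.el_t,
    show h.layer.el (yT, (l, m)) = F.ce (true, (l, m)) by rw [yT, h.layer_inner]; rfl] at hk'
  have hy : pw (p * p) m = h.layer.el ((((false, false), false), m), (false, false)) := by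
    rw [h.layer_el, el_one, one_mul]
  have hyD : pw (p * p) m ∈ h.layer.group := ⟨_, hy.symm⟩
  have hyt : cj (pw (p * p) m) F.t = F.ce (true, (false, m)) := by
    rw [hy]; exact (h.el_cj_t _).1
  have hqt : cj (pw p l * pw (p * p) m) F.t = F.ce (true, (l, m)) := by
    rw [← cj_cj, hyt]
    cases l
    · simp [cj]
    · rw [pw_true, ce_eq, cj_mul]
      simp only [pw_true, h.pt, wv, pw_false, one_mul, cj_pw, F.fix_z h.mem]
      simp [ce_eq, wv, mul_assoc]
  have hqK : pw p l * pw (p * p) m ∈ h.NK := by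
    refine mul_mem ?_ (h.group_le_NK hyD)
    cases l
    · exact one_mem _
    · exact h.p_mem_NK
  have hS := h.S_le_group (h.mem_S_of_NK (mul_mem (inv_mem hqK) hk) (comm_of_cj (by
    rw [← cj_cj, hk', ← hqt, cj_cj, inv_mul_cancel]; simp [cj])))
  have := mul_mem hyD hS
  cases l
  · left
    simpa using this
  · right
    rwa [pw_true, show pw (p * p) m * ((p * pw (p * p) m)⁻¹ * k) = p⁻¹ * k by group] at this

theorem Cyc.kernel (h : F.Cyc p false e) {k : G} (hk : k ∈ h.NK) (e1 : h.phi hk yT = yT)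
    (e2 : h.phi hk yTA = yTA) : k ∈ h.layer.group := by
  refine (h.stab_T hk e1).resolve_right fun hd => ?_
  have := h.phi_comp h.p_mem_NK (h.group_le_NK hd) yTA
  rw [h.phi_of_mem _ hd, h.phi_p, (quad_vals e).2.1,
    h.phi_congr _ hk (mul_inv_cancel_left p k), e2] at this
  exact absurd this (by decide)

/-- A translation acting as the other exchange. -/
theorem Cyc.exists_s (h : F.Cyc p false e) (hg : F.g.Both) (hd : F.lab = labTwo)
    (hM : ∀ v k, h.layer.el (v, k) ∈ cls F.t ↔ v ∈ quadY e) :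
    ∃ s, ∃ hs : s ∈ h.NK, s ∈ F.PG ∧ s * s = pw (s * s) e ∧ h.phi hs yT = yTA ∧
      h.phi hs yTA = yT ∧ h.phi hs yTC = yX e ∧ h.phi hs (yX e) = yTC := by
  obtain ⟨σ, st, sb, sH, s1, s2, s3, -⟩ := F.exists_sigma
  obtain ⟨hy, hyt, -⟩ := h.y_mem_AG
  obtain ⟨hsA, hst⟩ := F.cj_conj_AG st sb sH hy
  rw [hyt, sigma_sgm s1 s2 s3 (false, (false, true))] at hst
  have hsP : cj σ (p * p) ∈ F.PG := Or.inl hsA
  have hsK := h.PG_le_NK hg hd hsP
  have eT : h.layer.el (yT, (false, false)) = F.t := by rw [yT, h.layer_inner]; exact F.el_t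
  have e1 : h.phi hsK yT = yTA := by
    refine h.phi_eq hsK (k := (false, false)) (k' := (true, true)) ?_
    rw [eT, cj_t_tau, hst, yTA, h.layer_inner, t_hv]
    rfl
  have eA : h.phi hsK (((false, true), false), false) = (((false, true), false), false) := by
    refine h.phi_eq hsK (k := (false, false)) (k' := (false, false)) ?_
    rw [h.layer_inner]
    exact ((h.elem hg hd) _ hsA).1 _ (F.hv_mem true (false, false))
  have hA : yTA = add4 yT (((false, true), false), false) := by decide
  have e2 : h.phi hsK yTA = yT := by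
    conv_lhs => rw [hA, h.phi_add, e1, eA]
    decide
  have hm : ∀ v ∈ quadY e, h.phi hsK v = yT ∨ h.phi hsK v = yTA ∨ h.phi hsK v = yTC ∨
      h.phi hsK v = yX e := fun v hv => by simpa [quadY] using h.phi_mem hM hsK hv
  have ne : ∀ {u v : V4}, u ≠ v → h.phi hsK u ≠ h.phi hsK v := fun huv e' =>
    huv (h.phi_inj hsK e')
  have e3 : h.phi hsK yTC = yX e := by
    rcases hm yTC (by simp [quadY]) with a | a | a | a
    · exact absurd (a.trans e2.symm) (ne (by decide))
    · exact absurd (a.trans e1.symm) (ne (by decide))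
    · exfalso
      obtain ⟨q1, q2⟩ := quad_sq e
      have := h.phi_sq hsK q1
      rw [h.phi_add, e1, a] at this
      exact q2 this
    · exact a
  refine ⟨_, hsK, hsP, ?_, e1, e2, e3, ?_⟩
  · cases e
    · rw [pw_false, ← cj_mul, h.sq]; simp [cj]
    · rfl
  · rcases hm (yX e) (by simp [quadY]) with a | a | a | a
    · exact absurd (a.trans e2.symm) (ne (by cases e <;> decide))
    · exact absurd (a.trans e1.symm) (ne (by cases e <;> decide))
    · exact a
    · exact absurd (a.trans e3.symm) (ne (by cases e <;> decide))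

/-- The parameter `e` vanishes. -/
theorem Cyc.quad_e_false (h : F.Cyc p false true) (hg : F.g.Both) (hd : F.lab = labTwo)
    (hM : ∀ v k, h.layer.el (v, k) ∈ cls F.t ↔ v ∈ quadY true) : False := by
  obtain ⟨s, hs, -, -, s1, s2, s3, s4⟩ := h.exists_s hg hd hM
  obtain ⟨v1, v2, v3, v4⟩ := quad_vals true
  have hp := h.p_mem_NK
  have hx : s * p * s ∈ h.NK := mul_mem (mul_mem hs hp) hs
  have xv : ∀ v, h.phi hx v = h.phi hs (pMap (h.phi hs v)) := fun v => by
    rw [h.phi_comp (mul_mem hs hp) hs, h.phi_comp hs hp, h.phi_p]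
  have x1 : h.phi hx yT = yX true := by rw [xv, s1, v2, s3]
  have x2 : h.phi hx yTA = yTA := by rw [xv, s2, v1, s1]
  have x3 : h.phi hx yTC = yTC := by rw [xv, s3, v4, s4]
  have x4 : h.phi hx (yX true) = yT := by rw [xv, s4, v3, s2]
  set x := s * p * s
  have hc : x * p * x⁻¹ ∈ h.NK := mul_mem (mul_mem hx hp) (inv_mem hx)
  have hk : p⁻¹ * (x * p * x⁻¹) ∈ h.NK := mul_mem (inv_mem hp) hc
  have kv : ∀ v, h.phi hk v = h.phi (inv_mem hp) (h.phi hx (pMap (h.phi (inv_mem hx) v))) :=
    fun v => by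
      rw [h.phi_comp (inv_mem hp) hc, h.phi_comp (mul_mem hx hp) (inv_mem hx), h.phi_comp hx hp,
        h.phi_p]
  have hkD : p⁻¹ * (x * p * x⁻¹) ∈ h.layer.group := h.kernel hk
    (by rw [kv, h.phi_inv hx x4, v4, x4, h.phi_inv hp ((h.phi_p yT).trans v1)])
    (by rw [kv, h.phi_inv hx x2, v2, x3, h.phi_inv hp ((h.phi_p yTA).trans v2)])
  obtain ⟨⟨⟨v, d⟩, k⟩, hk'⟩ := hkD
  have hy : p * p = h.layer.el ((((false, false), false), true), (false, false)) := by
    rw [h.layer_el, el_one, one_mul, pw_true]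
  obtain ⟨k2, hk2⟩ := h.phi_spec hx (((false, false), false), true) (false, false)
  rw [← hy, ← quad_y0.1, h.phi_comb, x4, x2, x3, x1] at hk2
  have e1 : cj x (p * p) = cj p (h.layer.el ((v, d), k)) * (p * p) * h.layer.el ((v, d), k) := by
    rw [hk']; simp only [cj]; group
  rw [hk2, h.cj_p_layer, hy, Layer.el_mul, Layer.el_mul] at e1
  have e2 := congrArg (fun y : V4 × W2 => y.1.1.1.1) (h.el_inj e1)
  simp only [Layer.mul, h.layer_add, add4, pImg_fst, quad_y0.2] at e2
  cases hv : v.1.1 <;> rw [hv] at e2 <;> simp at e2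

variable (h : F.Cyc p false false)

theorem Cyc.phi_parity (hM : ∀ v k, h.layer.el (v, k) ∈ cls F.t ↔ v ∈ quadY false) {g : G}
    (hgK : g ∈ h.NK) (v : V4) : (h.phi hgK v).1.1.1 = v.1.1.1 := by
  obtain ⟨i, j, k, l, rfl⟩ := quad_span false v
  rw [h.phi_comb]
  have hone : ∀ u ∈ quadY false, (h.phi hgK u).1.1.1 = u.1.1.1 := fun u hu => by
    have hone' : ∀ w ∈ quadY false, w.1.1.1 = true := by decide
    rw [hone' u hu, hone' _ (h.phi_mem hM hgK hu)]
  have a := hone yT (by simp [quadY])
  have b := hone yTA (by simp [quadY])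
  have c := hone yTC (by simp [quadY])
  have d := hone (yX false) (by simp [quadY])
  cases i <;> cases j <;> cases k <;> cases l <;> simp [comb4, add4, a, b, c, d]

theorem Cyc.outer_action (hg : F.g.Both) (hd : F.lab = labTwo)
    (hM : ∀ v k, h.layer.el (v, k) ∈ cls F.t ↔ v ∈ quadY false) {u : G} (hu : u ∈ cls F.t)
    (huK : u ∈ h.NK) (huD : u ∉ h.layer.group) :
    h.phi huK yT = yX false ∧ h.phi huK yTA = yTC ∧ h.phi huK yTC = yTA ∧
      h.phi huK (yX false) = yT := by
  obtain ⟨s, hs, hsP, -, s1, s2, s3, -⟩ := h.exists_s hg hd hM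
  obtain ⟨v1, v2, v3, v4⟩ := quad_vals false
  have hp := h.p_mem_NK
  have twice : ∀ {w : G} (hw : w ∈ h.NK), w ∈ cls F.t → ∀ v, h.phi hw (h.phi hw v) = v := by
    intro w hw hwc v
    rw [← h.phi_comp hw hw, h.phi_congr _ (one_mem _) (sq_of_mem_cls F.sq hwc),
      h.phi_of_mem _ (one_mem _)]
  -- `t` is moved
  have q1 : ∀ {w : G} (hw : w ∈ h.NK), w ∈ cls F.t → w ∉ h.layer.group → h.phi hw yT ≠ yT := by
    intro w hw hwc hwD e1
    rcases h.stab_T hw e1 with hd' | hd'
    · exact hwD hd'
    · have := mul_mem h.mem (h.group_le hd')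
      rw [mul_inv_cancel_left] at this
      exact hwD (h.cls_mem hg hd hwc this)
  have q2 : ∀ {w : G} (hw : w ∈ h.NK), w ∈ cls F.t → w ∉ h.layer.group → h.phi hw yT ≠ yTA := by
    intro w hw hwc hwD e1
    have e2 : h.phi hw yTA = yT := by rw [← e1, twice hw hwc]
    have hk : s⁻¹ * w ∈ h.NK := mul_mem (inv_mem hs) hw
    have kT : h.phi hk yT = yT := by rw [h.phi_comp (inv_mem hs) hw, e1, h.phi_inv hs s1]
    have kA : h.phi hk yTA = yTA := by rw [h.phi_comp (inv_mem hs) hw, e2, h.phi_inv hs s2]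
    have hwP : w ∈ F.PG := by
      have := mul_mem hsP (h.group_le_PG (h.kernel hk kT kA))
      rwa [mul_inv_cancel_left] at this
    rcases hwP with hA | hA
    · obtain ⟨c, ct, cb, cH, x, hx, ex⟩ := h.exit hg hd hA
      have hxM := (hM x.1 x.2).1 (ex ▸ cj_mem_cls hwc)
      have hx2 : x.1.2 = false := by
        simp only [quadY, List.mem_cons, List.not_mem_nil, or_false] at hxM
        rcases hxM with e' | e' | e' | e' <;> rw [e'] at hx ⊢ <;> first | rfl | exact absurd hx (by decide)
      obtain ⟨-, hct⟩ := F.cj_conj_AG ct cb cH hA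
      have h1 : cj c (F.tau w) = cj c 1 := by
        rw [← hct, ← ex, h.tau_el, hx2, hv_one]; simp [cj]
      have h2 := F.cj_t_tau w
      rw [cj_inj h1, mul_one] at h2
      have e3 : h.phi hw yT = yT := h.phi_eq hw (k := (false, false)) (k' := (false, false)) (by
        rw [yT, h.layer_inner, F.el_t, h2])
      exact absurd (e1.symm.trans e3) (by decide)
    · obtain ⟨w', hw'⟩ := F.cj_t_of_cls hwc hA
      have e3 : h.phi hw yT = yT := h.phi_eq hw (k := (false, false)) (k' := w') (by
        rw [yT, h.layer_inner, F.el_t, hw', h.layer_inner]; rfl)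
      exact absurd (e1.symm.trans e3) (by decide)
  -- moving an element by the normalizer
  have qc : ∀ {w g : G} (hw : w ∈ h.NK) (hgK : g ∈ h.NK), w ∈ cls F.t → w ∉ h.layer.group →
      h.phi hgK (h.phi hw (h.phi (inv_mem hgK) yT)) ≠ yT ∧
      h.phi hgK (h.phi hw (h.phi (inv_mem hgK) yT)) ≠ yTA := by
    intro w g hw hgK hwc hwD
    have hc : g * w * g⁻¹ ∈ h.NK := mul_mem (mul_mem hgK hw) (inv_mem hgK)
    have hcD : g * w * g⁻¹ ∉ h.layer.group := fun hh =>
      hwD ((Subgroup.mem_normalizer_iff.1 hgK w).2 hh)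
    have e1 := h.phi_comp (mul_mem hgK hw) (inv_mem hgK) yT
    rw [h.phi_comp hgK hw] at e1
    exact ⟨fun e' => q1 hc (cj_mem_cls hwc) hcD (e1.trans e'),
      fun e' => q2 hc (cj_mem_cls hwc) hcD (e1.trans e')⟩
  have hm : ∀ v ∈ quadY false, h.phi huK v = yT ∨ h.phi huK v = yTA ∨ h.phi huK v = yTC ∨
      h.phi huK v = yX false := fun v hv => by simpa [quadY] using h.phi_mem hM huK hv
  have eT : h.phi huK yT = yX false := by
    rcases hm yT (by simp [quadY]) with a | a | a | a
    · exact absurd a (q1 huK hu huD)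
    · exact absurd a (q2 huK hu huD)
    · exfalso
      apply (qc huK hp hu huD).2
      rw [h.phi_inv hp ((h.phi_p yT).trans v1), a, h.phi_p, v3]
    · exact a
  have eX : h.phi huK (yX false) = yT := by rw [← eT, twice huK hu]
  have ne : ∀ {a b : V4}, a ≠ b → h.phi huK a ≠ h.phi huK b := fun hab e' =>
    hab (h.phi_inj huK e')
  have eA : h.phi huK yTA = yTC := by
    rcases hm yTA (by simp [quadY]) with a | a | a | a
    · exact absurd (a.trans eX.symm) (ne (by decide))
    · exfalso
      apply (qc huK hs hu huD).1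
      rw [h.phi_inv hs s2, a, s2]
    · exact a
    · exact absurd (a.trans eT.symm) (ne (by decide))
  exact ⟨eT, eA, by rw [← eA, twice huK hu], eX⟩

/-- An outer conjugate has a small centralizer in the normalizer. -/
theorem Cyc.outer_small (hg : F.g.Both) (hd : F.lab = labTwo)
    (hM : ∀ v k, h.layer.el (v, k) ∈ cls F.t ↔ v ∈ quadY false) {u : G} (hu : u ∈ cls F.t)
    (huK : u ∈ h.NK) (huD : u ∉ h.layer.group) {Q : Subgroup G} (hQ : Q ≤ h.NK)
    (hQc : Nat.card Q = 32) (hQu : ∀ y ∈ Q, y * u = u * y) : False := by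
  obtain ⟨g, hgt, hgQ⟩ := F.exists_conj_S hu hQc hQu
  obtain ⟨u1, u2, u3, u4⟩ := h.outer_action hg hd hM hu huK huD
  have fixed : ∀ d ∈ h.layer.group, d * u = u * d →
      ∃ (i j : Bool) (k : W2), h.layer.el (comb4 yT yTA yTC (yX false) i j j i, k) = d := by
    rintro _ ⟨⟨v, k⟩, rfl⟩ hc
    have e1 : h.phi huK v = v := h.phi_eq huK (k := k) (k' := k) (cj_of_comm hc.symm)
    obtain ⟨i, j, k', l, rfl⟩ := quad_span false v
    rw [h.phi_comb, u1, u2, u3, u4] at e1
    obtain ⟨rfl, rfl⟩ := quad_exchange _ _ _ _ e1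
    exact ⟨_, _, k, rfl⟩
  have key : ∀ v : V3 × W2, labTwo.inS v = true →
      g⁻¹ * F.el v * g ∈ Q ∧ u * (g⁻¹ * F.el v * g) ∈ h.layer.group := by
    intro v hv
    have hvc : g⁻¹ * F.el v * g ∈ cls F.t :=
      conj_mem_cls ((F.mem_cls_el hg v).2 (hd.symm ▸ hv)) g
    have hvQ : g⁻¹ * F.el v * g ∈ Q := (hgQ _).2 (by
      rw [show g * (g⁻¹ * F.el v * g) * g⁻¹ = F.el v by group]; exact ⟨v, rfl⟩)
    have hvD : g⁻¹ * F.el v * g ∉ h.layer.group := by
      intro hD
      obtain ⟨⟨w, k⟩, hw⟩ := hD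
      have hwM := (hM w k).1 (hw ▸ hvc)
      have e1 : h.phi huK w = w := h.phi_eq huK (k := k) (k' := k)
        (cj_of_comm (by rw [hw]; exact (hQu _ hvQ).symm))
      simp only [quadY, List.mem_cons, List.not_mem_nil, or_false] at hwM
      rcases hwM with rfl | rfl | rfl | rfl
      · rw [u1] at e1; exact absurd e1 (by decide)
      · rw [u2] at e1; exact absurd e1 (by decide)
      · rw [u3] at e1; exact absurd e1 (by decide)
      · rw [u4] at e1; exact absurd e1 (by decide)
    obtain ⟨w1, w2, -, -⟩ := h.outer_action hg hd hM hvc (hQ hvQ) hvD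
    refine ⟨hvQ, h.kernel (mul_mem huK (hQ hvQ)) ?_ ?_⟩
    · rw [h.phi_comp huK (hQ hvQ), w1, u4]
    · rw [h.phi_comp huK (hQ hvQ), w2, u3]
  have half : ∀ v : V3 × W2, labTwo.inS v = true →
      ∃ (i j : Bool) (k : W2), h.layer.el (comb4 yT yTA yTC (yX false) i j j i, k) =
        g⁻¹ * (F.t * F.el v) * g := by
    intro v hv
    obtain ⟨h1, h2⟩ := key v hv
    have he : g⁻¹ * (F.t * F.el v) * g = u * (g⁻¹ * F.el v * g) := by rw [← hgt]; group
    rw [he]
    refine fixed _ h2 ?_
    rw [mul_assoc, hQu _ h1]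
  obtain ⟨i, j, k, hA⟩ := half (((true, true), false), (false, false)) rfl
  obtain ⟨i', j', k', hC⟩ := half (((true, false), true), (false, false)) rfl
  have eA : F.t * F.el (((true, true), false), (false, false)) = F.A := by
    rw [← el_t, el_mul, A_el]; rfl
  have eC : F.t * F.el (((true, false), true), (false, false)) = F.C := by
    rw [← el_t, el_mul, C_el]; rfl
  rw [eA] at hA
  rw [eC] at hC
  have hcm := (h.comm_iff (comb4 yT yTA yTC (yX false) i j j i, k)
    (comb4 yT yTA yTC (yX false) i' j' j' i', k')).2 (quad_fixed_comm i j i' j')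
  rw [hA, hC] at hcm
  have hAC : F.C * F.A = F.A * F.C := by
    have := congrArg (fun y => g * y * g⁻¹) hcm
    simp only [mul_assoc, mul_inv_cancel_left, mul_inv_cancel, mul_one] at this
    simpa using this.symm
  rw [F.rel.CA] at hAC
  exact F.z_ne_one (mul_left_cancel (a := F.A * F.C) (hAC.trans (mul_one _).symm))

end Fr

end CfsgLib.InvTwoS6
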