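import Cfsg.Agent.Lib.InvTwoS6.R1Model
import Cfsg.Agent.Lib.InvTwoS6.ThreeOrbit
import Cfsg.Agent.Lib.InvTwoS6.Orbits

/-!
# No group has only `t z` fused with `t` and no subgroup of index two
-/

set_option autoImplicit false

namespace CfsgLib.InvTwoS6

theorem mul3_inv3 : ∀ v : V3 × W2, mul3 v (inv3 v) = (((false, false), false), (false, false)) := by
  decide

theorem psi_mul : ∀ (c : Bool × Bool × Bool) (u v : V3 × W2),
    psi c (mul3 u v) = xor (psi c u) (psi c v) := by
  decide +kernel

theorem card_psi_ker : ∀ c : Bool × Bool × Bool,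
    Fintype.card {v : V3 × W2 // psi c v = false} = 16 := by decide

theorem mem_all3 : ∀ v : V3 × W2, v ∈ all3 := by decide

theorem labOne_central : ∀ x : C3, Lab.inS labOne (C3.lbl x) = true →
    x = (true, (false, false)) ∨ x = (true, (false, true)) := by decide

theorem labOne_nonC : ∀ v : V3 × W2, Lab.inS labOne v = true → isCen v = false → v ∈ nonC := by
  decide

theorem nonC_mul : ∀ u ∈ nonC, ∀ v ∈ nonC, u.1 = v.1 → isCen (mul3 u v) = true := by decide

theorem t_fix : ∀ v : V3 × W2,
    mul3 (((true, false), false), (false, false)) v = mul3 v (((true, false), false), (false, false)) := by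
  decide

theorem invol_inv : ∀ u : V3 × W2, mul3 u u = (((false, false), false), (false, false)) →
    inv3 u = u := by decide

namespace Fr

variable {G : Type*} [Group G] {L : Type*} [Group L] (F : Fr G L)

theorem el_mul (u v : V3 × W2) : F.el u * F.el v = F.el (mul3 u v) := SRel.el_mul3 _ _ _

theorem el_one : F.el (((false, false), false), (false, false)) = 1 := by simp [SRel.el3]

theorem el_inv (v : V3 × W2) : F.el (inv3 v) = (F.el v)⁻¹ :=
  eq_inv_of_mul_eq_one_right (by rw [el_mul, mul3_inv3, el_one])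

theorem el_pw (v : V3 × W2) (e : Bool) : pw (F.el v) e = F.el (pw3 v e) := by
  cases e <;> simp [pw3, el_one]

variable [Finite G]

theorem el_pw_inj {y : G} (hy : y ∉ F.S) (v w : V3 × W2) (e d : Bool)
    (he : F.el v * pw y e = F.el w * pw y d) : v = w ∧ e = d := by
  cases e <;> cases d
  · exact ⟨F.el_injective (by simpa using he), rfl⟩
  · exact absurd (show y ∈ F.S by
      rw [show y = (F.el w)⁻¹ * F.el v by
        simp only [pw_false, mul_one, pw_true] at he; rw [he, inv_mul_cancel_left]]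
      exact mul_mem (inv_mem ⟨w, rfl⟩) ⟨v, rfl⟩) hy
  · exact absurd (show y ∈ F.S by
      rw [show y = (F.el v)⁻¹ * F.el w by
        simp only [pw_false, mul_one, pw_true] at he; rw [← he, inv_mul_cancel_left]]
      exact mul_mem (inv_mem ⟨v, rfl⟩) ⟨w, rfl⟩) hy
  · exact ⟨F.el_injective (mul_right_cancel he), rfl⟩


/-- Only `t z` is fused with `t`: the number of conjugates is twice an odd number. -/
theorem nT_mod_four (hG : NoTwo G) (hd : F.lab = labOne) : F.nT % 4 = 2 := by
  classical
  haveI := F.finite_L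
  simp only [lab, labOne, Lab.mk.injEq, decide_eq_true_eq, decide_eq_false_iff_not] at hd
  obtain ⟨nA, nB, nTA, nTB, hJ⟩ := hd
  set K := Subgroup.centralizer ({F.t} : Set G) with hK
  have hinT : ∀ l, ¬ F.InT l := fun l h => by
    rcases F.side.classify l (F.sq_of_inT h) with rfl | h' | h' | h'
    · exact F.not_inT_one h
    · exact nA ((F.inT_conj h').2 h)
    · exact nB ((F.inT_conj h').2 h)
    · exact F.not_inT_z ((F.inT_conj h').2 h)
  have htt : ∀ l, F.TT l ↔ l = 1 ∨ IsConj F.g.z l := fun l => by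
    constructor
    · intro h
      rcases F.side.classify l (F.sq_of_tt h) with h' | h' | h' | h'
      · exact Or.inl h'
      · exact absurd ((F.tt_conj h').2 h) nTA
      · exact absurd ((F.tt_conj h').2 h) nTB
      · exact Or.inr h'
    · rintro (rfl | h)
      · exact F.tt_one
      · exact (F.tt_conj h).1 hJ
  have hn : F.nIn K = 1 + Nat.card {l : L // IsConj F.g.z l} := by
    have h1 : ¬ IsConj F.g.z 1 := fun h => by
      have hz := isConj_one_left.1 h
      exact absurd (F.side.inj (show F.g.uf ((false, false), (false, true)) =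
        F.g.uf ((false, false), (false, false)) by simp [Gens.uf, wv, hz])) (by decide)
    rw [add_comm, ← Finite.card_option]
    let f : Option {l : L // IsConj F.g.z l} → {u : G // u ∈ cls F.t ∧ u ∈ K} := fun x =>
      x.elim ⟨F.t, self_mem_cls _, Subgroup.mem_centralizer_singleton_iff.2 rfl⟩
        fun l => ⟨F.t * F.ρ l.1, (htt l.1).2 (Or.inr l.2), Subgroup.mem_centralizer_singleton_iff.2
          (by rw [mul_assoc, ← F.comm, ← mul_assoc])⟩
    refine (Nat.card_congr (Equiv.ofBijective f ⟨?_, ?_⟩)).symm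
    · intro x y h
      have h' : (f x).1 = (f y).1 := congrArg Subtype.val h
      rcases x with _ | x <;> rcases y with _ | y <;> simp [f] at h' ⊢
      · exact h1 (F.inj ((map_one F.ρ).trans h'.symm) ▸ y.2)
      · exact h1 (F.inj (h'.trans (map_one F.ρ).symm) ▸ x.2)
      · exact Subtype.ext (F.inj h')
    · rintro ⟨u, hu, hc⟩
      obtain ⟨i, l, rfl⟩ := F.cent u (Subgroup.mem_centralizer_singleton_iff.1 hc)
      cases i
      · exact absurd (show F.InT l by simpa [InT] using hu) (hinT l)
      · rcases (htt l).1 (show F.TT l by simpa [TT] using hu) with rfl | h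
        · exact ⟨none, Subtype.ext (by simp [f])⟩
        · exact ⟨some ⟨l, h⟩, Subtype.ext (by simp [f])⟩
  have h := mod_four_eq hG K F.sq (F := F.nIn K) (by rw [mul_comm]; rfl)
  have hidx : K.index = F.nT := by
    have := K.card_mul_index
    rw [hK, F.card_cent, F.card_G, ← hK] at this
    exact Nat.eq_of_mul_eq_mul_left (Nat.mul_pos two_pos Nat.card_pos) (this.trans (mul_comm _ _))
  rw [hidx, hn, Nat.add_mod, F.side.zclass] at h
  exact h

/-- The rule for subgroups of order 32. -/
theorem forbid32 (hG : NoTwo G) (hd : F.lab = labOne) (H : Subgroup G) (hH : Nat.card H = 32) :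
    F.nIn H % 4 ≠ 0 := fun h => by
  obtain ⟨o, ho, hL, -⟩ := F.exists_odd
  obtain ⟨k, hk⟩ := ho
  have h2 := F.nT_mod_four hG hd
  obtain ⟨r, hr⟩ := Nat.dvd_of_mod_eq_zero h
  obtain ⟨m, hm⟩ : ∃ m, F.nT = 4 * m + 2 := ⟨F.nT / 4, by omega⟩
  refine F.forbid_two hG H (m := m * (2 * k + 1) + k) ?_ (r := r) (by rw [hr, hH]; ring)
  rw [F.card_G, hL, hH, hk, hm]; ring

theorem card_NS_one (hg : F.g.Both) (hd : F.lab = labOne) : Nat.card F.NS = 64 := by
  rw [F.card_NS hg, hd]; rfl

/-- An action together with the element realizing it. -/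
structure Rep (y : G) (p : Act) : Prop where
  mem : y ∈ F.NS
  notMem : y ∉ F.S
  act : ∀ v, cj y (F.el v) = F.el (p.phi v)
  sqy : y * y = F.el p.s0
  hK : p.qK ∈ nonC
  hC : p.qC ∈ nonC
  imK : cj y (F.el (((true, true), false), (true, false))) = F.el p.qK
  imC : cj y (F.el (((true, false), true), (false, false))) = F.el p.qC
  ima : cj y F.a = F.ce p.pa

theorem exists_rep (hg : F.g.Both) (hd : F.lab = labOne) {y : G} (hy : y ∈ F.NS) (hyS : y ∉ F.S) :
    ∃ p, F.Rep y p := by
  obtain ⟨pt, hpt⟩ := F.cj_central hy (true, (false, false))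
  have ht : F.ce (true, (false, false)) ∈ cls F.t := by rw [ce_t]; exact self_mem_cls _
  have hpt' : pt = (true, (false, true)) := by
    have hin : Lab.inS labOne (C3.lbl pt) = true :=
      hd ▸ (F.mem_cls_el hg _).1 (hpt ▸ cj_mem_cls ht : F.ce pt ∈ _)
    refine (labOne_central pt hin).resolve_left fun e => F.cj_ne hy hyS ht (e ▸ hpt)
  subst hpt'
  obtain ⟨pa, hpa⟩ := F.cj_central hy (false, (true, false))
  rw [ce_a] at hpa
  obtain ⟨qK, hqK, hK1, hK2⟩ := F.cj_noncentral hg hy (v := (((true, true), false), (true, false)))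
    (by rw [hd]; rfl) rfl
  obtain ⟨qC, hqC, hC1, hC2⟩ := F.cj_noncentral hg hy (v := (((true, false), true), (false, false)))
    (by rw [hd]; rfl) rfl
  have hidx : (F.S.subgroupOf F.NS).index = 2 := by
    have hm := (F.S.subgroupOf F.NS).card_mul_index
    rw [Nat.card_congr (Subgroup.subgroupOfEquivOfLe
      (show F.S ≤ F.NS from Subgroup.le_normalizer)).toEquiv,
      F.card_S, F.card_NS_one hg hd] at hm
    omega
  obtain ⟨s0, hs0⟩ := F.mem_S_iff.1
    (Subgroup.mem_subgroupOf.1 (Subgroup.mul_self_mem_of_index_two hidx (⟨y, hy⟩ : F.NS)))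
  refine ⟨⟨qK, qC, pa, s0⟩, hy, hyS, fun v => ?_, hs0.symm, labOne_nonC _ (hd ▸ hK1) hK2,
    labOne_nonC _ (hd ▸ hC1) hC2, hqK, hqC, hpa⟩
  have htz : cj y F.t = F.el lTZ := by rw [← ce_t, hpt]; rfl
  have hiA : cj y F.A = F.el (Act.iA ⟨qK, qC, pa, s0⟩) := by
    have e : F.A = F.t * F.el (((true, true), false), (true, false)) * F.a⁻¹ := by
      simp [SRel.el3, wv, ← mul_assoc, F.sq]
    rw [e, cj_mul, cj_mul, htz, hqK, show cj y F.a⁻¹ = (cj y F.a)⁻¹ by simp only [cj]; group, hpa,
      el_mul, show F.ce pa = F.el (C3.lbl pa) from rfl, ← el_inv, el_mul]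
    rfl
  have hiC : cj y F.C = F.el (Act.iC ⟨qK, qC, pa, s0⟩) := by
    have e : F.C = F.t * F.el (((true, false), true), (false, false)) := by
      simp [SRel.el3, wv, ← mul_assoc, F.sq]
    rw [e, cj_mul, htz, hqC, el_mul]
    rfl
  obtain ⟨⟨⟨i, j⟩, k⟩, l, m⟩ := v
  rw [show F.el (((i, j), k), (l, m)) = pw F.t i * pw F.A j * pw F.C k * (pw F.a l * pw F.z m) from
    SRel.el3 _ _, cj_mul, cj_mul, cj_mul, cj_mul, cj_pw, cj_pw, cj_pw, cj_pw, cj_pw, htz, hiA, hiC,
    hpa, F.fix_z hy, show F.ce pa = F.el (C3.lbl pa) from rfl, el_pw, el_pw, el_pw, el_pw,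
    show F.z = F.el (((false, false), false), (false, true)) by simp [SRel.el3, wv], el_pw,
    el_mul, el_mul, el_mul, el_mul]
  rfl

theorem rep_valid (hg : F.g.Both) (hd : F.lab = labOne) {y : G} {p : Act} (h : F.Rep y p) :
    p.valid = true ∧ p.qK.1 ≠ p.qC.1 := by
  refine ⟨?_, fun e => ?_⟩
  · have h1 : p.phi p.s0 = p.s0 := F.el_injective (by rw [← h.act, ← h.sqy, cj]; group)
    have h2 : ∀ v, mul3 (p.phi (p.phi v)) p.s0 = mul3 p.s0 v := fun v => by
      apply F.el_injective
      rw [← el_mul, ← el_mul, ← h.act, ← h.act, cj_cj, ← h.sqy, cj]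
      group
    have h3 : ∀ v, labOne.inS (p.phi v) = labOne.inS v := fun v => by
      rw [Bool.eq_iff_iff, ← hd, ← F.mem_cls_el hg, ← F.mem_cls_el hg, ← h.act]
      unfold cj
      rw [show y * F.el v * y⁻¹ = y⁻¹⁻¹ * F.el v * y⁻¹ by rw [inv_inv], conj_mem_cls_iff]
    simp only [Act.valid, Bool.and_eq_true, decide_eq_true_eq, List.all_eq_true]
    exact ⟨h1, fun v _ => ⟨h2 v, h3 v⟩⟩
  · obtain ⟨x, hx⟩ := isCen_iff_ce.1 (nonC_mul _ h.hK _ h.hC e)
    obtain ⟨x', hx'⟩ := F.cj_central (inv_mem h.mem) x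
    have h1 : F.el (((true, true), false), (true, false)) *
        F.el (((true, false), true), (false, false)) = F.ce x' := by
      rw [← hx', show F.ce x = F.el (C3.lbl x) from rfl, hx, ← el_mul, ← h.imK, ← h.imC, ← cj_mul,
        cj_cj, inv_mul_cancel]
      simp [cj]
    rw [el_mul] at h1
    exact absurd (congrArg isCen (F.el_injective h1)) (by simp [mul3, isCen, C3.lbl, cenV])

/-- The kernel of a functional. -/
def psiH {y : G} {p : Act} (h : F.Rep y p) (c : Bool × Bool × Bool)
    (hs : psi c p.s0 = false) (hphi : ∀ v, psi c (p.phi v) = psi c v) : Subgroup G where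
  carrier := {g | ∃ v e, psi c v = false ∧ F.el v * pw y e = g}
  one_mem' := ⟨(((false, false), false), (false, false)), false, by cases c; simp [psi],
    by simp [F.el_one]⟩
  mul_mem' := by
    rintro _ _ ⟨v, e, hv, rfl⟩ ⟨w, d, hw, rfl⟩
    cases e
    · refine ⟨mul3 v w, d, by rw [psi_mul, hv, hw]; rfl, ?_⟩
      rw [pw_false, mul_one, ← el_mul, mul_assoc]
    · have hc : y * F.el w = F.el (p.phi w) * y := by rw [← h.act, cj]; group
      cases d
      · refine ⟨mul3 v (p.phi w), true, by rw [psi_mul, hv, hphi, hw]; rfl, ?_⟩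
        rw [pw_true, pw_false, mul_one, mul_assoc, hc, ← mul_assoc, el_mul]
      · refine ⟨mul3 (mul3 v (p.phi w)) p.s0, false,
          by rw [psi_mul, psi_mul, hv, hphi, hw, hs]; rfl, ?_⟩
        rw [pw_true, pw_false, mul_one, ← el_mul, ← el_mul, ← h.sqy, mul_assoc (F.el v) y,
          ← mul_assoc y, hc]
        simp only [mul_assoc]
  inv_mem' := by
    rintro _ ⟨v, e, hv, rfl⟩
    have hiv : ∀ u, psi c u = false → psi c (inv3 u) = false := fun u hu => by
      rw [inv3, psi_mul, psi_mul, hu]; rfl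
    cases e
    · exact ⟨inv3 v, false, hiv v hv, by rw [pw_false, mul_one, mul_one, el_inv]⟩
    · refine ⟨inv3 (mul3 (p.phi v) p.s0), true,
        hiv _ (by rw [psi_mul, hphi, hv, hs]; rfl), ?_⟩
      rw [pw_true, el_inv, ← el_mul, ← h.sqy, ← h.act, cj]
      group

theorem false_of_psi (hg : F.g.Both) (hG : NoTwo G) (hd : F.lab = labOne) {y : G} {p : Act}
    (h : F.Rep y p) (c : Bool × Bool × Bool) (hgood : p.goodPsi c = true) : False := by
  classical
  simp only [Act.goodPsi, Bool.and_eq_true, Bool.not_eq_true', List.all_eq_true, decide_eq_true_eq,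
    Bool.or_eq_true] at hgood
  obtain ⟨hs, hall⟩ := hgood
  have hphi : ∀ v, psi c (p.phi v) = psi c v := fun v => (hall v (mem_all3 v)).1.1
  set H := F.psiH h c hs hphi with hH
  have hinjH := F.el_pw_inj h.notMem
  have hcard : Nat.card H = 32 := by
    rw [← Nat.card_congr (Equiv.ofBijective
      (fun x : {v : V3 × W2 // psi c v = false} × Bool =>
        (⟨F.el x.1.1 * pw y x.2, x.1.1, x.2, x.1.2, rfl⟩ : H))
      ⟨fun x x' e => Prod.ext (Subtype.ext (hinjH _ _ _ _ (Subtype.ext_iff.1 e)).1)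
          (hinjH _ _ _ _ (Subtype.ext_iff.1 e)).2,
        fun ⟨g, v, e, hv, hg'⟩ => ⟨(⟨v, hv⟩, e), Subtype.ext hg'⟩⟩),
      Nat.card_prod, Nat.card_eq_fintype_card, Nat.card_eq_fintype_card, card_psi_ker,
      Fintype.card_bool]
  have hout : ∀ u, u ∈ cls F.t → u ∈ H → ∃ v, psi c v = false ∧ F.el v * y = u ∧ p.big v = true := by
    rintro u hu ⟨v, e, hv, rfl⟩
    cases e
    · rw [pw_false, mul_one, F.mem_cls_el hg, hd] at hu
      rcases (hall v (mem_all3 v)).1.2 with h' | h'
      · rw [hu] at h'; exact absurd h' (by decide)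
      · rw [hv] at h'; exact absurd h' (by decide)
    · refine ⟨v, hv, by simp, ?_⟩
      have h2 := sq_of_mem_cls F.sq hu
      have hinv : p.invol v = true := by
        simp only [Act.invol, decide_eq_true_eq]
        apply F.el_injective
        rw [el_one, ← el_mul, ← el_mul, ← h.act, ← h.sqy, ← h2, pw_true, cj]
        group
      rcases (hall v (mem_all3 v)).2 with (h' | h') | h'
      · rw [hv] at h'; exact absurd h' (by decide)
      · rw [hinv] at h'; exact absurd h' (by decide)
      · exact h'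
  have hconj : ∀ (s v : V3 × W2), cj (F.el s) (F.el v * y) =
      F.el (mul3 (mul3 s v) (inv3 (p.phi s))) * y := fun s v => by
    rw [← el_mul, ← el_mul, el_inv, ← h.act]
    simp only [cj]
    group
  letI : MulAction F.S {u : G // u ∈ cls F.t ∧ u ∈ H} :=
    { smul := fun s u => ⟨cj (s : G) u.1, cj_mem_cls u.2.1, by
        obtain ⟨w, hw⟩ := F.mem_S_iff.1 s.2
        obtain ⟨v, hv, hvu, -⟩ := hout u.1 u.2.1 u.2.2
        refine ⟨mul3 (mul3 w v) (inv3 (p.phi w)), true, ?_, ?_⟩
        · rw [inv3, psi_mul, psi_mul, psi_mul, psi_mul, hphi, hv]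
          cases psi c w <;> rfl
        · rw [pw_true, ← hconj, hw, hvu]⟩
      one_smul := fun u => Subtype.ext (show cj (1 : G) u.1 = u.1 by simp [cj])
      mul_smul := fun s s' u => Subtype.ext (cj_cj _ _ _).symm }
  refine F.forbid32 hG hd H hcard (Nat.mod_eq_zero_of_dvd (four_dvd_card
    (IsPGroup.of_card (n := 5) (by rw [F.card_S]; rfl)) fun u => ?_))
  obtain ⟨v, hv, hvu, hbig⟩ := hout u.1 u.2.1 u.2.2
  simp only [Act.big, List.any_eq_true, Bool.and_eq_true, Bool.not_eq_true', decide_eq_false_iff_not]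
    at hbig
  obtain ⟨s, -, hs1, hs2⟩ := hbig
  have et : cj F.t (F.el v * y) = F.el (mul3 v (((false, false), false), (false, true))) * y := by
    rw [← F.el_t, hconj]
    congr 2
    have e1 : p.phi (((true, false), false), (false, false)) = lTZ := rfl
    rw [e1]
    revert v
    intro v _ _ _ _
    obtain ⟨⟨⟨i, j⟩, k⟩, l, m⟩ := v
    cases i <;> cases j <;> cases k <;> cases l <;> cases m <;> rfl
  refine ⟨⟨F.t, F.t_mem⟩, ⟨F.el s, s, rfl⟩, fun e => ?_, fun e => hs1 ?_, fun e => hs2 ?_⟩
  · have e' : cj F.t (F.el v * y) = F.el v * y := by rw [hvu]; exact congrArg Subtype.val e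
    rw [et] at e'
    have h1 := F.el_injective (mul_right_cancel e')
    obtain ⟨⟨⟨i, j⟩, k⟩, l, m⟩ := v
    revert h1
    cases i <;> cases j <;> cases k <;> cases l <;> cases m <;> decide
  · have e' : cj (F.el s) (F.el v * y) = F.el v * y := by rw [hvu]; exact congrArg Subtype.val e
    rw [hconj] at e'
    have h1 := mul_right_cancel e'
    rw [← el_mul, el_inv, mul_inv_eq_iff_eq_mul, el_mul] at h1
    exact F.el_injective h1
  · have e' : cj (F.el s) (F.el v * y) = cj F.t (F.el v * y) := by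
      rw [hvu]; exact congrArg Subtype.val e
    rw [hconj, et] at e'
    have h1 := mul_right_cancel e'
    rw [← el_mul, el_inv, mul_inv_eq_iff_eq_mul, el_mul] at h1
    exact F.el_injective h1

theorem exists_special (hg : F.g.Both) (hG : NoTwo G) (hd : F.lab = labOne) {y : G}
    (hy : y ∈ F.NS) (hyS : y ∉ F.S) : ∃ p, F.Rep y p ∧ p.special = true := by
  obtain ⟨p, hp⟩ := F.exists_rep hg hd hy hyS
  obtain ⟨hv, hne⟩ := F.rep_valid hg hd hp
  refine ⟨p, hp, ?_⟩
  have h := analysis_pa p.pa p.s0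
  rw [List.all_eq_true] at h
  have h' := h p.qK hp.hK
  rw [List.all_eq_true] at h'
  have h'' := h' p.qC hp.hC
  simp only [Bool.or_eq_true, Bool.not_eq_true', decide_eq_true_eq] at h''
  rcases h'' with ((h'' | h'') | h'') | h''
  · exact absurd h'' hne
  · rw [show (⟨p.qK, p.qC, p.pa, p.s0⟩ : Act) = p from rfl, hv] at h''
    exact absurd h'' (by decide)
  · obtain ⟨c, -, hc⟩ := List.any_eq_true.1 h''
    exact (F.false_of_psi hg hG hd hp c hc).elim
  · exact h''

end Fr

end CfsgLib.InvTwoS6
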