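import Cfsg.Agent.Lib.InvTwoS6.SylowCase

/-!
# Labels for a group of order 64 containing `S` when only `t z` is fused with `t`
-/

set_option autoImplicit false

namespace CfsgLib.InvTwoS6

/-- The label of the inverse. -/
def inv3 (v : V3 × W2) : V3 × W2 := mul3 (mul3 v v) v

/-- A power of a label. -/
def pw3 (v : V3 × W2) (e : Bool) : V3 × W2 := cond e v (((false, false), false), (false, false))

/-- The pattern of this case. -/
def labOne : Lab := ⟨false, false, false, false, true⟩

/-- The four noncentral conjugates of `t` in `S`. -/
def nonC : List (V3 × W2) :=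
  [(((true, true), false), (true, false)), (((true, true), false), (true, true)),
    (((true, false), true), (false, false)), (((true, false), true), (false, true))]

/-- The central label of `t z`. -/
def lTZ : V3 × W2 := (((true, false), false), (false, true))

/-- The parameters of the action of `y`: images of `t a₁ a`, `t c₁`, `a`, and the square of `y`. -/
structure Act where
  qK : V3 × W2
  qC : V3 × W2
  pa : C3
  s0 : V3 × W2

/-- The image of `a₁`. -/
def Act.iA (p : Act) : V3 × W2 := mul3 (mul3 lTZ p.qK) (inv3 (C3.lbl p.pa))

/-- The image of `c₁`. -/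
def Act.iC (p : Act) : V3 × W2 := mul3 lTZ p.qC

/-- The action. -/
def Act.phi (p : Act) (v : V3 × W2) : V3 × W2 :=
  mul3 (mul3 (mul3 (pw3 lTZ v.1.1.1) (pw3 p.iA v.1.1.2)) (pw3 p.iC v.1.2))
    (mul3 (pw3 (C3.lbl p.pa) v.2.1) (pw3 (((false, false), false), (false, true)) v.2.2))

/-- All labels. -/
def all3 : List (V3 × W2) :=
  [false, true].flatMap fun i => [false, true].flatMap fun j => [false, true].flatMap fun k =>
    [false, true].flatMap fun l => [false, true].map fun m => (((i, j), k), (l, m))

/-- A homomorphism to `Bool` with value `true` at `t`. -/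
def psi (c : Bool × Bool × Bool) (v : V3 × W2) : Bool :=
  xor (xor v.1.1.1 (c.1 && v.1.1.2)) (xor (c.2.1 && v.1.2) (c.2.2 && v.2.1))

/-- Whether `v y` is an involution. -/
def Act.invol (p : Act) (v : V3 × W2) : Bool :=
  decide (mul3 (mul3 v (p.phi v)) p.s0 = (((false, false), false), (false, false)))

/-- Whether the class of `v y` under `S` has more than two elements. -/
def Act.big (p : Act) (v : V3 × W2) : Bool :=
  all3.any fun u => !(decide (mul3 u v = mul3 v (p.phi u))) &&
    !(decide (mul3 u v = mul3 (mul3 v (((false, false), false), (false, true))) (p.phi u)))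

/-- A kernel giving a contradiction. -/
def Act.goodPsi (p : Act) (c : Bool × Bool × Bool) : Bool :=
  !psi c p.s0 && all3.all fun v => decide (psi c (p.phi v) = psi c v) &&
    (!(labOne.inS v) || psi c v) && (psi c v || !p.invol v || p.big v)

/-- The exceptional actions. -/
def Act.special (p : Act) : Bool :=
  p.qK.1.1.2 && !p.qC.1.1.2 &&
    (decide (p.pa = (false, (true, false))) || decide (p.pa = (false, (true, true)))) &&
    !p.s0.1.1.1 && !p.s0.1.1.2 && !p.s0.1.2 && !p.s0.2.1

/-- Consistency of the parameters. -/
def Act.valid (p : Act) : Bool :=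
  decide (p.phi p.s0 = p.s0) &&
    [(((true, true), false), (true, false)), (((true, false), true), (false, false)),
      (((false, false), false), (true, false)),
      (((true, false), false), (false, false))].all fun v =>
        decide (mul3 (p.phi (p.phi v)) p.s0 = mul3 p.s0 v) &&
          decide (labOne.inS (p.phi v) = labOne.inS v)

/-- The list of candidates for the kernels. -/
def coefs : List (Bool × Bool × Bool) :=
  [(false, false, false), (true, false, false), (false, true, false), (true, true, false),
    (false, false, true), (true, false, true), (false, true, true), (true, true, true)]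

theorem analysis_pa : ∀ pa : C3, ∀ s0 : V3 × W2,
    nonC.all (fun qK => nonC.all fun qC => decide (qK.1 = qC.1) ||
      !(Act.valid ⟨qK, qC, pa, s0⟩) || coefs.any (Act.goodPsi ⟨qK, qC, pa, s0⟩) ||
        Act.special ⟨qK, qC, pa, s0⟩) = true := by
  decide +kernel

/-! ### The exceptional case -/

/-- Labels `t, a₁, c₁, a, y` modulo `z`. -/
abbrev V5 := ((V3 × Bool) × Bool)

/-- All labels with first coordinates arbitrary and `y`-coordinate true. -/
def outV : List V5 :=
  [false, true].flatMap fun i => [false, true].flatMap fun j => [false, true].flatMap fun k =>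
    [false, true].map fun l => ((((i, j), k), l), true)

/-- The value of the commutator form. -/
def bil5 (e : Bool) (u v : V5) : Bool :=
  xor (xor ((u.1.1.1.2 && v.1.1.2)) (u.1.1.2 && v.1.1.1.2))
    (xor (u.2 && xor v.1.1.1.1 (e && (xor v.1.1.1.2 v.1.2)))
      (v.2 && xor u.1.1.1.1 (e && (xor u.1.1.1.2 u.1.2))))

/-- The square. -/
def sq5 (e q : Bool) (u : V5) : Bool :=
  xor (u.1.1.2 && u.1.1.1.2)
    (xor (u.2 && xor u.1.1.1.1 (e && (xor u.1.1.1.2 u.1.2))) (u.2 && q))

/-- The conjugates of `t` inside `S`, modulo `z`. -/
def base5 : List V5 :=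
  [((((true, false), false), false), false), ((((true, true), false), true), false),
    ((((true, false), true), false), false)]

/-- A functional with value `true` at `t`. -/
def psi5 (c : Bool × Bool × Bool) (d : Bool) (v : V5) : Bool :=
  xor (xor v.1.1.1.1 (c.1 && v.1.1.1.2)) (xor (xor (c.2.1 && v.1.1.2) (c.2.2 && v.1.2)) (d && v.2))

/-- The product of labels modulo `z`. -/
def add5 (u v : V5) : V5 :=
  ((((xor u.1.1.1.1 v.1.1.1.1, xor u.1.1.1.2 v.1.1.1.2), xor u.1.1.2 v.1.1.2), xor u.1.2 v.1.2),
    xor u.2 v.2)

/-- The tests on a set `O` of classes outside `S`. -/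
def test5 (e : Bool) (O : List V5) : Bool :=
  (coefs.any fun c => [false, true].any fun d =>
      decide (((base5 ++ O).countP fun v => !psi5 c d v) % 2 = 0)) ||
    ([((((true, false), true), false), false), ((((true, true), false), true), false)] ++ O).any
      fun u => decide (((base5 ++ O).countP fun v => !bil5 e u v) ≠ 3)

theorem analysis_special : ∀ e q : Bool,
    (outV.filter fun u => !sq5 e q u).sublists.all (test5 e) = true := by
  decide +kernel

end CfsgLib.InvTwoS6
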