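import Cfsg.Agent.Lib.InvTwoS6.Labels
import Mathlib.Tactic.Linarith

/-!
# The possible fusion patterns, and the normalizer of `S`
-/

set_option autoImplicit false

namespace CfsgLib.InvTwoS6

/-- Booleans as numbers. -/
def bnat (x : Bool) : ℕ := cond x 1 0

/-- The constraints on the labels. -/
structure Lab.Ok (d : Lab) (n : ℕ) : Prop where
  ab : n % 2 = (bnat d.A + bnat d.B) % 2
  tab : n % 2 = (bnat d.TA + bnat d.TB) % 2
  j : n % 2 = (1 + bnat d.J) % 2

/-- The number of central conjugates. -/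
def Lab.orbit (d : Lab) : ℕ := 1 + bnat d.A + bnat d.B + bnat d.TA + bnat d.TB + bnat d.J

namespace Fr

variable {G : Type*} [Group G] {L : Type*} [Group L] (F : Fr G L)

theorem not_inT_one' : ¬ F.InT 1 := F.not_inT_one

variable [Finite G]

theorem nIn_range : F.nIn F.ρ.range = Nat.card {l : L // F.InT l} := by
  refine (Nat.card_congr (Equiv.ofBijective
    (fun l : {l : L // F.InT l} => (⟨F.ρ l.1, l.2, l.1, rfl⟩ : {u : G // u ∈ cls F.t ∧ u ∈ F.ρ.range}))
    ⟨fun x y h => Subtype.ext (F.inj (congrArg Subtype.val h)), ?_⟩)).symm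
  rintro ⟨_, hu, l, rfl⟩
  exact ⟨⟨l, hu⟩, rfl⟩

theorem card_range : Nat.card F.ρ.range = Nat.card L :=
  (Nat.card_congr (MonoidHom.ofInjective F.inj).toEquiv).symm

theorem parity_ab (hG : NoTwo G) :
    F.nT % 2 = (bnat F.lab.A + bnat F.lab.B) % 2 := by
  classical
  rw [F.parity_half hG F.ρ.range F.card_range, F.nIn_range,
    F.card_mod_two F.InT (fun x y h => F.inT_conj h) fun x h => F.sq_of_inT h,
    if_neg F.not_inT_one, if_neg F.not_inT_z]
  simp only [lab, bnat, zero_add, add_zero, Bool.cond_decide]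

/-- The kernel of a sign in the whole centralizer. -/
def signKer (s : L →* ℤˣ) : Subgroup G where
  carrier := {x | ∃ (i : Bool) (l : L), s l = 1 ∧ pw F.t i * F.ρ l = x}
  one_mem' := ⟨false, 1, map_one s, by simp⟩
  mul_mem' := by
    rintro _ _ ⟨i, l, hl, rfl⟩ ⟨j, m, hm, rfl⟩
    refine ⟨xor i j, l * m, by rw [map_mul, hl, hm, one_mul], ?_⟩
    rw [map_mul]
    cases i <;> cases j <;> simp only [pw_true, pw_false, one_mul, Bool.xor_false, Bool.false_xor, Bool.xor_self]
    · rw [← mul_assoc, ← mul_assoc, F.comm]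
    · simp only [mul_assoc]
    · simp only [mul_assoc]
      rw [← mul_assoc (F.ρ l) F.t, ← F.comm, mul_assoc, ← mul_assoc F.t F.t, F.sq, one_mul]
  inv_mem' := by
    rintro _ ⟨i, l, hl, rfl⟩
    refine ⟨i, l⁻¹, by rw [map_inv, hl, inv_one], ?_⟩
    have ht : F.t⁻¹ = F.t := inv_eq_of_mul_eq_one_right F.sq
    cases i <;> simp [ht, map_inv]
    rw [← map_inv, F.comm]

theorem card_signKer (s : L →* ℤˣ) {l₀ : L} (hl₀ : s l₀ = -1) :
    Nat.card (F.signKer s) = Nat.card L := by
  haveI := F.finite_L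
  refine Nat.card_congr (Equiv.ofBijective (fun x : L =>
    (if h : s x = 1 then ⟨pw F.t false * F.ρ x, false, x, h, rfl⟩
     else ⟨pw F.t true * F.ρ (x * l₀), true, x * l₀, by
      rw [map_mul, hl₀, (Int.units_eq_one_or (s x)).resolve_left h]; rfl, rfl⟩ : F.signKer s))
    ⟨?_, ?_⟩).symm
  · intro x y h
    dsimp only at h
    by_cases hx : s x = 1 <;> by_cases hy : s y = 1
    · rw [dif_pos hx, dif_pos hy] at h
      exact (F.pair_inj (Subtype.ext_iff.1 h)).2
    · rw [dif_pos hx, dif_neg hy] at h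
      exact absurd (F.pair_inj (Subtype.ext_iff.1 h)).1 (by decide)
    · rw [dif_neg hx, dif_pos hy] at h
      exact absurd (F.pair_inj (Subtype.ext_iff.1 h)).1 (by decide)
    · rw [dif_neg hx, dif_neg hy] at h
      exact mul_right_cancel (F.pair_inj (Subtype.ext_iff.1 h)).2
  · rintro ⟨_, i, l, hl, rfl⟩
    cases i
    · exact ⟨l, by simp [hl]⟩
    · refine ⟨l * l₀⁻¹, ?_⟩
      have hne : ¬ s (l * l₀⁻¹) = 1 := by rw [map_mul, map_inv, hl, hl₀]; decide
      apply Subtype.ext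
      simp only [hne, dite_false]
      simp

theorem parity_j (hG : NoTwo G) : F.nT % 2 = (1 + bnat F.lab.J) % 2 := by
  classical
  haveI := F.finite_L
  obtain ⟨s, sa, sz, s1, -⟩ := F.side.sgn
  have sb : s F.g.b = -1 := by rw [Gens.b, map_mul, sa, sz, mul_one]
  rw [F.parity_half hG (F.signKer s) (F.card_signKer s sa)]
  let f : {l : L // F.InT l ∧ s l = 1} ⊕ {l : L // F.TT l ∧ s l = 1} →
      {u : G // u ∈ cls F.t ∧ u ∈ F.signKer s} :=
    Sum.elim
      (fun l => ⟨F.ρ l.1, l.2.1, false, l.1, l.2.2, by simp⟩)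
      (fun l => ⟨F.t * F.ρ l.1, l.2.1, true, l.1, l.2.2, by simp⟩)
  have e : {u : G // u ∈ cls F.t ∧ u ∈ F.signKer s} ≃
      {l : L // F.InT l ∧ s l = 1} ⊕ {l : L // F.TT l ∧ s l = 1} :=
    (Equiv.ofBijective f
      ⟨fun x y h => by
        rcases x with x | x <;> rcases y with y | y <;>
          simp only [f, Sum.elim_inl, Sum.elim_inr, Subtype.mk.injEq] at h
        · exact congrArg Sum.inl (Subtype.ext (F.inj h))
        · exact absurd (F.pair_inj (i := false) (j := true) ((one_mul _).trans h)).1 (by decide)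
        · exact absurd (F.pair_inj (i := true) (j := false) (h.trans (one_mul _).symm)).1 (by decide)
        · exact congrArg Sum.inr (Subtype.ext (F.inj (mul_left_cancel h))),
      fun u => by
        obtain ⟨_, hu, i, l, hl, rfl⟩ := u
        cases i
        · exact ⟨Sum.inl ⟨l, by simpa [InT] using hu, hl⟩, Subtype.ext (by simp [f])⟩
        · exact ⟨Sum.inr ⟨l, by simpa [TT] using hu, hl⟩, Subtype.ext (by simp [f])⟩⟩).symm
  have hinv : ∀ x y : L, IsConj x y → (s x = 1 ↔ s y = 1) := fun x y h => by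
    obtain ⟨c, rfl⟩ := isConj_iff.1 h
    rw [map_mul, map_mul, map_inv, mul_inv_cancel_comm]
  unfold nIn
  rw [Nat.card_congr e, Nat.card_sum, Nat.add_mod,
    F.card_mod_two (fun l => F.InT l ∧ s l = 1) (fun x y h => and_congr (F.inT_conj h) (hinv x y h))
      (fun x h => F.sq_of_inT h.1),
    F.card_mod_two (fun l => F.TT l ∧ s l = 1) (fun x y h => and_congr (F.tt_conj h) (hinv x y h))
      (fun x h => F.sq_of_tt h.1)]
  simp only [F.not_inT_one, F.not_inT_z, F.tt_one, map_one, sa, sb, sz, lab, bnat,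
    show ((-1 : ℤˣ) = 1) = False from eq_false (by decide), and_false, and_true, if_false, if_true,
    zero_add, add_zero, Bool.cond_decide]
  omega

theorem parity_tab (hG : NoTwo G) : F.nT % 2 = (bnat F.lab.TA + bnat F.lab.TB) % 2 := by
  classical
  obtain ⟨s, sa, sz, -, -⟩ := F.side.sgn
  have sb : s F.g.b = -1 := by rw [Gens.b, map_mul, sa, sz, mul_one]
  have h := (F.twist s).parity_ab hG
  have hA : (F.twist s).InT (F.twist s).g.a ↔ F.TT F.g.a := F.twist_inT_neg s sa
  have hB : (F.twist s).InT (F.twist s).g.b ↔ F.TT F.g.b := F.twist_inT_neg s sb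
  have hn : (F.twist s).nT = F.nT := rfl
  rw [hn] at h
  simpa only [lab, hA, hB] using h

theorem lab_ok (hG : NoTwo G) : F.lab.Ok F.nT :=
  ⟨F.parity_ab hG, F.parity_tab hG, F.parity_j hG⟩

/-- The normalizer of `S`. -/
def NS : Subgroup G := Subgroup.normalizer (F.S : Set G)

theorem conj_mem_S {x : G} (hx : x ∈ F.NS) {s : G} (hs : s ∈ F.S) : x * s * x⁻¹ ∈ F.S :=
  (Subgroup.mem_normalizer_iff.1 hx s).1 hs

theorem mem_S_iff_NS {x : G} : x ∈ F.S ↔ x ∈ F.NS ∧ x * F.t = F.t * x :=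
  ⟨fun h => ⟨Subgroup.le_normalizer h, F.commute_t_of_mem h⟩,
    fun h => F.mem_S_of_normalize h.2 fun _ hs => F.conj_mem_S h.1 hs⟩

/-- Central labels. -/
def cenV (i : Bool) (w : W2) : V3 × W2 := (((i, false), false), w)

theorem central_label {v : V3 × W2} (hA : Commute (F.el v) F.A) (hC : Commute (F.el v) F.C) :
    ∃ i w, v = cenV i w := by
  have eA : F.el (((false, true), false), (false, false)) = F.A := by simp [SRel.el3]
  have eC : F.el (((false, false), true), (false, false)) = F.C := by simp [SRel.el3]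
  rw [← eA, Commute, SemiconjBy] at hA
  rw [← eC, Commute, SemiconjBy] at hC
  rw [show F.el = F.rel.layer3.el from rfl, SRel.el_mul3, SRel.el_mul3] at hA hC
  have hA' := F.el_injective hA
  have hC' := F.el_injective hC
  clear eA eC hA hC
  obtain ⟨⟨⟨i, j⟩, k⟩, w⟩ := v
  refine ⟨i, w, ?_⟩
  simp only [cenV, Prod.mk.injEq, true_and, and_true]
  obtain ⟨w1, w2⟩ := w
  cases i <;> cases j <;> cases k <;> cases w1 <;> cases w2 <;>
    first
    | exact ⟨rfl, rfl⟩
    | exact absurd hA' (by decide)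
    | exact absurd hC' (by decide)

/-- Burnside: the conjugates of `t` in the centre of `S` are conjugate in the normalizer. -/
theorem exists_NS {v : Bool} {w : W2} (h : F.el (cenV v w) ∈ cls F.t) :
    ∃ g ∈ F.NS, g⁻¹ * F.t * g = F.el (cenV v w) := by
  have hcent : ∀ x ∈ F.S, x * F.el (cenV v w) = F.el (cenV v w) * x := by
    intro x hx
    obtain ⟨u, rfl⟩ := F.mem_S_iff.1 hx
    rw [show F.el = F.rel.layer3.el from rfl, SRel.el_mul3, SRel.el_mul3]
    congr 1
    obtain ⟨⟨⟨i, j⟩, k⟩, w'⟩ := u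
    obtain ⟨w1, w2⟩ := w
    obtain ⟨w1', w2'⟩ := w'
    cases v <;> cases i <;> cases j <;> cases k <;> cases w1 <;> cases w2 <;> cases w1' <;>
      cases w2' <;> rfl
  obtain ⟨g, hg, hg'⟩ := F.exists_conj_S h F.card_S hcent
  exact ⟨g, Subgroup.mem_normalizer_iff.2 hg', hg⟩

/-- The orbit of `t` under the normalizer of `S`. -/
theorem orbit_NS (u : G) : (∃ k ∈ F.NS, k⁻¹ * F.t * k = u) ↔
    u ∈ cls F.t ∧ ∃ i w, F.el (cenV i w) = u := by
  constructor
  · rintro ⟨k, hk, rfl⟩
    refine ⟨⟨k, rfl⟩, ?_⟩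
    have hmem : k⁻¹ * F.t * k ∈ F.S := by
      have := F.conj_mem_S (inv_mem hk) F.t_mem
      rwa [inv_inv] at this
    have hcomm : ∀ s ∈ F.S, Commute (k⁻¹ * F.t * k) s := by
      intro s hs
      have h := F.commute_t_of_mem (F.conj_mem_S hk hs)
      show k⁻¹ * F.t * k * s = s * (k⁻¹ * F.t * k)
      calc k⁻¹ * F.t * k * s = k⁻¹ * (F.t * (k * s * k⁻¹)) * k := by group
        _ = k⁻¹ * (k * s * k⁻¹ * F.t) * k := by rw [h]
        _ = s * (k⁻¹ * F.t * k) := by group
    obtain ⟨v, hv⟩ := F.mem_S_iff.1 hmem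
    obtain ⟨i, w, rfl⟩ := F.central_label (v := v)
      (hv ▸ hcomm _ (F.rho_mem ⟨((true, false), (false, false)), by simp [Gens.uf, wv]⟩))
      (hv ▸ hcomm _ (F.rho_mem ⟨((false, true), (false, false)), by simp [Gens.uf, wv]⟩))
    exact ⟨i, w, hv⟩
  · rintro ⟨hu, i, w, rfl⟩
    exact F.exists_NS hu

theorem card_NS (hg : F.g.Both) : Nat.card F.NS = 32 * F.lab.orbit := by
  classical
  have h := card_orbit_mul F.NS F.S F.t {u | u ∈ cls F.t ∧ ∃ i w, F.el (cenV i w) = u}
    (fun u => (F.orbit_NS u).symm) (fun x => F.mem_S_iff_NS)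
  rw [F.card_S] at h
  rw [← h, mul_comm]
  congr 1
  have e : {p : Bool × W2 // F.lab.inS (cenV p.1 p.2) = true} ≃
      {u : G // u ∈ {u | u ∈ cls F.t ∧ ∃ i w, F.el (cenV i w) = u}} :=
    Equiv.ofBijective
      (fun p => ⟨F.el (cenV p.1.1 p.1.2), (F.mem_cls_el hg _).2 p.2, _, _, rfl⟩)
      ⟨fun p q h => by
        have := F.el_injective (Subtype.ext_iff.1 h)
        simp only [cenV, Prod.mk.injEq, and_true] at this
        exact Subtype.ext (Prod.ext this.1 this.2),
      fun u => by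
        obtain ⟨_, hu, i, w, rfl⟩ := u
        exact ⟨⟨(i, w), (F.mem_cls_el hg _).1 hu⟩, rfl⟩⟩
  rw [← Nat.card_congr e, Nat.card_eq_fintype_card, Fintype.card_subtype]
  obtain ⟨A, B, TA, TB, J⟩ := F.lab
  cases A <;> cases B <;> cases TA <;> cases TB <;> cases J <;> decide

end Fr

end CfsgLib.InvTwoS6
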