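import Cfsg.Agent.Lib.InvTwoS6.Reduce

/-!
# The centre of `S` has no orbit of length three or six under its normalizer
-/

set_option autoImplicit false

namespace CfsgLib.InvTwoS6

/-- Conjugation. -/
def cj {G : Type*} [Group G] (g x : G) : G := g * x * g⁻¹

theorem cj_mul {G : Type*} [Group G] (g x y : G) : cj g (x * y) = cj g x * cj g y := by
  simp only [cj]; group

theorem cj_cj {G : Type*} [Group G] (g h x : G) : cj g (cj h x) = cj (g * h) x := by
  simp only [cj]; group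

theorem cj_pw {G : Type*} [Group G] (g x : G) (i : Bool) : cj g (pw x i) = pw (cj g x) i := by
  cases i <;> simp [cj]

theorem cj_inj {G : Type*} [Group G] {g x y : G} (h : cj g x = cj g y) : x = y :=
  mul_left_cancel (mul_right_cancel h)

theorem cj_mem_cls {G : Type*} [Group G] {t g x : G} (h : x ∈ cls t) : cj g x ∈ cls t := by
  have := conj_mem_cls h g⁻¹
  rwa [inv_inv] at this

/-- Labels of the centre of `S`. -/
abbrev C3 := Bool × W2

/-- Sum of central labels. -/
def C3.add (x y : C3) : C3 := (xor x.1 y.1, W2.add x.2 y.2)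

/-- Scalar multiple. -/
def C3.smul (e : Bool) (x : C3) : C3 := cond e x (false, (false, false))

/-- A linear map fixing `z`, from the images of `t` and `a`. -/
def C3.lin (p q : C3) (x : C3) : C3 :=
  C3.add (C3.add (C3.smul x.1 p) (C3.smul x.2.1 q)) (false, (false, x.2.2))

/-- The full label of a central label. -/
def C3.lbl (x : C3) : V3 × W2 := Fr.cenV x.1 x.2

namespace Fr

variable {G : Type*} [Group G] {L : Type*} [Group L] (F : Fr G L)

/-- The element with a central label. -/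
def ce (x : C3) : G := F.el (C3.lbl x)

theorem ce_eq (x : C3) : F.ce x = pw F.t x.1 * wv F.a F.z x.2 := by
  simp [ce, C3.lbl, cenV, SRel.el3]

theorem ce_mul (x y : C3) : F.ce x * F.ce y = F.ce (C3.add x y) := by
  rw [ce, ce, el, SRel.el_mul3]
  obtain ⟨i, a, b⟩ := x
  obtain ⟨j, c, d⟩ := y
  cases i <;> cases j <;> cases a <;> cases b <;> cases c <;> cases d <;> rfl

theorem ce_injective : Function.Injective F.ce := fun x y h => by
  have := F.el_injective h
  simp only [C3.lbl, cenV, Prod.mk.injEq, and_true] at this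
  exact Prod.ext this.1 this.2

theorem ce_t : F.ce (true, (false, false)) = F.t := by simp [ce_eq]
theorem ce_a : F.ce (false, (true, false)) = F.a := by simp [ce_eq, wv]
theorem ce_z : F.ce (false, (false, true)) = F.z := by simp [ce_eq, wv]

variable [Finite G]

theorem sq_mem_z {x : G} (hx : x ∈ F.S) : x * x = 1 ∨ x * x = F.z := by
  obtain ⟨v, rfl⟩ := F.mem_S_iff.1 hx
  have h : mul3 v v = (((false, false), false), (false, false)) ∨
      mul3 v v = (((false, false), false), (false, true)) := by clear hx; revert v; decide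
  rw [el, SRel.el_mul3]
  rcases h with h | h <;> rw [h] <;> simp [SRel.el3, wv]

theorem fix_z {g : G} (hg : g ∈ F.NS) : cj g F.z = F.z := by
  have hq : F.A * F.C ∈ F.S :=
    mul_mem (F.rho_mem ⟨((true, false), (false, false)), by simp [Gens.uf, wv]⟩)
      (F.rho_mem ⟨((false, true), (false, false)), by simp [Gens.uf, wv]⟩)
  have hz : F.A * F.C * (F.A * F.C) = F.z := by
    simp only [A, C, z, ← map_mul, Gens.z, mul_assoc]
  have h := F.sq_mem_z (F.conj_mem_S hg hq)
  rw [show g * (F.A * F.C) * g⁻¹ * (g * (F.A * F.C) * g⁻¹) = cj g (F.A * F.C * (F.A * F.C)) by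
    simp only [cj]; group, hz] at h
  refine h.resolve_left fun h1 => ?_
  have h2 : F.z = 1 := cj_inj (g := g) (h1.trans (by simp [cj]))
  exact absurd (F.ce_injective (a₁ := (false, (false, true))) (a₂ := (false, (false, false)))
    (by rw [ce_z, ce_eq]; simp [h2])) (by decide)

theorem cj_central {g : G} (hg : g ∈ F.NS) (x : C3) : ∃ y, cj g (F.ce x) = F.ce y := by
  have hxS : F.ce x ∈ F.S := ⟨_, rfl⟩
  obtain ⟨v, hv⟩ := F.mem_S_iff.1 (F.conj_mem_S hg hxS)
  have hcomm : ∀ s ∈ F.S, Commute (g * F.ce x * g⁻¹) s := by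
    intro s hs
    have hs' := F.conj_mem_S (inv_mem hg) hs
    obtain ⟨u, hu⟩ := F.mem_S_iff.1 hs'
    have h : F.ce x * (g⁻¹ * s * g⁻¹⁻¹) = g⁻¹ * s * g⁻¹⁻¹ * F.ce x := by
      rw [← hu, ce, el, SRel.el_mul3, SRel.el_mul3]
      congr 1
      obtain ⟨i, a, b⟩ := x
      obtain ⟨⟨⟨p, j⟩, k⟩, c, d⟩ := u
      cases i <;> cases a <;> cases b <;> cases p <;> cases j <;> cases k <;> cases c <;>
        cases d <;> rfl
    rw [inv_inv] at h
    show g * F.ce x * g⁻¹ * s = s * (g * F.ce x * g⁻¹)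
    calc g * F.ce x * g⁻¹ * s = g * (F.ce x * (g⁻¹ * s * g)) * g⁻¹ := by group
      _ = s * (g * F.ce x * g⁻¹) := by rw [h]; group
  obtain ⟨i, w, rfl⟩ := F.central_label (v := v)
    (hv ▸ hcomm _ (F.rho_mem ⟨((true, false), (false, false)), by simp [Gens.uf, wv]⟩))
    (hv ▸ hcomm _ (F.rho_mem ⟨((false, true), (false, false)), by simp [Gens.uf, wv]⟩))
  exact ⟨(i, w), hv.symm⟩

theorem cj_lin {g : G} (hg : g ∈ F.NS) : ∃ p q : C3, ∀ x, cj g (F.ce x) = F.ce (C3.lin p q x) := by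
  obtain ⟨p, hp⟩ := F.cj_central hg (true, (false, false))
  obtain ⟨q, hq⟩ := F.cj_central hg (false, (true, false))
  rw [ce_t] at hp
  rw [ce_a] at hq
  refine ⟨p, q, fun x => ?_⟩
  have hs : ∀ (e : Bool) (y : C3), pw (F.ce y) e = F.ce (C3.smul e y) := fun e y => by
    cases e <;> simp [C3.smul, ce_eq, wv]
  obtain ⟨i, k, l⟩ := x
  rw [ce_eq, wv, cj_mul, cj_mul, cj_pw, cj_pw, cj_pw, hp, hq, F.fix_z hg, hs, hs, ← F.ce_z, hs,
    ← mul_assoc, ce_mul, ce_mul]
  congr 1
  cases l <;> rfl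

/-- An element of `NS` outside `S` moves every central conjugate of `t`. -/
theorem cj_ne {g : G} (hg : g ∈ F.NS) (hgS : g ∉ F.S) {x : C3} (hx : F.ce x ∈ cls F.t) :
    cj g (F.ce x) ≠ F.ce x := by
  obtain ⟨k, hk, hkx⟩ := F.exists_NS (v := x.1) (w := x.2) hx
  intro h
  have h' : k * g * k⁻¹ * F.t = F.t * (k * g * k⁻¹) := by
    have hx' : F.ce x = k⁻¹ * F.t * k := hkx.symm
    rw [hx', cj] at h
    calc k * g * k⁻¹ * F.t = k * (g * (k⁻¹ * F.t * k) * g⁻¹) * g * k⁻¹ := by group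
      _ = F.t * (k * g * k⁻¹) := by rw [h]; group
  have hmem : k * g * k⁻¹ ∈ F.S :=
    F.mem_S_iff_NS.2 ⟨mul_mem (mul_mem hk hg) (inv_mem hk), h'⟩
  apply hgS
  have := F.conj_mem_S (inv_mem hk) hmem
  rwa [inv_inv, show k⁻¹ * (k * g * k⁻¹) * k = g by group] at this

/-- An element of `NS` outside `S` and with square in `S`. -/
theorem exists_sq_mem (h64 : 64 ∣ Nat.card F.NS) :
    ∃ g ∈ F.NS, g ∉ F.S ∧ g * g ∈ F.S := by
  haveI : Fact (Nat.Prime 2) := ⟨Nat.prime_two⟩
  have hle : F.S ≤ F.NS := Subgroup.le_normalizer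
  have hc : Nat.card (F.S.subgroupOf F.NS) = 2 ^ 5 := by
    rw [Nat.card_congr (Subgroup.subgroupOfEquivOfLe hle).toEquiv, F.card_S]; rfl
  obtain ⟨P, hP, hSP⟩ := Sylow.exists_subgroup_card_pow_succ (G := F.NS) (p := 2) (n := 5)
    (by simpa using h64) hc
  obtain ⟨y, hy, hyS⟩ : ∃ y ∈ P, y ∉ F.S.subgroupOf F.NS := by
    by_contra hno
    simp only [not_exists, not_and, not_not] at hno
    have hd := Nat.le_of_dvd Nat.card_pos (Subgroup.card_dvd_of_le (show P ≤ F.S.subgroupOf F.NS from hno))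
    rw [hP, hc] at hd
    norm_num at hd
  have hidx : ((F.S.subgroupOf F.NS).subgroupOf P).index = 2 := by
    have hm := ((F.S.subgroupOf F.NS).subgroupOf P).card_mul_index
    rw [hP, Nat.card_congr (Subgroup.subgroupOfEquivOfLe hSP).toEquiv, hc] at hm
    omega
  refine ⟨y.1, y.2, fun h => hyS (Subgroup.mem_subgroupOf.2 h), ?_⟩
  exact Subgroup.mem_subgroupOf.1
    (Subgroup.mem_subgroupOf.1 (Subgroup.mul_self_mem_of_index_two hidx (⟨y, hy⟩ : P)))

theorem sixOrbit (hg : F.g.Both) (hd : F.lab = ⟨true, true, true, true, true⟩) : False := by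
  have h64 : 64 ∣ Nat.card F.NS := by
    rw [F.card_NS hg, hd]; decide
  obtain ⟨y, hy, hyS, hy2⟩ := F.exists_sq_mem h64
  obtain ⟨p, q, hpq⟩ := F.cj_lin hy
  have hin : ∀ x, (Lab.inS ⟨true, true, true, true, true⟩ (C3.lbl x)) = true →
      C3.lin p q x ≠ x ∧ Lab.inS ⟨true, true, true, true, true⟩ (C3.lbl (C3.lin p q x)) = true := by
    intro x hx
    have hmem : F.ce x ∈ cls F.t := (F.mem_cls_el hg _).2 (hd.symm ▸ hx)
    refine ⟨fun e => F.cj_ne hy hyS hmem (by rw [hpq, e]), ?_⟩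
    have h2 : F.ce (C3.lin p q x) ∈ cls F.t := hpq x ▸ cj_mem_cls hmem
    exact hd ▸ (F.mem_cls_el hg _).1 h2
  have hinv : ∀ x, C3.lin p q (C3.lin p q x) = x := fun x => by
    apply F.ce_injective
    rw [← hpq, ← hpq, cj_cj, cj]
    have hc : y * y * F.ce x = F.ce x * (y * y) := by
      obtain ⟨u, hu⟩ := F.mem_S_iff.1 hy2
      rw [← hu, ce, el, SRel.el_mul3, SRel.el_mul3]
      congr 1
      obtain ⟨i, a, b⟩ := x
      obtain ⟨⟨⟨p, j⟩, k⟩, c, d⟩ := u
      cases i <;> cases a <;> cases b <;> cases p <;> cases j <;> cases k <;> cases c <;>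
        cases d <;> rfl
    rw [hc, mul_inv_cancel_right]
  revert hin hinv
  clear hpq
  revert p q
  decide

end Fr

end CfsgLib.InvTwoS6
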