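import Cfsg.Agent.Lib.InvTwoS6.R1
import Cfsg.Agent.Lib.InvTwoS6.LayerSub

/-!
# The pattern in which all of `t z`, `t a`, `t b` are fused with `t`
-/

set_option autoImplicit false

namespace CfsgLib.InvTwoS6

/-- The pattern of this case. -/
def labTwo : Lab := ⟨false, false, true, true, true⟩

/-- Noncentral involutions of `S` inside the complement. -/
def isNC (v : V3 × W2) : Bool := !v.1.1.1 && xor v.1.1.2 v.1.2

theorem isNC_iff : ∀ v : V3 × W2, isNC v = true ↔
    (mul3 v v = (((false, false), false), (false, false)) ∧ isCen v = false ∧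
      labTwo.inS v = false) := by
  decide +kernel

theorem isNC_prod : ∀ u v : V3 × W2, isNC u = true → isNC v = true →
    (u.1 = v.1 ↔ isCen (mul3 u v) = true) := by
  decide +kernel

theorem inS_two_cen : ∀ x : C3, labTwo.inS (C3.lbl x) = x.1 := by decide

theorem inS_two : ∀ v : V3 × W2, labTwo.inS v = true ↔
    v.1 ∈ ([((true, false), false), ((true, true), false), ((true, false), true)] : List V3) := by
  decide

theorem sum_two :
    Fintype.card {v : V3 × W2 // labTwo.inS v = true} = 12 := by decide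

theorem comm_of_cj {G : Type*} [Group G] {g x : G} (h : cj g x = x) : g * x = x * g := by
  calc g * x = cj g x * g := by simp [cj]
    _ = x * g := by rw [h]

theorem cj_of_comm {G : Type*} [Group G] {g x : G} (h : g * x = x * g) : cj g x = x := by
  rw [cj, h, mul_inv_cancel_right]

namespace Fr

variable {G : Type*} [Group G] {L : Type*} [Group L] (F : Fr G L) [Finite G]

theorem wv_eq (w : W2) : wv F.a F.z w = F.ce (false, w) := by simp [ce_eq]

theorem t_mul_a : F.t * F.a = F.ce (true, (true, false)) := by simp [ce_eq, wv]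

theorem t_mul_b : F.t * F.b = F.ce (true, (true, true)) := by simp [ce_eq, wv, b_eq]

theorem b_ce : F.b = F.ce (false, (true, true)) := by simp [ce_eq, wv, b_eq]

theorem z_ne_one : F.z ≠ 1 := fun h => by
  have e : F.ce (false, (false, true)) = F.ce (false, (false, false)) := by
    rw [ce_z, h]; simp [ce_eq, wv]
  exact absurd (F.ce_injective e) (by decide)

theorem cj_S {g v : G} (hg : g ∈ F.NS) (hv : v ∈ F.S) : ∃ u, cj g v = F.el u := by
  obtain ⟨u, hu⟩ := F.mem_S_iff.1 (F.conj_mem_S hg hv)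
  exact ⟨u, hu.symm⟩

theorem mem_S_of_cj {g : G} (hg : g ∈ F.NS) (h : cj g F.t = F.t) : g ∈ F.S :=
  F.mem_S_iff_NS.2 ⟨hg, comm_of_cj h⟩

theorem cj_of_mem_S {g : G} (hg : g ∈ F.S) (x : C3) : cj g (F.ce x) = F.ce x := by
  obtain ⟨u, rfl⟩ := F.mem_S_iff.1 hg
  apply cj_of_comm
  rw [ce, el_mul, el_mul]
  congr 1
  obtain ⟨i, a, b⟩ := x
  obtain ⟨⟨⟨p, j⟩, k⟩, c, d⟩ := u
  cases i <;> cases a <;> cases b <;> cases p <;> cases j <;> cases k <;> cases c <;>
    cases d <;> rfl

theorem eq_coset {g h : G} (hg : g ∈ F.NS) (hh : h ∈ F.NS) (e : cj g F.t = cj h F.t) :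
    h⁻¹ * g ∈ F.S :=
  F.mem_S_of_cj (mul_mem (inv_mem hh) hg) (by
    rw [← cj_cj, e, cj_cj, inv_mul_cancel]
    simp [cj])

theorem cj_t (hg : F.g.Both) (hd : F.lab = labTwo) {g : G} (hgn : g ∈ F.NS) :
    ∃ w, cj g F.t = F.ce (true, w) := by
  obtain ⟨⟨i, w⟩, hy⟩ := F.cj_central hgn (true, (false, false))
  rw [ce_t] at hy
  have h : F.lab.inS (C3.lbl (i, w)) = true :=
    (F.mem_cls_el hg _).1 (hy ▸ cj_mem_cls (self_mem_cls _) : F.ce (i, w) ∈ _)
  rw [hd, inS_two_cen] at h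
  exact ⟨w, by rw [hy]; congr⟩

theorem cj_a (hg : F.g.Both) (hd : F.lab = labTwo) {g : G} (hgn : g ∈ F.NS) :
    cj g F.a = F.a ∨ cj g F.a = F.b := by
  obtain ⟨⟨i, l, m⟩, hy⟩ := F.cj_central hgn (false, (true, false))
  rw [ce_a] at hy
  have hi : i = false := by
    cases i
    · rfl
    exfalso
    have h2 : F.ce (true, (l, m)) ∈ cls F.t := (F.mem_cls_el hg _).2 (by rw [hd]; exact inS_two_cen _)
    have h3 := cj_mem_cls (g := g⁻¹) h2
    rw [← hy, cj_cj, inv_mul_cancel, show cj 1 F.a = F.a by simp [cj], ← ce_a] at h3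
    have h4 := (F.mem_cls_el hg _).1 h3
    rw [hd, inS_two_cen] at h4
    exact absurd h4 (by decide)
  subst hi
  cases l
  · exfalso
    cases m
    · rw [show F.ce (false, (false, false)) = cj g 1 by simp [ce_eq, wv, cj]] at hy
      have e : F.ce (false, (true, false)) = F.ce (false, (false, false)) := by
        rw [ce_a, cj_inj hy]; simp [ce_eq, wv]
      exact absurd (F.ce_injective e) (by decide)
    · rw [ce_z, ← F.fix_z hgn] at hy
      have e : F.ce (false, (true, false)) = F.ce (false, (false, true)) := by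
        rw [ce_a, ce_z, cj_inj hy]
      exact absurd (F.ce_injective e) (by decide)
  · cases m
    · exact Or.inl (by rw [hy, ce_a])
    · exact Or.inr (by rw [hy, b_ce])

theorem exists_cj_t (hg : F.g.Both) (hd : F.lab = labTwo) (w : W2) :
    ∃ g ∈ F.NS, cj g F.t = F.ce (true, w) := by
  obtain ⟨g, hgn, e⟩ := F.exists_NS (v := true) (w := w)
    ((F.mem_cls_el hg _).2 (by rw [hd]; exact inS_two_cen (true, w)))
  exact ⟨g⁻¹, inv_mem hgn, by rw [cj, inv_inv]; exact e⟩

/-! ### The other side -/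

variable {hB : F.g.swap.Side}

theorem swap_t : (F.swap hB).t = F.t := rfl

theorem swap_a : (F.swap hB).a = F.b := by
  show F.ρ (F.g.a * F.g.z) = F.ρ F.g.b
  rfl

theorem swap_z : (F.swap hB).z = F.z := congrArg F.ρ (Gens.swap_z F.g F.side)

theorem swap_b : (F.swap hB).b = F.a := by
  rw [b_eq, swap_a, swap_z, b_eq, mul_assoc, F.rel.hz, mul_one]

theorem swap_A : (F.swap hB).A = F.C * F.a := map_mul _ _ _

theorem swap_C : (F.swap hB).C = F.A * F.a := map_mul _ _ _

theorem swap_S : (F.swap hB).S = F.S := by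
  refine Subgroup.eq_of_le_of_card_ge ?_ (by rw [card_S, card_S])
  rintro x ⟨v, rfl⟩
  have ht : F.t ∈ F.S := F.t_mem
  have ha : F.a ∈ F.S := ⟨C3.lbl (false, (true, false)), F.ce_a⟩
  have hz : F.z ∈ F.S := ⟨C3.lbl (false, (false, true)), F.ce_z⟩
  have hA : F.A ∈ F.S := ⟨(((false, true), false), (false, false)), by simp [SRel.el3]⟩
  have hC : F.C ∈ F.S := ⟨(((false, false), true), (false, false)), by simp [SRel.el3]⟩
  have hp : ∀ (u : G) (e : Bool), u ∈ F.S → pw u e ∈ F.S := fun u e hu => by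
    cases e
    · exact one_mem _
    · exact hu
  show (F.swap hB).rel.layer3.el v ∈ F.S
  rw [SRel.el3, wv, swap_t, swap_A, swap_C, swap_a, swap_z, b_eq]
  exact mul_mem (mul_mem (mul_mem (hp _ _ ht) (hp _ _ (mul_mem hC ha))) (hp _ _ (mul_mem hA ha)))
    (mul_mem (hp _ _ (mul_mem ha hz)) (hp _ _ hz))

theorem swap_NS : (F.swap hB).NS = F.NS := by simp only [NS, swap_S]

theorem swap_lab (hd : F.lab = labTwo) : (F.swap hB).lab = labTwo := by
  classical
  simp only [lab, labTwo, Lab.mk.injEq, decide_eq_true_eq, decide_eq_false_iff_not] at hd ⊢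
  obtain ⟨nA, nB, hTA, hTB, hJ⟩ := hd
  have ha : (F.swap hB).g.a = F.g.b := rfl
  have hz : (F.swap hB).g.z = F.g.z := Gens.swap_z F.g F.side
  have hb : (F.swap hB).g.b = F.g.a := by
    show F.g.a * F.g.z * F.g.swap.z = F.g.a
    rw [Gens.swap_z F.g F.side, mul_assoc, F.side.sq_z, mul_one]
  rw [ha, hb, hz]
  exact ⟨nB, nA, hTB, hTA, hJ⟩

/-! ### Action on noncentral involutions -/

theorem cj_isNC (hg : F.g.Both) (hd : F.lab = labTwo) {g : G} (hgn : g ∈ F.NS) {v : V3 × W2}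
    (hv : isNC v = true) : ∃ v', cj g (F.el v) = F.el v' ∧ isNC v' = true := by
  obtain ⟨v', hv'⟩ := F.cj_S hgn (⟨v, rfl⟩ : F.el v ∈ F.S)
  obtain ⟨h1, h2, h3⟩ := (isNC_iff v).1 hv
  refine ⟨v', hv', (isNC_iff v').2 ⟨?_, ?_, ?_⟩⟩
  · apply F.el_injective
    rw [← el_mul, el_one, ← hv', ← cj_mul, el_mul, h1, el_one]
    simp [cj]
  · by_contra hcen
    rw [Bool.not_eq_false, isCen_iff_ce] at hcen
    obtain ⟨x, rfl⟩ := hcen
    obtain ⟨y, hy⟩ := F.cj_central (inv_mem hgn) x
    have : F.el v = F.ce y := by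
      rw [← hy, show F.ce x = cj g (F.el v) from hv'.symm, cj_cj, inv_mul_cancel]
      simp [cj]
    rw [F.el_injective this] at h2
    simp [isCen, C3.lbl, cenV] at h2
  · by_contra hin
    rw [Bool.not_eq_false, ← hd, ← F.mem_cls_el hg] at hin
    have h4 := cj_mem_cls (g := g⁻¹) hin
    rw [← hv', cj_cj, inv_mul_cancel, show cj 1 (F.el v) = F.el v by simp [cj],
      F.mem_cls_el hg, hd, h3] at h4
    exact absurd h4 (by decide)

theorem cj_isNC_ne {g : G} (hgn : g ∈ F.NS) {u v u' v' : V3 × W2} (hu : cj g (F.el u) = F.el u')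
    (hv : cj g (F.el v) = F.el v') (nu : isNC u = true) (nv : isNC v = true)
    (nu' : isNC u' = true) (nv' : isNC v' = true) (hne : u.1 ≠ v.1) : u'.1 ≠ v'.1 := fun e => by
  obtain ⟨x, hx⟩ := isCen_iff_ce.1 ((isNC_prod _ _ nu' nv').1 e)
  obtain ⟨y, hy⟩ := F.cj_central (inv_mem hgn) x
  have h1 : F.el (mul3 u v) = F.ce y := by
    rw [← hy, show F.ce x = F.el (C3.lbl x) from rfl, hx, ← F.el_mul u v, ← F.el_mul u' v', ← hu, ← hv, ← cj_mul,
      cj_cj, inv_mul_cancel]
    simp [cj]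
  exact hne ((isNC_prod _ _ nu nv).2 (isCen_iff_ce.2 ⟨y, (F.el_injective h1).symm⟩))

/-- The image of `c₁`: a square of an element centralizing `t` and a central involution. -/
theorem cj_root {g : G} (hgn : g ∈ F.NS) {x w : L} (e : x * w = w * x)
    (hgt : cj g F.t = F.t * F.a) (hgw : cj g (F.ρ w) = F.a) (hS : F.ρ (x * x) ∈ F.S)
    (h1 : F.ρ (x * x) ≠ 1) (hz : F.ρ (x * x) ≠ F.z) :
    ∃ m, cj g (F.ρ (x * x)) = F.el (((false, false), true), (false, m)) := by
  have ct : cj g (F.ρ x) * (F.t * F.a) = F.t * F.a * cj g (F.ρ x) := by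
    rw [← hgt, ← cj_mul, ← cj_mul, F.comm]
  have ca : cj g (F.ρ x) * F.a = F.a * cj g (F.ρ x) := by
    rw [← hgw, ← cj_mul, ← cj_mul, ← map_mul, ← map_mul, e]
  have ct' : cj g (F.ρ x) * F.t = F.t * cj g (F.ρ x) := by
    apply mul_right_cancel (b := F.a)
    rw [mul_assoc, ct, mul_assoc, mul_assoc, ca]
  obtain ⟨i, x', hx⟩ := F.cent _ ct'
  have hxa : x' * F.g.a = F.g.a * x' := by
    apply F.inj
    apply mul_left_cancel (a := pw F.t i)
    rw [map_mul, map_mul, show F.ρ F.g.a = F.a from rfl, ← mul_assoc, hx, ca, ← hx, ← mul_assoc,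
      ← mul_assoc]
    congr 1
    cases i
    · simp
    · exact (F.comm _).symm
  have hsq : cj g (F.ρ (x * x)) = F.ρ (x' * x') := by
    rw [map_mul, cj_mul, ← hx, map_mul]
    cases i
    · simp
    · simp only [pw_true]
      rw [mul_assoc, ← mul_assoc (F.ρ x'), ← F.comm, ← mul_assoc, ← mul_assoc, F.sq, one_mul]
  obtain ⟨v, hv⟩ := F.cj_S hgn hS
  have hU : F.g.InU (x' * x') := by
    rw [hsq, F.el_eq] at hv
    exact ⟨_, (F.pair_inj (i := v.1.1.1) (j := false) (hv.symm.trans (one_mul _).symm)).2⟩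
  rcases F.side.sqrule x' hxa hU with h | h | h | h
  · rw [h, map_one] at hsq
    exact absurd (cj_inj (g := g) (hsq.trans (by simp [cj]))) h1
  · rw [h, show F.ρ F.g.z = F.z from rfl, ← F.fix_z hgn] at hsq
    exact absurd (cj_inj hsq) hz
  · exact ⟨false, by rw [hsq, h]; simp [SRel.el3, wv]; rfl⟩
  · exact ⟨true, by rw [hsq, h, map_mul]; simp [SRel.el3, wv]; rfl⟩

end Fr

end CfsgLib.InvTwoS6
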